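import Cfsg.Agent.Mrg.Omega.NOThreeL.RTools.HypA
import Cfsg.Agent.Omega.IId.Big.RedTool
import Cfsg.Agent.Omega.OM.KTwo.FormOf

section


/-!
# Case (E), `d = 1`, `|N₁ : C(N₂)| = 2` (#18644 of helper118): (3), (4), linear algebra (helper178)

`Form U PP B` of `NOThreeL/RTools/Symp.lean` (an alternating form with a connected set of points):

* `Form.all_points` : (3) if one totally isotropic line consists of points then all vectors `≠ 1` are points;
* `Form.rad_eq` : the radical is trivial;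
* `Form.bot_or_perp` : (4) a subgroup of `e^⊥` containing `e`, absorbing the points of `e^⊥`, is `⟨e⟩` or `e^⊥`.
-/

set_option autoImplicit false

namespace Cfsg.Agent.Omega.OM.KTwo.OneSymp

open Subgroup Cfsg.Agent.Omega.NOThreeL.RTools.Symp

variable {G : Type*} [Group G] {U : Subgroup G} {PP : Set G} {B : G → G → ℤˣ}

/-- the point `x` lies on a totally isotropic line of points -/
def OnLine (PP : Set G) (B : G → G → ℤˣ) (x : G) : Prop := ∃ y ∈ PP, y ≠ x ∧ B x y = 1 ∧ x * y ∈ PP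

/-- two points with the same image modulo the radical are equal -/
def Inj (U : Subgroup G) (PP : Set G) (B : G → G → ℤˣ) : Prop :=
  ∀ p ∈ PP, ∀ q ∈ PP, (∀ y ∈ U, B (p * q) y = 1) → p = q

variable (F : Form U PP B)
include F

/-- no point lies in the radical if there are two points -/
theorem not_rad {x y : G} (hx : x ∈ PP) (hy : y ∈ PP) (hne : x ≠ y) {p : G} (hp : p ∈ PP) :
    ∃ w ∈ PP, B p w = -1 := by
  by_contra hc
  push Not at hc
  have h1 : ({p} : Set G) = PP := F.conn {p} (by rintro _ rfl; exact hp) ⟨p, rfl⟩ (by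
    rintro _ rfl p' hp' h2
    exact absurd h2 (hc p' hp'))
  have h2 : x ∈ ({p} : Set G) := h1 ▸ hx
  have h3 : y ∈ ({p} : Set G) := h1 ▸ hy
  exact hne (h2.trans h3.symm)

theorem ne_one {p w : G} (hw : w ∈ PP) (h : B p w = -1) : p ≠ 1 := by
  rintro rfl
  rw [F.one_left (F.sub w hw)] at h
  exact absurd h (by decide)

/-- the transvection at the point `c` (`B x c = -1`) -/
theorem onLine_step {x x' : G} (hx : x ∈ PP) (hx' : x' ∈ PP) (h : B x x' = -1) (hl : OnLine PP B x) :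
    OnLine PP B x' := by
  obtain ⟨y, hy, hyx, hB, hxy⟩ := hl
  have hxU := F.sub x hx
  have hx'U := F.sub x' hx'
  have hyU := F.sub y hy
  have hcom := F.comm x hxU x' hx'U
  have hsq := F.sq x hxU
  have hsq' := F.sq x' hx'U
  have hx'x : B x' x = -1 := by rw [F.symm x' hx'U x hxU, h]
  have hc : x * x' ∈ PP := F.tr x hx x' hx' h
  have hcU := F.sub _ hc
  -- `y` is replaced by its image under the transvection at `x x'`
  by_cases hyc : B y (x * x') = 1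
  · -- `y` is fixed
    have hyx' : B y x' = 1 := by
      rw [F.mul y hyU x hxU x' hx'U, F.symm y hyU x hxU, hB, one_mul] at hyc
      exact hyc
    refine ⟨y, hy, ?_, by rw [F.symm x' hx'U y hyU, hyx'], ?_⟩
    · rintro rfl
      rw [hB] at h
      exact absurd h (by decide)
    · -- `x' y = (x y) (x x')`
      have h1 : B (x * y) (x * x') = -1 := by
        rw [F.mul_left hxU hyU hcU, F.mul x hxU x hxU x' hx'U, F.self x hxU, h, hyc]
        decide
      have h2 := F.tr _ hxy _ hc h1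
      have h3 : x * y * (x * x') = x' * y := by
        rw [F.comm x hxU y hyU, mul_assoc, ← mul_assoc x x x', hsq, one_mul, F.comm y hyU x' hx'U]
      rwa [h3] at h2
  · have hyc := Form.ne_of hyc
    have hyx' : B y x' = -1 := by
      rw [F.mul y hyU x hxU x' hx'U, F.symm y hyU x hxU, hB, one_mul] at hyc
      exact hyc
    have hy1 : y * (x * x') ∈ PP := F.tr y hy _ hc hyc
    have hy1U := F.sub _ hy1
    refine ⟨y * (x * x'), hy1, ?_, ?_, ?_⟩
    · intro h1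
      apply hyx
      have h2 : y * x = 1 := by
        have h3 : y * x * x' = x' := by rw [mul_assoc]; exact h1
        exact mul_eq_right.1 h3
      rw [mul_eq_one_iff_eq_inv, F.inv hxU] at h2
      exact h2
    · rw [F.mul x' hx'U y hyU _ hcU, F.mul x' hx'U x hxU x' hx'U, F.self x' hx'U, hx'x, F.symm x' hx'U y hyU, hyx']
      decide
    · -- `x' * (y x x') = x y`
      have h3 : x' * (y * (x * x')) = x * y := by
        rw [hcom, ← mul_assoc, ← mul_assoc, F.comm x' hx'U y hyU, mul_assoc y x' x', hsq', mul_one,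
          F.comm y hyU x hxU]
      rw [h3]
      exact hxy

/-- all points lie on a totally isotropic line of points -/
theorem onLine_all {x : G} (hx : x ∈ PP) (hl : OnLine PP B x) {p : G} (hp : p ∈ PP) : OnLine PP B p := by
  have h := F.conn {p | p ∈ PP ∧ OnLine PP B p} (fun p hp => hp.1) ⟨x, hx, hl⟩ (by
    rintro p ⟨hp, hl⟩ p' hp' h
    exact ⟨hp', onLine_step F hp hp' h hl⟩)
  have h1 : p ∈ {p | p ∈ PP ∧ OnLine PP B p} := by rw [h]; exact hp
  exact h1.2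

/-- **(3)** for the point `x` -/
theorem mul_mem_of_perp (inj : Inj U PP B) {x : G} (hx : x ∈ PP) (hl : OnLine PP B x) {p : G} (hp : p ∈ PP)
    (hpx : p ≠ x) (h : B x p = 1) : x * p ∈ PP := by
  have hxU := F.sub x hx
  obtain ⟨y, hy, hyx, hxy, hxyP⟩ := hl
  have hnr : ∀ p ∈ PP, ∃ w ∈ PP, B p w = -1 := fun p hp => not_rad F hy hx hyx hp
  set GG : Set G := {y | y ∈ PP ∧ y ≠ x ∧ B x y = 1 ∧ x * y ∈ PP} with hGG
  -- (i)
  have step : ∀ y ∈ GG, ∀ y' ∈ PP, B x y' = 1 → B y y' = -1 → y' ∈ GG := by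
    rintro y ⟨hy, hyx, hxy, hxyP⟩ y' hy' h1 h2
    have hyU := F.sub y hy
    have hy'U := F.sub y' hy'
    have hxyU := U.mul_mem hxU hyU
    have h3 : x * y * y' ∈ PP := F.tr _ hxyP y' hy' (by rw [F.mul_left hxU hyU hy'U, h1, h2, one_mul])
    have h4 : x * y * y' * y ∈ PP := F.tr _ h3 y hy (by
      rw [F.mul_left hxyU hy'U hyU, F.mul_left hxU hyU hyU, hxy, F.self y hyU, F.symm y' hy'U y hyU, h2]
      decide)
    have h5 : x * y * y' * y = x * y' := by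
      rw [mul_assoc (x * y), F.comm y' hy'U y hyU, mul_assoc x, ← mul_assoc y y, F.sq y hyU, one_mul]
    rw [h5] at h4
    refine ⟨hy', ?_, h1, h4⟩
    rintro rfl
    rw [F.symm y hyU y' hy'U, hxy] at h2
    exact absurd h2 (by decide)
  have hyG : y ∈ GG := ⟨hy, hyx, hxy, hxyP⟩
  have hyU := F.sub y hy
  have hxyG : x * y ∈ GG := by
    refine ⟨hxyP, ?_, ?_, ?_⟩
    · intro h1
      obtain ⟨w, hw, h2⟩ := hnr y hy
      exact ne_one F hw h2 (mul_eq_left.1 h1)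
    · rw [F.mul x hxU x hxU y hyU, F.self x hxU, hxy, one_mul]
    · rw [← mul_assoc, F.sq x hxU, one_mul]
      exact hy
  set B0 : Subgroup G := closure GG with hB0
  have hGB : ∀ y ∈ GG, y ∈ B0 := fun y hy => subset_closure hy
  have hxB : x ∈ B0 := by
    have h1 := mul_mem (hGB _ hxyG) (hGB _ hyG)
    rwa [mul_assoc, F.sq y hyU, mul_one] at h1
  have hB : ∀ b ∈ B0, b ∈ U ∧ B x b = 1 := fun b hb =>
    F.eq_one_of_closure (A := GG) (fun a ha => F.sub a ha.1) hxU (fun a ha => ha.2.2.1) hb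
  have hgen : B0 ≤ closure {p | p ∈ PP ∧ p ∈ B0} := closure_mono fun p hp => ⟨hp.1, hGB p hp⟩
  -- a point not perpendicular to `B0` lies in `GG`
  have hpG : ∀ p ∈ PP, B x p = 1 → (∃ b ∈ B0, B p b = -1) → p ∈ GG := by
    rintro p hp h1 ⟨b, hb, h2⟩
    by_contra hc
    have h3 := (F.eq_one_of_closure (A := GG) (fun a ha => F.sub a ha.1) (F.sub p hp) (fun a ha => by
      by_contra h4
      exact hc (step a ha p hp h1 (by
        rw [F.symm a (F.sub a ha.1) p (F.sub p hp)]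
        exact Form.ne_of h4))) hb).2
    rw [h3] at h2
    exact absurd h2 (by decide)
  have habs : ∀ p ∈ PP, B x p = 1 → (∃ a ∈ B0, B p a = -1) → p ∈ B0 := fun p hp h1 h2 =>
    hGB p (hpG p hp h1 h2)
  have hnot : ∃ a ∈ B0, ∃ b ∈ B0, B a b = -1 := by
    by_contra hcon
    push Not at hcon
    rcases F.iso_le hx (fun a ha => (hB a ha).1) habs
      (fun a ha b hb => by
        by_contra h1
        exact hcon a ha b hb (Form.ne_of h1)) (hGB _ hyG) with h1 | h1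
    · obtain ⟨w, hw, h2⟩ := hnr y hy
      rw [h1 w (F.sub w hw)] at h2
      exact absurd h2 (by decide)
    · exact hyx (inj y hy x hx h1)
  have hfull : ∀ u ∈ U, B x u = 1 → u ∈ B0 := fun u hu h1 =>
    F.full hx (fun p hp h2 => inj p hp x hx h2) hxB hB hgen habs hnot hu h1
  -- the point `p`
  have hpU := F.sub p hp
  have h1 : ∃ b ∈ B0, B p b = -1 := by
    by_contra hcon
    push Not at hcon
    rcases F.rad_or hxU hpU (fun y hy h2 => by
      by_contra h3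
      exact hcon y (hfull y hy h2) (Form.ne_of h3)) with h2 | h2
    · obtain ⟨w, hw, h3⟩ := hnr p hp
      rw [h2 w (F.sub w hw)] at h3
      exact absurd h3 (by decide)
    · exact hpx (inj p hp x hx h2)
  exact (hpG p hp h h1).2.2.2

/-- **(3)**: if one totally isotropic line consists of points then all vectors `≠ 1` are points. -/
theorem all_points (inj : Inj U PP B) {x : G} (hx : x ∈ PP) (hl : OnLine PP B x) {u : G} (hu : u ∈ U)
    (hu1 : u ≠ 1) : u ∈ PP := by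
  have key : ∀ p ∈ PP, ∀ q ∈ PP, p * q = 1 ∨ p * q ∈ PP := by
    intro p hp q hq
    by_cases hpq : q = p
    · left
      rw [hpq, F.sq p (F.sub p hp)]
    · right
      by_cases h1 : B p q = 1
      · exact mul_mem_of_perp F inj hp (onLine_all F hx hl hp) hq hpq h1
      · exact F.tr p hp q hq (Form.ne_of h1)
  have h1 : u = 1 ∨ u ∈ PP := by
    refine closure_induction (p := fun u _ => u = 1 ∨ u ∈ PP) ?_ ?_ ?_ ?_ (F.gen hu)
    · exact fun p hp => Or.inr hp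
    · exact Or.inl rfl
    · rintro a b _ _ ha hb
      rcases ha with rfl | ha
      · rw [one_mul]; exact hb
      · rcases hb with rfl | hb
        · rw [mul_one]; exact Or.inr ha
        · exact key a ha b hb
    · rintro a _ ha
      rcases ha with rfl | ha
      · rw [inv_one]; exact Or.inl rfl
      · rw [F.inv (F.sub a ha)]; exact Or.inr ha
  exact h1.resolve_left hu1

/-- the radical is trivial -/
theorem rad_eq (inj : Inj U PP B) {x : G} (hx : x ∈ PP) (hl : OnLine PP B x) {u : G} (hu : u ∈ U)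
    (h : ∀ y ∈ U, B u y = 1) : u = 1 := by
  by_contra hu1
  have h1 := all_points F inj hx hl hu hu1
  obtain ⟨y, hy, hyx, -, -⟩ := hl
  obtain ⟨w, hw, h2⟩ := not_rad F hy hx hyx h1
  rw [h w (F.sub w hw)] at h2
  exact absurd h2 (by decide)

/-- **(4)**: a subgroup of `e^⊥` containing `e`, absorbing the points of `e^⊥`, is `⟨e⟩` or `e^⊥`. -/
theorem bot_or_perp (inj : Inj U PP B) {e : G} (he : e ∈ PP) (hl : OnLine PP B e) {A : Subgroup G} (heA : e ∈ A)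
    (hA : ∀ a ∈ A, a ∈ U ∧ B e a = 1) (habs : ∀ p ∈ PP, B e p = 1 → (∃ a ∈ A, B p a = -1) → p ∈ A) :
    (∀ a ∈ A, a = 1 ∨ a = e) ∨ ∀ u ∈ U, B e u = 1 → u ∈ A := by
  by_cases hiso : ∀ a ∈ A, ∀ b ∈ A, B a b = 1
  · left
    intro a ha
    have haU := (hA a ha).1
    rcases F.iso_le he (fun a ha => (hA a ha).1) habs hiso ha with h1 | h1
    · exact Or.inl (rad_eq F inj he hl haU h1)
    · right
      have h2 := rad_eq F inj he hl (U.mul_mem haU (F.sub e he)) h1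
      rwa [mul_eq_one_iff_eq_inv, F.inv (F.sub e he)] at h2
  · right
    push Not at hiso
    obtain ⟨a, ha, b, hb, h1⟩ := hiso
    intro u hu h2
    refine F.full he (fun p hp h3 => inj p hp e he h3) heA hA (fun a ha => ?_) habs ⟨a, ha, b, hb, Form.ne_of h1⟩ hu h2
    by_cases ha1 : a = 1
    · rw [ha1]; exact one_mem _
    · exact subset_closure ⟨all_points F inj he hl (hA a ha).1 ha1, ha⟩

end Cfsg.Agent.Omega.OM.KTwo.OneSymp

end

section


/-!
# Case (E), `d = 1`, `|N₁ : C(N₂)| = 2` (#18644 of helper118): (2), (3), (4) with the radical `v` (helper178)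

`FormV U v PP B` : `U` elementary abelian, `1 ≠ v ∈ U` in the radical of the alternating form `B`, `p q v ∈ PP` for
non-perpendicular points `p, q`, the points are connected by 'not perpendicular', points are equal if they agree modulo
the radical, and some totally isotropic line modulo `v` consists of points.

* `FormV.all_points` (a) : `u = 1`, `u = v`, `u ∈ PP` or `u v ∈ PP` for `u ∈ U`;
* `FormV.not_both` (b) : `p v ∉ PP` for `p ∈ PP`;   `FormV.rad_eq` (c) : the radical is `{1, v}`;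
* `FormV.four_or_perp` (4) : an invariant subgroup of `x^⊥` containing `v`, `x` is `{1, v, x, x v}` or `x^⊥`.
-/

set_option autoImplicit false

namespace Cfsg.Agent.Omega.OM.KTwo.OneSympV

open Subgroup Cfsg.Agent.Omega.NOThreeL.RTools.Symp Cfsg.Agent.Omega.OM.KTwo.OneSymp

variable {G : Type*} [Group G]

/-- an alternating form on `U` with `v` in the radical, with points -/
structure FormV (U : Subgroup G) (v : G) (PP : Set G) (B : G → G → ℤˣ) : Prop where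
  sq : ∀ u ∈ U, u * u = 1
  comm : ∀ u ∈ U, ∀ w ∈ U, u * w = w * u
  sub : ∀ p ∈ PP, p ∈ U
  gen : U ≤ closure PP
  v_mem : v ∈ U
  v_ne : v ≠ 1
  mul : ∀ u ∈ U, ∀ w ∈ U, ∀ w' ∈ U, B u (w * w') = B u w * B u w'
  symm : ∀ u ∈ U, ∀ w ∈ U, B u w = B w u
  self : ∀ u ∈ U, B u u = 1
  vr : ∀ u ∈ U, B v u = 1
  tr : ∀ p ∈ PP, ∀ q ∈ PP, B p q = -1 → p * q * v ∈ PP
  conn : ∀ A : Set G, A ⊆ PP → A.Nonempty → (∀ p ∈ A, ∀ p' ∈ PP, B p p' = -1 → p' ∈ A) → A = PP
  inj : ∀ p ∈ PP, ∀ q ∈ PP, (∀ y ∈ U, B (p * q) y = 1) → p = q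
  line : ∃ x ∈ PP, ∃ y ∈ PP, x ≠ y ∧ B x y = 1 ∧ (x * y ∈ PP ∨ x * y * v ∈ PP)

/-- a complement of `⟨v⟩` -/
theorem exists_compl [Finite G] {U : Subgroup G} {v : G} (sq : ∀ u ∈ U, u * u = 1)
    (comm : ∀ u ∈ U, ∀ w ∈ U, u * w = w * u) (hv1 : v ≠ 1) :
    ∃ U₀ : Subgroup G, U₀ ≤ U ∧ v ∉ U₀ ∧ ∀ u ∈ U, u ∈ U₀ ∨ u * v ∈ U₀ := by
  have hfin : Finite (Subgroup G) := inferInstance
  obtain ⟨U₀, -, hU⟩ := Finite.exists_le_maximal (α := Subgroup G) (p := fun X => X ≤ U ∧ v ∉ X) (a := ⊥)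
    ⟨bot_le, by rwa [mem_bot]⟩
  refine ⟨U₀, hU.prop.1, hU.prop.2, fun u hu => ?_⟩
  by_contra hc
  push Not at hc
  -- the subgroup `U₀ ∪ U₀ u`
  let X : Subgroup G :=
    { carrier := {x | x ∈ U₀ ∨ x * u ∈ U₀}
      one_mem' := Or.inl (one_mem _)
      mul_mem' := by
        rintro a b (ha | ha) (hb | hb)
        · exact Or.inl (mul_mem ha hb)
        · exact Or.inr (by rw [mul_assoc]; exact mul_mem ha hb)
        · right
          have hbU := hU.prop.1 hb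
          rw [mul_assoc, comm b hbU u hu, ← mul_assoc]
          exact mul_mem ha hb
        · left
          have haU : a ∈ U := (U.mul_mem_cancel_right hu).1 (hU.prop.1 ha)
          have hbU : b ∈ U := (U.mul_mem_cancel_right hu).1 (hU.prop.1 hb)
          have h1 := mul_mem ha hb
          rwa [mul_assoc, comm b hbU u hu, ← mul_assoc u, sq u hu, one_mul] at h1
      inv_mem' := by
        rintro a (ha | ha)
        · exact Or.inl (inv_mem ha)
        · right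
          have haU : a ∈ U := (U.mul_mem_cancel_right hu).1 (hU.prop.1 ha)
          rwa [inv_eq_of_mul_eq_one_left (sq a haU)] }
  have hX : ∀ x, x ∈ X ↔ x ∈ U₀ ∨ x * u ∈ U₀ := fun x => Iff.rfl
  have hle : U₀ ≤ X := fun x hx => (hX x).2 (Or.inl hx)
  have huX : u ∈ X := (hX u).2 (Or.inr (by rw [sq u hu]; exact one_mem _))
  have hXU : X ≤ U := by
    intro x hx
    rcases (hX x).1 hx with h | h
    · exact hU.prop.1 h
    · exact (U.mul_mem_cancel_right hu).1 (hU.prop.1 h)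
  have hvX : v ∉ X := by
    intro h
    rcases (hX v).1 h with h | h
    · exact hU.prop.2 h
    · apply hc.2
      rwa [comm u hu v (hXU ((hX v).2 (Or.inr h)))]
  exact hc.1 (hU.2 ⟨hXU, hvX⟩ hle huX)

namespace FormV

variable {U : Subgroup G} {v : G} {PP : Set G} {B : G → G → ℤˣ} (F : FormV U v PP B)
include F

theorem inv {u : G} (hu : u ∈ U) : u⁻¹ = u := inv_eq_of_mul_eq_one_left (F.sq u hu)

theorem mul_left {u w x : G} (hu : u ∈ U) (hw : w ∈ U) (hx : x ∈ U) : B (u * w) x = B u x * B w x := by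
  rw [F.symm _ (U.mul_mem hu hw) x hx, F.mul x hx u hu w hw, F.symm x hx u hu, F.symm x hx w hw]

theorem mul_v {u w : G} (hu : u ∈ U) (hw : w ∈ U) : B (u * v) w = B u w := by
  rw [F.mul_left hu F.v_mem hw, F.vr w hw, mul_one]

theorem mul_v' {u w : G} (hu : u ∈ U) (hw : w ∈ U) : B w (u * v) = B w u := by
  rw [F.symm w hw _ (U.mul_mem hu F.v_mem), F.mul_v hu hw, F.symm u hu w hw]

/-- (b) -/
theorem not_both {p : G} (hp : p ∈ PP) : p * v ∉ PP := by
  intro h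
  have hpU := F.sub p hp
  have h1 := F.inj p hp _ h fun y hy => by
    rw [← mul_assoc, F.sq p hpU, one_mul, F.vr y hy]
  exact F.v_ne (mul_eq_left.1 h1.symm)

/-- the points of a complement -/
def pts (U₀ : Subgroup G) (v : G) (PP : Set G) : Set G := {u | u ∈ U₀ ∧ (u ∈ PP ∨ u * v ∈ PP)}

theorem vv : v * v = 1 := F.sq v F.v_mem

theorem mul_vv (x : G) : x * v * v = x := by rw [mul_assoc, F.vv, mul_one]

/-- the form on a complement of `⟨v⟩` -/
theorem form {U₀ : Subgroup G} (h0 : U₀ ≤ U) (hv : v ∉ U₀) (hU : ∀ u ∈ U, u ∈ U₀ ∨ u * v ∈ U₀) :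
    Form U₀ (pts U₀ v PP) B := by
  refine ⟨fun u hu => F.sq u (h0 hu), fun u hu w hw => F.comm u (h0 hu) w (h0 hw), fun p hp => hp.1, ?_,
    fun u hu w hw w' hw' => F.mul u (h0 hu) w (h0 hw) w' (h0 hw'), fun u hu w hw => F.symm u (h0 hu) w (h0 hw),
    fun u hu => F.self u (h0 hu), ?_, ?_⟩
  · -- generation
    have key : ∀ x ∈ closure PP, x ∈ U ∧ (x ∈ closure (pts U₀ v PP) ∨ x * v ∈ closure (pts U₀ v PP)) := by
      intro x hx
      refine closure_induction (p := fun x _ => x ∈ U ∧ (x ∈ closure (pts U₀ v PP) ∨ x * v ∈ closure (pts U₀ v PP)))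
        ?_ ?_ ?_ ?_ hx
      · intro p hp
        have hpU := F.sub p hp
        refine ⟨hpU, ?_⟩
        rcases hU p hpU with h | h
        · exact Or.inl (subset_closure ⟨h, Or.inl hp⟩)
        · exact Or.inr (subset_closure ⟨h, Or.inr (by rw [F.mul_vv]; exact hp)⟩)
      · exact ⟨one_mem _, Or.inl (one_mem _)⟩
      · rintro a b _ _ ⟨ha, ha'⟩ ⟨hb, hb'⟩
        refine ⟨mul_mem ha hb, ?_⟩
        rcases ha' with ha' | ha' <;> rcases hb' with hb' | hb'
        · exact Or.inl (mul_mem ha' hb')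
        · exact Or.inr (by rw [mul_assoc]; exact mul_mem ha' hb')
        · right
          rw [mul_assoc, F.comm b hb v F.v_mem, ← mul_assoc]
          exact mul_mem ha' hb'
        · left
          have h1 := mul_mem ha' hb'
          rwa [mul_assoc, F.comm b hb v F.v_mem, ← mul_assoc v, F.vv, one_mul] at h1
      · rintro a _ ⟨ha, ha'⟩
        rw [F.inv ha]
        exact ⟨ha, ha'⟩
    intro u hu
    have hle : closure (pts U₀ v PP) ≤ U₀ := (closure_le _).2 fun p hp => hp.1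
    rcases (key u (F.gen (h0 hu))).2 with h | h
    · exact h
    · exfalso
      apply hv
      have h1 := mul_mem (inv_mem hu) (hle h)
      rwa [inv_mul_cancel_left] at h1
  · -- transvections
    rintro p ⟨hp, hp'⟩ q ⟨hq, hq'⟩ h
    refine ⟨mul_mem hp hq, ?_⟩
    have hpU := h0 hp
    have hqU := h0 hq
    rcases hp' with hp' | hp' <;> rcases hq' with hq' | hq'
    · exact Or.inr (F.tr p hp' q hq' h)
    · left
      have h1 := F.tr p hp' _ hq' (by rw [F.mul_v' hqU hpU, h])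
      rwa [← mul_assoc, F.mul_vv] at h1
    · left
      have h1 := F.tr _ hp' q hq' (by rw [F.mul_v hpU hqU, h])
      rwa [mul_assoc p v q, F.comm v F.v_mem q hqU, ← mul_assoc, F.mul_vv] at h1
    · right
      have h1 := F.tr _ hp' _ hq' (by rw [F.mul_v hpU (U.mul_mem hqU F.v_mem), F.mul_v' hqU hpU, h])
      have h2 : p * v * (q * v) * v = p * q * v := by
        rw [mul_assoc (p * v), F.mul_vv, mul_assoc p v q, F.comm v F.v_mem q hqU, mul_assoc]
      rwa [h2] at h1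
  · -- connectedness
    intro A hA hne hcl
    have hA' : {p | p ∈ PP ∧ (p ∈ A ∨ p * v ∈ A)} = PP := by
      refine F.conn _ (fun p hp => hp.1) ?_ ?_
      · obtain ⟨a, ha⟩ := hne
        rcases (hA ha).2 with h | h
        · exact ⟨a, h, Or.inl ha⟩
        · exact ⟨a * v, h, Or.inr (by rw [F.mul_vv]; exact ha)⟩
      · rintro p ⟨hp, hpA⟩ p' hp' h
        have hpU := F.sub p hp
        have hp'U := F.sub p' hp'
        refine ⟨hp', ?_⟩
        -- the representatives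
        obtain ⟨a, haA, haU, hap⟩ : ∃ a ∈ A, a ∈ U ∧ ∀ w ∈ U, B a w = B p w := by
          rcases hpA with h1 | h1
          · exact ⟨p, h1, hpU, fun w _ => rfl⟩
          · exact ⟨p * v, h1, U.mul_mem hpU F.v_mem, fun w hw => F.mul_v hpU hw⟩
        rcases hU p' hp'U with h1 | h1
        · exact Or.inl (hcl a haA p' ⟨h1, Or.inl hp'⟩ (by rw [hap p' hp'U, h]))
        · right
          refine hcl a haA _ ⟨h1, Or.inr (by rw [F.mul_vv]; exact hp')⟩ ?_
          rw [hap _ (U.mul_mem hp'U F.v_mem), F.mul_v' hp'U hpU, h]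
    refine Set.Subset.antisymm hA ?_
    rintro p ⟨hp, hp'⟩
    rcases hp' with h | h
    · have h1 : p ∈ {p | p ∈ PP ∧ (p ∈ A ∨ p * v ∈ A)} := by rw [hA']; exact h
      rcases h1.2 with h2 | h2
      · exact h2
      · exfalso
        apply hv
        have h3 := mul_mem (inv_mem hp) (hA h2).1
        rwa [inv_mul_cancel_left] at h3
    · have h1 : p * v ∈ {p | p ∈ PP ∧ (p ∈ A ∨ p * v ∈ A)} := by rw [hA']; exact h
      rcases h1.2 with h2 | h2
      · exfalso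
        apply hv
        have h3 := mul_mem (inv_mem hp) (hA h2).1
        rwa [inv_mul_cancel_left] at h3
      · rwa [F.mul_vv] at h2

/-- points with the same image modulo the radical are equal, in a complement -/
theorem inj₀ {U₀ : Subgroup G} (h0 : U₀ ≤ U) (hv : v ∉ U₀) (hU : ∀ u ∈ U, u ∈ U₀ ∨ u * v ∈ U₀) :
    Inj U₀ (pts U₀ v PP) B := by
  rintro p ⟨hp, hp'⟩ q ⟨hq, hq'⟩ h
  have hpU := h0 hp
  have hqU := h0 hq
  have hpq : ∀ y ∈ U, B (p * q) y = 1 := by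
    intro y hy
    rcases hU y hy with h1 | h1
    · exact h y h1
    · rw [← F.mul_v' hy (U.mul_mem hpU hqU)]
      exact h _ h1
  have e1 : ∀ y ∈ U, B (p * (q * v)) y = 1 := fun y hy => by
    rw [← mul_assoc, F.mul_v (U.mul_mem hpU hqU) hy, hpq y hy]
  have e2 : ∀ y ∈ U, B (p * v * q) y = 1 := fun y hy => by
    rw [mul_assoc, F.comm v F.v_mem q hqU, ← mul_assoc, F.mul_v (U.mul_mem hpU hqU) hy, hpq y hy]
  have e3 : ∀ y ∈ U, B (p * v * (q * v)) y = 1 := fun y hy => by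
    rw [← mul_assoc, F.mul_v (U.mul_mem (U.mul_mem hpU F.v_mem) hqU) hy]
    exact e2 y hy
  rcases hp' with hp' | hp' <;> rcases hq' with hq' | hq'
  · exact F.inj p hp' q hq' hpq
  · exfalso
    have h1 := F.inj p hp' _ hq' e1
    apply hv
    have h2 := mul_mem (inv_mem hq) hp
    rwa [h1, inv_mul_cancel_left] at h2
  · exfalso
    have h1 := F.inj _ hp' q hq' e2
    apply hv
    have h2 := mul_mem (inv_mem hp) hq
    rwa [← h1, inv_mul_cancel_left] at h2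
  · exact mul_right_cancel (F.inj _ hp' _ hq' e3)

/-- the representative in a complement -/
theorem exists_rep {U₀ : Subgroup G} (hU : ∀ u ∈ U, u ∈ U₀ ∨ u * v ∈ U₀) {u : G} (hu : u ∈ U) :
    ∃ u₀ ∈ U₀, (u₀ = u ∨ u₀ = u * v) ∧ (∀ w ∈ U, B u₀ w = B u w) := by
  rcases hU u hu with h | h
  · exact ⟨u, h, Or.inl rfl, fun _ _ => rfl⟩
  · exact ⟨u * v, h, Or.inr rfl, fun w hw => F.mul_v hu hw⟩

theorem rep_pts {U₀ : Subgroup G} {p u₀ : G} (hp : p ∈ PP) (hu₀ : u₀ ∈ U₀) (h : u₀ = p ∨ u₀ = p * v) :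
    u₀ ∈ pts U₀ v PP := by
  refine ⟨hu₀, ?_⟩
  rcases h with rfl | rfl
  · exact Or.inl hp
  · right
    rw [F.mul_vv]
    exact hp

/-- a line in a complement -/
theorem exists_line {U₀ : Subgroup G} (h0 : U₀ ≤ U) (hU : ∀ u ∈ U, u ∈ U₀ ∨ u * v ∈ U₀) :
    ∃ x ∈ pts U₀ v PP, OnLine (pts U₀ v PP) B x := by
  obtain ⟨x, hx, y, hy, hxy, hB, hxyP⟩ := F.line
  have hxU := F.sub x hx
  have hyU := F.sub y hy
  obtain ⟨x₀, hx₀, ex, bx⟩ := F.exists_rep hU hxU
  obtain ⟨y₀, hy₀, ey, bY⟩ := F.exists_rep hU hyU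
  have hx₀U := h0 hx₀
  have hy₀U := h0 hy₀
  refine ⟨x₀, F.rep_pts hx hx₀ ex, y₀, F.rep_pts hy hy₀ ey, ?_, ?_, ?_⟩
  · intro h
    rw [h] at ey
    rcases ex with ex | ex <;> rcases ey with ey | ey
    · exact hxy (ex.symm.trans ey)
    · apply F.not_both hy
      rw [← ey, ex]; exact hx
    · apply F.not_both hx
      rw [← ex, ey]; exact hy
    · exact hxy (mul_right_cancel (ex.symm.trans ey))
  · rw [bx y₀ hy₀U, F.symm x hxU y₀ hy₀U, bY x hxU, F.symm y hyU x hxU, hB]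
  · refine ⟨mul_mem hx₀ hy₀, ?_⟩
    have e : x₀ * y₀ = x * y ∨ x₀ * y₀ = x * y * v := by
      rcases ex with rfl | rfl <;> rcases ey with rfl | rfl
      · exact Or.inl rfl
      · exact Or.inr (by rw [mul_assoc])
      · exact Or.inr (by rw [mul_assoc, F.comm v F.v_mem y₀ hyU, ← mul_assoc])
      · left
        rw [← mul_assoc, mul_assoc x v y, F.comm v F.v_mem y hyU, ← mul_assoc, F.mul_vv]
    rcases e with e | e
    · rw [e]
      exact hxyP
    · rw [e, F.mul_vv]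
      exact hxyP.symm

/-- (a) -/
theorem all_points [Finite G] {u : G} (hu : u ∈ U) : u = 1 ∨ u = v ∨ u ∈ PP ∨ u * v ∈ PP := by
  obtain ⟨U₀, h0, hv, hU⟩ := exists_compl F.sq F.comm F.v_ne (U := U) (v := v)
  obtain ⟨x, hx, hl⟩ := F.exists_line h0 hU
  have hF := F.form h0 hv hU
  have hi := F.inj₀ h0 hv hU
  obtain ⟨u₀, hu₀, e, -⟩ := F.exists_rep hU hu
  by_cases h1 : u₀ = 1
  · rcases e with e | e
    · exact Or.inl (e.symm.trans h1)
    · right; left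
      rw [h1, eq_comm, mul_eq_one_iff_eq_inv, F.inv F.v_mem] at e
      exact e
  · have h2 := OneSymp.all_points hF hi hx hl hu₀ h1
    right; right
    rcases e with rfl | rfl
    · exact h2.2
    · have := h2.2
      rw [F.mul_vv] at this
      exact this.symm

/-- (c) the radical is `{1, v}` -/
theorem rad_eq [Finite G] {u : G} (hu : u ∈ U) (h : ∀ y ∈ U, B u y = 1) : u = 1 ∨ u = v := by
  obtain ⟨U₀, h0, hv, hU⟩ := exists_compl F.sq F.comm F.v_ne (U := U) (v := v)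
  obtain ⟨x, hx, hl⟩ := F.exists_line h0 hU
  have hF := F.form h0 hv hU
  have hi := F.inj₀ h0 hv hU
  obtain ⟨u₀, hu₀, e, b⟩ := F.exists_rep hU hu
  have h1 := OneSymp.rad_eq hF hi hx hl hu₀ fun y hy => by rw [b y (h0 hy), h y (h0 hy)]
  rcases e with e | e
  · exact Or.inl (e.symm.trans h1)
  · right
    rw [h1, eq_comm, mul_eq_one_iff_eq_inv, F.inv F.v_mem] at e
    exact e

/-- every point is non-perpendicular to some point -/
theorem exists_nonperp [Finite G] {p : G} (hp : p ∈ PP) : ∃ q ∈ PP, B p q = -1 := by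
  by_contra hc
  push Not at hc
  have hpU := F.sub p hp
  have h1 : ∀ y ∈ U, B p y = 1 := by
    intro y hy
    rcases F.all_points hy with rfl | rfl | h | h
    · have h := F.mul p hpU 1 U.one_mem 1 U.one_mem
      rw [mul_one, units_mul_self] at h
      exact h
    · rw [F.symm p hpU _ hy, F.vr p hpU]
    · by_contra h2
      exact hc y h (Form.ne_of h2)
    · by_contra h2
      exact hc _ h (by rw [F.mul_v' hy hpU]; exact Form.ne_of h2)
  rcases F.rad_eq hpU h1 with rfl | rfl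
  · -- `1 ∈ PP`
    have h2 : ({1} : Set G) = PP := F.conn {1} (by rintro _ rfl; exact hp) ⟨1, rfl⟩ (by
      rintro _ rfl p' hp' h2
      exact absurd h2 (hc p' hp'))
    obtain ⟨x, hx, y, hy, hxy, -⟩ := F.line
    rw [← h2] at hx hy
    exact hxy (hx.trans hy.symm)
  · have h2 : ({p} : Set G) = PP := F.conn {p} (by rintro _ rfl; exact hp) ⟨p, rfl⟩ (by
      rintro _ rfl p' hp' h2
      exact absurd h2 (hc p' hp'))
    obtain ⟨x, hx, y, hy, hxy, -⟩ := F.line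
    rw [← h2] at hx hy
    exact hxy (hx.trans hy.symm)

/-- (4) -/
theorem four_or_perp [Finite G] {x : G} (hx : x ∈ PP) {A : Subgroup G} (hvA : v ∈ A) (hxA : x ∈ A)
    (hA : ∀ a ∈ A, a ∈ U ∧ B x a = 1)
    (habs : ∀ p ∈ PP, B x p = 1 → ∀ a ∈ A, B p a = -1 → a * (p * v) ∈ A) :
    (∀ a ∈ A, a = 1 ∨ a = v ∨ a = x ∨ a = x * v) ∨ ∀ u ∈ U, B x u = 1 → u ∈ A := by
  obtain ⟨U₀, h0, hv, hU⟩ := exists_compl F.sq F.comm F.v_ne (U := U) (v := v)
  obtain ⟨x', hx', hl'⟩ := F.exists_line h0 hU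
  have hF := F.form h0 hv hU
  have hi := F.inj₀ h0 hv hU
  have hxU := F.sub x hx
  obtain ⟨x₀, hx₀, ex, bx⟩ := F.exists_rep hU hxU
  have hx₀P := F.rep_pts hx hx₀ ex
  have hl : OnLine (pts U₀ v PP) B x₀ := OneSymp.onLine_all hF hx' hl' hx₀P
  have hvm : ∀ a : G, a ∈ A → a * v ∈ A := fun a ha => mul_mem ha hvA
  have hx₀A : x₀ ∈ A := by
    rcases ex with rfl | rfl
    · exact hxA
    · exact hvm _ hxA
  rcases OneSymp.bot_or_perp hF hi hx₀P hl (A := A ⊓ U₀) ⟨hx₀A, hx₀⟩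
    (fun a ha => ⟨ha.2, by rw [bx a (h0 ha.2)]; exact (hA a ha.1).2⟩) (by
      rintro p ⟨hp, hp'⟩ h1 ⟨a, ha, h2⟩
      have hpU := h0 hp
      refine ⟨?_, hp⟩
      have haU := (hA a ha.1).1
      rw [bx p hpU] at h1
      rcases hp' with hp' | hp'
      · have h3 := A.mul_mem (A.inv_mem ha.1) (habs p hp' h1 a ha.1 h2)
        rw [inv_mul_cancel_left] at h3
        have h4 := hvm _ h3
        rwa [F.mul_vv] at h4
      · have h3 := A.mul_mem (A.inv_mem ha.1) (habs _ hp' (by rw [F.mul_v' hpU hxU, h1]) a ha.1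
          (by rw [F.mul_v hpU haU, h2]))
        rwa [inv_mul_cancel_left, F.mul_vv] at h3) with h1 | h1
  · left
    intro a ha
    have haU := (hA a ha).1
    obtain ⟨a₀, ha₀, ea, -⟩ := F.exists_rep hU haU
    have ha₀A : a₀ ∈ A := by
      rcases ea with rfl | rfl
      · exact ha
      · exact hvm _ ha
    have e1 : a = a₀ ∨ a = a₀ * v := by
      rcases ea with rfl | rfl
      · exact Or.inl rfl
      · right; rw [F.mul_vv]
    have e2 : a₀ = 1 ∨ a₀ = x ∨ a₀ = x * v := by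
      rcases h1 a₀ ⟨ha₀A, ha₀⟩ with e | e
      · exact Or.inl e
      · right; rw [e]; exact ex
    rcases e1 with e1 | e1 <;> rcases e2 with e2 | e2 | e2
    · left; rw [e1, e2]
    · right; right; left; rw [e1, e2]
    · right; right; right; rw [e1, e2]
    · right; left; rw [e1, e2, one_mul]
    · right; right; right; rw [e1, e2]
    · right; right; left; rw [e1, e2, F.mul_vv]
  · right
    intro u hu h2
    obtain ⟨u₀, hu₀, eu, bu⟩ := F.exists_rep hU hu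
    have h3 : u₀ ∈ A := (h1 u₀ hu₀ (by
      rw [bx u₀ (h0 hu₀), F.symm x hxU u₀ (h0 hu₀), bu x hxU, F.symm u hu x hxU, h2])).1
    rcases eu with rfl | rfl
    · exact h3
    · have h4 := hvm _ h3
      rwa [F.mul_vv] at h4

end FormV

end Cfsg.Agent.Omega.OM.KTwo.OneSympV

end

section


/-!
# The structure lemma in the transvection case (helper918 #19487, section 0, (sp); helper118 #18644 (2), (3))

`TDat C D M T N v e x₀ a` : `C` acts on the elementary abelian group `N = ⟨x₀^C⟩`, `v` is central in `C`, `e = 1` or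
`e = v`; `D = C_C(x₀)`, `C = ⟨D, M⟩`, `M` leaves the line `{x₀, a, x₀ a}` of points invariant; some element of `C` acts
on `N` as a transvection with centre `x₀ e`, only one action of this kind exists, and it fixes `a`.

Result: an alternating `C`-invariant form `B` on `N` (`Frm`), such that
* `TDat.tv` : for every point `p` some `t ∈ C` acts as `n ↦ n` (`B p n = 1`), `n ↦ n p e` (`B p n = -1`);
* `TDat.points` : `u = 1`, `u = e`, `u` or `u e` is a point; `TDat.not_both`; `TDat.rad` : the radical is `{1, e}`;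
* `TDat.perp_perp`, `TDat.eq_perp` (invariant subgroups of `x₀^⊥`), `TDat.e_mem_E`, `TDat.hyper`, `TDat.fix_T`
  (`C_{N~}(T) = ⟨x₀⟩`), `TDat.fix_R`.
-/

set_option autoImplicit false
set_option linter.unusedSectionVars false

namespace Cfsg.Agent.Omega.OM.KTwo.StrSp

open Subgroup Cfsg.Agent.Omega.NOThreeL.RTools.Symp Cfsg.Agent.Omega.OM.KTwo.OneSymp
open Cfsg.Agent.Omega.OM.KTwo.OneSympV

universe u

variable {G : Type u} [Group G]

/-- the points: the `C`-class of `x₀` -/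
def Pts (C : Subgroup G) (x₀ : G) : Set G := {p | ∃ g ∈ C, p = g * x₀ * g⁻¹}

/-- `t` acts on `N` as a transvection with centre `p e` -/
def Tr (C N : Subgroup G) (e p t : G) : Prop :=
  t ∈ C ∧ (∀ n ∈ N, t * n * t⁻¹ = n ∨ t * n * t⁻¹ = n * (p * e)) ∧ ∃ n ∈ N, t * n * t⁻¹ ≠ n

/-- the data, first part -/
structure TBase (C D M T N : Subgroup G) (v e x₀ a : G) : Prop where
  sq : ∀ n ∈ N, n * n = 1
  comm : ∀ n ∈ N, ∀ m ∈ N, n * m = m * n
  norm : C ≤ normalizer (N : Set G)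
  gen : N ≤ closure (Pts C x₀)
  x_mem : x₀ ∈ N
  vC : ∀ c ∈ C, c * v = v * c
  he : e = 1 ∨ e = v
  D_iff : ∀ d, d ∈ D ↔ d ∈ C ∧ d * x₀ = x₀ * d
  MC : M ≤ C
  CDM : C ≤ D ⊔ M
  ML : ∀ m ∈ M, m * x₀ * m⁻¹ = x₀ ∨ m * x₀ * m⁻¹ = a ∨ m * x₀ * m⁻¹ = x₀ * a
  a_pt : a ∈ Pts C x₀
  xa_pt : x₀ * a ∈ Pts C x₀
  a_ne : a ≠ x₀
  tau : ∃ d ∈ D, d * a * d⁻¹ = x₀ * a
  TD : T ≤ D
  T_odd : ¬ 2 ∣ T.relIndex C
  tr : ∃ t, Tr C N e x₀ t

/-- the data, only one transvection for every centre -/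
structure TUn (C D M T N : Subgroup G) (v e x₀ a : G) : Prop extends TBase C D M T N v e x₀ a where
  uniq : ∀ t t', Tr C N e x₀ t → Tr C N e x₀ t' → ∀ n ∈ N, t * n * t⁻¹ = t' * n * t'⁻¹

/-- the data, the line `{x₀, a, x₀ a}` is totally isotropic -/
structure TDat (C D M T N : Subgroup G) (v e x₀ a : G) : Prop extends TUn C D M T N v e x₀ a where
  ti : ∀ t, Tr C N e x₀ t → t * a * t⁻¹ = a

/-- an alternating `C`-invariant form such that the points act by transvections -/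
structure Frm (C N : Subgroup G) (e x₀ : G) (B : G → G → ℤˣ) : Prop where
  tv : ∀ p ∈ Pts C x₀, ∀ t, Tr C N e p t → ∀ n ∈ N, (B p n = 1 ↔ t * n * t⁻¹ = n)
  mul : ∀ u ∈ N, ∀ w ∈ N, ∀ w' ∈ N, B u (w * w') = B u w * B u w'
  symm : ∀ u ∈ N, ∀ w ∈ N, B u w = B w u
  self : ∀ u ∈ N, B u u = 1
  inv : ∀ c ∈ C, ∀ u ∈ N, ∀ w ∈ N, B (c * u * c⁻¹) (c * w * c⁻¹) = B u w

theorem uu (a : ℤˣ) : a * a = 1 := by
  rcases Int.units_eq_one_or a with h | h <;> simp [h]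

theorem ne_of {a : ℤˣ} (h : a ≠ 1) : a = -1 := (Int.units_eq_one_or a).resolve_left h

theorem neg_ne : (-1 : ℤˣ) ≠ 1 := by decide

theorem conj_cent {N : Subgroup G} {g x : G} (hg : g ∈ normalizer (N : Set G)) (hx : x ∈ centralizer (N : Set G)) :
    g * x * g⁻¹ ∈ centralizer (N : Set G) := by
  rw [mem_centralizer_iff] at hx ⊢
  intro n hn
  have h1 := hx _ ((mem_normalizer_iff''.1 hg n).1 hn)
  calc n * (g * x * g⁻¹) = g * (g⁻¹ * n * g * x) * g⁻¹ := by group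
    _ = g * (x * (g⁻¹ * n * g)) * g⁻¹ := by rw [h1]
    _ = g * x * g⁻¹ * n := by group

/-- **A normal subgroup of `C` which is a 2-group modulo `C_C(N)` centralises `N`.** -/
theorem le_cent_of_unip [Finite G] {C T N Y : Subgroup G} {x₀ : G} (hTC : T ≤ C) (hodd : ¬ 2 ∣ T.relIndex C)
    (hTx : ∀ t ∈ T, t * x₀ = x₀ * t) (hx : x₀ ∈ N) (hCN : C ≤ normalizer (N : Set G))
    (gen : N ≤ closure (Pts C x₀)) (hYC : Y ≤ C)
    (hCY : C ≤ normalizer (Y : Set G)) (hY : ∀ y ∈ Y, ∃ k : ℕ, y ^ 2 ^ k ∈ centralizer (N : Set G)) :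
    Y ≤ centralizer (N : Set G) := by
  have hYF : Y ≤ normalizer ((Y ⊓ centralizer (N : Set G) : Subgroup G) : Set G) := by
    have key : ∀ y ∈ Y, ∀ x ∈ Y ⊓ centralizer (N : Set G), y * x * y⁻¹ ∈ Y ⊓ centralizer (N : Set G) := by
      rintro y hy x ⟨h1, h2⟩
      exact ⟨Y.mul_mem (Y.mul_mem hy h1) (Y.inv_mem hy), conj_cent (hCN (hYC hy)) h2⟩
    intro y hy
    rw [mem_normalizer_iff]
    intro x
    refine ⟨key y hy x, fun hx => ?_⟩
    have h1 := key y⁻¹ (inv_mem hy) _ hx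
    have e : y⁻¹ * (y * x * y⁻¹) * y⁻¹⁻¹ = x := by group
    rwa [e] at h1
  have h1 := IId.Big.Red.le_sup_inf (P := T) (M := Y) (C := C) (F := Y ⊓ centralizer (N : Set G)) hTC hYC
    (hTC.trans hCY) hodd inf_le_left hYF (fun m hm => by
      obtain ⟨k, hk⟩ := hY m hm
      exact ⟨k, pow_mem hm _, hk⟩)
  have h2 : Y ≤ centralizer ({x₀} : Set G) := by
    refine h1.trans (sup_le ?_ ?_)
    · exact inf_le_right.trans (centralizer_le (Set.singleton_subset_iff.2 hx))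
    · intro t ht
      rw [mem_centralizer_singleton_iff]
      exact hTx t ht.2
  have h3 : ∀ y ∈ Y, ∀ p ∈ Pts C x₀, p * y = y * p := by
    rintro y hy _ ⟨g, hg, rfl⟩
    have h4 : g⁻¹ * y * g ∈ Y := (mem_normalizer_iff''.1 (hCY hg) y).1 hy
    have h5 : g⁻¹ * y * g * x₀ = x₀ * (g⁻¹ * y * g) := mem_centralizer_singleton_iff.1 (h2 h4)
    calc g * x₀ * g⁻¹ * y = g * (x₀ * (g⁻¹ * y * g)) * g⁻¹ := by group
      _ = g * (g⁻¹ * y * g * x₀) * g⁻¹ := by rw [h5]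
      _ = y * (g * x₀ * g⁻¹) := by group
  intro y hy
  have h4 : N ≤ centralizer ({y} : Set G) := by
    refine gen.trans ((closure_le _).2 fun p hp => ?_)
    exact mem_centralizer_singleton_iff.2 (h3 y hy p hp)
  rw [mem_centralizer_iff]
  intro n hn
  exact mem_centralizer_singleton_iff.1 (h4 hn)

namespace TBase

variable {C D M T N : Subgroup G} {v e x₀ a : G} (h : TBase C D M T N v e x₀ a)
include h

theorem e_conj {c : G} (hc : c ∈ C) : c * e * c⁻¹ = e := by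
  rcases h.he with rfl | rfl
  · group
  · rw [h.vC c hc]; group

theorem conj_N {c n : G} (hc : c ∈ C) (hn : n ∈ N) : c * n * c⁻¹ ∈ N := (mem_normalizer_iff.1 (h.norm hc) n).1 hn

theorem conj_N' {c n : G} (hc : c ∈ C) (hn : n ∈ N) : c⁻¹ * n * c ∈ N := (mem_normalizer_iff''.1 (h.norm hc) n).1 hn

theorem pt_mem {p : G} (hp : p ∈ Pts C x₀) : p ∈ N := by
  obtain ⟨g, hg, rfl⟩ := hp
  exact h.conj_N hg h.x_mem

theorem conj_pt {p c : G} (hp : p ∈ Pts C x₀) (hc : c ∈ C) : c * p * c⁻¹ ∈ Pts C x₀ := by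
  obtain ⟨g, hg, rfl⟩ := hp
  exact ⟨c * g, mul_mem hc hg, by group⟩

theorem conj_pt' {p c : G} (hp : p ∈ Pts C x₀) (hc : c ∈ C) : c⁻¹ * p * c ∈ Pts C x₀ := by
  have := h.conj_pt hp (inv_mem hc)
  rwa [inv_inv] at this

theorem x_pt : x₀ ∈ Pts C x₀ := ⟨1, one_mem _, by group⟩

theorem conj_tr {p t c : G} (ht : Tr C N e p t) (hc : c ∈ C) : Tr C N e (c * p * c⁻¹) (c * t * c⁻¹) := by
  obtain ⟨h1, h2, n₀, hn₀, h3⟩ := ht
  refine ⟨mul_mem (mul_mem hc h1) (inv_mem hc), fun n hn => ?_, c * n₀ * c⁻¹, h.conj_N hc hn₀, fun h4 => h3 ?_⟩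
  · rcases h2 _ (h.conj_N' hc hn) with h4 | h4
    · left
      calc c * t * c⁻¹ * n * (c * t * c⁻¹)⁻¹ = c * (t * (c⁻¹ * n * c) * t⁻¹) * c⁻¹ := by group
        _ = n := by rw [h4]; group
    · right
      calc c * t * c⁻¹ * n * (c * t * c⁻¹)⁻¹ = c * (t * (c⁻¹ * n * c) * t⁻¹) * c⁻¹ := by group
        _ = n * (c * p * c⁻¹ * (c * e * c⁻¹)) := by rw [h4]; group
        _ = _ := by rw [h.e_conj hc]
  · have e1 : c * t * c⁻¹ * (c * n₀ * c⁻¹) * (c * t * c⁻¹)⁻¹ = c * (t * n₀ * t⁻¹) * c⁻¹ := by group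
    rw [e1] at h4
    exact mul_left_cancel (mul_right_cancel h4)

theorem exists_tr {p : G} (hp : p ∈ Pts C x₀) : ∃ t, Tr C N e p t := by
  obtain ⟨g, hg, rfl⟩ := hp
  obtain ⟨t, ht⟩ := h.tr
  exact ⟨_, h.conj_tr ht hg⟩

theorem exists_ne {p t : G} (ht : Tr C N e p t) : ∃ n ∈ N, t * n * t⁻¹ = n * (p * e) := by
  obtain ⟨-, h2, n, hn, h3⟩ := ht
  exact ⟨n, hn, (h2 n hn).resolve_left h3⟩

theorem pe_ne {p t : G} (ht : Tr C N e p t) : p * e ≠ 1 := by
  intro h1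
  obtain ⟨n, hn, h3⟩ := ht.2.2
  apply h3
  rcases ht.2.1 n hn with h4 | h4
  · exact h4
  · rw [h4, h1, mul_one]

theorem pe_mem {p t : G} (ht : Tr C N e p t) : p * e ∈ N := by
  obtain ⟨n, hn, h3⟩ := h.exists_ne ht
  have h1 := mul_mem (inv_mem hn) (h.conj_N ht.1 hn)
  rwa [h3, inv_mul_cancel_left] at h1

theorem e_mem : e ∈ N := by
  obtain ⟨t, ht⟩ := h.tr
  have h1 := mul_mem (inv_mem h.x_mem) (h.pe_mem ht)
  rwa [inv_mul_cancel_left] at h1

theorem ee : e * e = 1 := h.sq e h.e_mem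

theorem inv_eq {n : G} (hn : n ∈ N) : n⁻¹ = n := inv_eq_of_mul_eq_one_left (h.sq n hn)

/-- the image of a product of elements of `N` -/
theorem conj_mul' (t n m : G) : t * (n * m) * t⁻¹ = t * n * t⁻¹ * (t * m * t⁻¹) := by group

/-- `{1, e, x₀, x₀ e}` -/
def XX : Subgroup G where
  carrier := {z | z = 1 ∨ z = e ∨ z = x₀ ∨ z = x₀ * e}
  one_mem' := Or.inl rfl
  mul_mem' := by
    have hee := h.ee
    have hxx := h.sq x₀ h.x_mem
    have hc := h.comm x₀ h.x_mem e h.e_mem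
    have h1 : e * (x₀ * e) = x₀ := by rw [← mul_assoc, ← hc, mul_assoc, hee, mul_one]
    have h2 : x₀ * (x₀ * e) = e := by rw [← mul_assoc, hxx, one_mul]
    have h3 : x₀ * e * e = x₀ := by rw [mul_assoc, hee, mul_one]
    have h4 : x₀ * e * x₀ = e := by rw [hc, mul_assoc, hxx, mul_one]
    have h5 : x₀ * e * (x₀ * e) = 1 := by rw [← mul_assoc, h4, hee]
    rintro u w (rfl | rfl | rfl | rfl) (rfl | rfl | rfl | rfl) <;>
      simp only [Set.mem_ofPred_eq, one_mul, mul_one, hee, hxx, h1, h2, h3, h4, h5, true_or, or_true, ← hc]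
  inv_mem' := by
    rintro u (rfl | rfl | rfl | rfl)
    · left; exact inv_one
    · right; left; exact h.inv_eq h.e_mem
    · right; right; left; exact h.inv_eq h.x_mem
    · right; right; right; exact h.inv_eq (mul_mem h.x_mem h.e_mem)

theorem mem_XX {z : G} : z ∈ h.XX ↔ z = 1 ∨ z = e ∨ z = x₀ ∨ z = x₀ * e := Iff.rfl

/-- an element `g` of `C` acting trivially on `N / I` and on `I` centralises `N`, `I` invariant under `C` -/
theorem triv_series [Finite G] {I : Subgroup G} (hIN : I ≤ N) (hIC : ∀ c ∈ C, ∀ x ∈ I, c * x * c⁻¹ ∈ I) {g : G}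
    (hg : g ∈ C) (h1 : ∀ n ∈ N, n * (g * n * g⁻¹) ∈ I) (h2 : ∀ i ∈ I, g * i * g⁻¹ = i) :
    ∀ n ∈ N, g * n * g⁻¹ = n := by
  have hIC' : ∀ c ∈ C, ∀ x ∈ I, c⁻¹ * x * c ∈ I := by
    intro c hc x hx
    have := hIC c⁻¹ (inv_mem hc) x hx
    rwa [inv_inv] at this
  -- the elements of `C` trivial on `N / I` and `I`
  let Y : Subgroup G :=
    { carrier := {y | y ∈ C ∧ (∀ n ∈ N, n * (y * n * y⁻¹) ∈ I) ∧ ∀ i ∈ I, y * i * y⁻¹ = i}
      one_mem' := ⟨one_mem _, fun n hn => by simp [h.sq n hn], fun i _ => by group⟩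
      mul_mem' := by
        rintro x y ⟨hx, hx1, hx2⟩ ⟨hy, hy1, hy2⟩
        refine ⟨mul_mem hx hy, fun n hn => ?_, fun i hi => ?_⟩
        · have h3 := hy1 n hn
          have h4 := hx1 n hn
          have e1 : x * y * n * (x * y)⁻¹ = x * n * x⁻¹ * (x * (n⁻¹ * (y * n * y⁻¹)) * x⁻¹) := by group
          rw [e1, h.inv_eq hn, hx2 _ h3, ← mul_assoc]
          exact I.mul_mem h4 h3
        · have e1 : x * y * i * (x * y)⁻¹ = x * (y * i * y⁻¹) * x⁻¹ := by group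
          rw [e1, hy2 i hi, hx2 i hi]
      inv_mem' := by
        rintro x ⟨hx, hx1, hx2⟩
        have hx2' : ∀ i ∈ I, x⁻¹ * i * x = i := by
          intro i hi
          have h3 := hx2 i hi
          calc x⁻¹ * i * x = x⁻¹ * (x * i * x⁻¹) * x := by rw [h3]
            _ = i := by group
        refine ⟨inv_mem hx, fun n hn => ?_, fun i hi => by rw [inv_inv]; exact hx2' i hi⟩
        have h3 := hx1 n hn
        have h4 := hIC' x hx _ h3
        have e1 : x⁻¹ * (n * (x * n * x⁻¹)) * x = x⁻¹ * n * x * n := by group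
        rw [e1] at h4
        rw [inv_inv, h.comm n hn _ (h.conj_N' hx hn)]
        exact h4 }
  have hCY : C ≤ normalizer (Y : Set G) := by
    have key : ∀ c ∈ C, ∀ y ∈ Y, c * y * c⁻¹ ∈ Y := by
      rintro c hc y ⟨hy, hy1, hy2⟩
      refine ⟨mul_mem (mul_mem hc hy) (inv_mem hc), fun n hn => ?_, fun i hi => ?_⟩
      · have h3 := hIC c hc _ (hy1 _ (h.conj_N' hc hn))
        have e1 : c * (c⁻¹ * n * c * (y * (c⁻¹ * n * c) * y⁻¹)) * c⁻¹ = n * (c * y * c⁻¹ * n * (c * y * c⁻¹)⁻¹) := by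
          group
        rwa [e1] at h3
      · have h3 := hy2 _ (hIC' c hc i hi)
        calc c * y * c⁻¹ * i * (c * y * c⁻¹)⁻¹ = c * (y * (c⁻¹ * i * c) * y⁻¹) * c⁻¹ := by group
          _ = i := by rw [h3]; group
    intro c hc
    rw [mem_normalizer_iff]
    intro y
    refine ⟨key c hc y, fun hy => ?_⟩
    have h3 := key c⁻¹ (inv_mem hc) _ hy
    have e1 : c⁻¹ * (c * y * c⁻¹) * c⁻¹⁻¹ = y := by group
    rwa [e1] at h3
  have hcen := le_cent_of_unip (Y := Y) (h.TD.trans fun d hd => ((h.D_iff d).1 hd).1) h.T_odd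
    (fun t ht => ((h.D_iff t).1 (h.TD ht)).2) h.x_mem h.norm h.gen (fun y hy => hy.1) hCY (fun y hy => ?_)
  · intro n hn
    have h3 := mem_centralizer_iff.1 (hcen (show g ∈ Y from ⟨hg, h1, h2⟩)) n hn
    rw [← h3]; group
  · -- squares are trivial on `N`
    refine ⟨1, ?_⟩
    rw [pow_one, pow_two, mem_centralizer_iff]
    intro n hn
    have h2 := hy.2.1 n hn
    have h3 : y * n * y⁻¹ = n * (n * (y * n * y⁻¹)) := by rw [← mul_assoc, h.sq n hn, one_mul]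
    have h4 : y * y * n * (y * y)⁻¹ = n := by
      calc y * y * n * (y * y)⁻¹ = y * (y * n * y⁻¹) * y⁻¹ := by group
        _ = y * (n * (n * (y * n * y⁻¹))) * y⁻¹ := by rw [← h3]
        _ = y * n * y⁻¹ * (y * (n * (y * n * y⁻¹)) * y⁻¹) := by group
        _ = n * (n * (y * n * y⁻¹)) * (n * (y * n * y⁻¹)) := by rw [hy.2.2 _ h2, ← h3]
        _ = n := by rw [mul_assoc, h.sq _ (hIN h2), mul_one]
    calc n * (y * y) = y * y * n * (y * y)⁻¹ * (y * y) := by rw [h4]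
      _ = y * y * n := by group

end TBase

namespace TUn

variable {C D M T N : Subgroup G} {v e x₀ a : G} (h : TUn C D M T N v e x₀ a)
include h

theorem uniq' {p t t' : G} (hp : p ∈ Pts C x₀) (ht : Tr C N e p t) (ht' : Tr C N e p t') {n : G} (hn : n ∈ N) :
    t * n * t⁻¹ = t' * n * t'⁻¹ := by
  obtain ⟨g, hg, rfl⟩ := hp
  have e0 : g⁻¹ * (g * x₀ * g⁻¹) * g⁻¹⁻¹ = x₀ := by group
  have h1 := h.conj_tr ht (inv_mem hg)
  have h2 := h.conj_tr ht' (inv_mem hg)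
  rw [e0] at h1 h2
  have h3 := h.uniq _ _ h1 h2 _ (h.conj_N' hg hn)
  have e1 : ∀ s : G, g⁻¹ * s * g⁻¹⁻¹ * (g⁻¹ * n * g) * (g⁻¹ * s * g⁻¹⁻¹)⁻¹ = g⁻¹ * (s * n * s⁻¹) * g := by
    intro s; group
  rw [e1, e1] at h3
  exact mul_left_cancel (mul_right_cancel h3)

omit h in
/-- the functional of the point `p` -/
noncomputable def ff (C N : Subgroup G) (e p n : G) : ℤˣ :=
  open Classical in if ∀ t, Tr C N e p t → t * n * t⁻¹ = n then 1 else -1

theorem ff_one {p t n : G} (hp : p ∈ Pts C x₀) (ht : Tr C N e p t) (hn : n ∈ N) :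
    ff C N e p n = 1 ↔ t * n * t⁻¹ = n := by
  unfold ff
  split_ifs with h1
  · simp [h1 t ht]
  · constructor
    · intro h2; exact absurd h2 neg_ne
    · intro h2
      exact absurd (fun t' ht' => (h.uniq' hp ht' ht hn).trans h2) h1

theorem ff_neg {p t n : G} (hp : p ∈ Pts C x₀) (ht : Tr C N e p t) (hn : n ∈ N) :
    ff C N e p n = -1 ↔ t * n * t⁻¹ = n * (p * e) := by
  constructor
  · intro h1
    rcases ht.2.1 n hn with h2 | h2
    · rw [(h.ff_one hp ht hn).2 h2] at h1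
      exact absurd h1.symm neg_ne
    · exact h2
  · intro h1
    refine ne_of fun h2 => h.pe_ne ht ?_
    rw [(h.ff_one hp ht hn).1 h2] at h1
    exact mul_eq_left.1 h1.symm

theorem ff_mul {p : G} (hp : p ∈ Pts C x₀) : ∀ n ∈ N, ∀ m ∈ N, ff C N e p (n * m) = ff C N e p n * ff C N e p m := by
  intro n hn m hm
  obtain ⟨t, ht⟩ := h.exists_tr hp
  have hpe := h.pe_mem ht
  have e1 := h.conj_mul' t n m
  rcases Int.units_eq_one_or (ff C N e p n) with h1 | h1 <;> rcases Int.units_eq_one_or (ff C N e p m) with h2 | h2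
  · have h3 : ff C N e p (n * m) = 1 := by
      rw [h.ff_one hp ht (mul_mem hn hm), e1, (h.ff_one hp ht hn).1 h1, (h.ff_one hp ht hm).1 h2]
    rw [h1, h2, h3]; decide
  · have h3 : ff C N e p (n * m) = -1 := by
      rw [h.ff_neg hp ht (mul_mem hn hm), e1, (h.ff_one hp ht hn).1 h1, (h.ff_neg hp ht hm).1 h2]
      group
    rw [h1, h2, h3]; decide
  · have h3 : ff C N e p (n * m) = -1 := by
      rw [h.ff_neg hp ht (mul_mem hn hm), e1, (h.ff_neg hp ht hn).1 h1, (h.ff_one hp ht hm).1 h2]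
      rw [mul_assoc, h.comm _ hpe m hm, ← mul_assoc]
    rw [h1, h2, h3]; decide
  · have h3 : ff C N e p (n * m) = 1 := by
      rw [h.ff_one hp ht (mul_mem hn hm), e1, (h.ff_neg hp ht hn).1 h1, (h.ff_neg hp ht hm).1 h2]
      rw [mul_assoc, ← mul_assoc (p * e), h.comm _ hpe m hm, mul_assoc m, h.sq _ hpe, mul_one]
    rw [h1, h2, h3]; decide

theorem ff_e {p : G} (hp : p ∈ Pts C x₀) : ff C N e p e = 1 := by
  obtain ⟨t, ht⟩ := h.exists_tr hp
  exact (h.ff_one hp ht h.e_mem).2 (h.e_conj ht.1)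

theorem ff_self {p : G} (hp : p ∈ Pts C x₀) : ff C N e p p = 1 := by
  obtain ⟨t, ht⟩ := h.exists_tr hp
  have hpe := h.pe_mem ht
  have h1 : ff C N e p (p * e) = 1 := by
    refine (h.ff_one hp ht hpe).2 ?_
    rcases ht.2.1 _ hpe with h2 | h2
    · exact h2
    · exfalso
      rw [h.sq _ hpe] at h2
      apply h.pe_ne ht
      have : p * e = t⁻¹ * (t * (p * e) * t⁻¹) * t := by group
      rw [this, h2]; group
  rw [h.ff_mul hp p (h.pt_mem hp) e h.e_mem, h.ff_e hp, mul_one] at h1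
  exact h1

theorem ff_symm_aux {p q : G} (hp : p ∈ Pts C x₀) (hq : q ∈ Pts C x₀) (h1 : ff C N e p q = 1) :
    ff C N e q p = 1 := by
  obtain ⟨t, ht⟩ := h.exists_tr hp
  obtain ⟨s, hs⟩ := h.exists_tr hq
  have hpe := h.pe_mem ht
  have htq : t * q * t⁻¹ = q := (h.ff_one hp ht (h.pt_mem hq)).1 h1
  -- `t` and `s` commute on `N`
  have h2 := h.conj_tr hs ht.1
  rw [htq] at h2
  have h3 : ∀ n ∈ N, t * s * n * (t * s)⁻¹ = s * t * n * (s * t)⁻¹ := by
    intro n hn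
    have h4 := h.uniq' hq h2 hs (h.conj_N ht.1 hn)
    calc t * s * n * (t * s)⁻¹ = t * s * t⁻¹ * (t * n * t⁻¹) * (t * s * t⁻¹)⁻¹ := by group
      _ = s * (t * n * t⁻¹) * s⁻¹ := h4
      _ = _ := by group
  obtain ⟨n, hn, hn1⟩ := h.exists_ne ht
  have h5 := h3 n hn
  have e1 : s * t * n * (s * t)⁻¹ = s * (t * n * t⁻¹) * s⁻¹ := by group
  have e2 : t * s * n * (t * s)⁻¹ = t * (s * n * s⁻¹) * t⁻¹ := by group
  rw [e1, e2, hn1, h.conj_mul' s n] at h5
  -- `t` fixes `q e`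
  have hte : t * (q * e) * t⁻¹ = q * e := by rw [h.conj_mul' t, htq, h.e_conj ht.1]
  have hsn := h.conj_N hs.1 hn
  have h6 : t * (s * n * s⁻¹) * t⁻¹ = s * n * s⁻¹ * (p * e) := by
    rcases hs.2.1 n hn with h7 | h7
    · rw [h7, hn1]
    · rw [h7, h.conj_mul' t n, hn1, hte, mul_assoc n, mul_assoc n, h.comm _ hpe _ (h.pe_mem hs)]
  rw [h6] at h5
  have h7 := mul_left_cancel h5
  have h8 : ff C N e q (p * e) = 1 := (h.ff_one hq hs hpe).2 h7.symm
  rw [h.ff_mul hq p (h.pt_mem hp) e h.e_mem, h.ff_e hq, mul_one] at h8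
  exact h8

theorem ff_symm : ∀ p ∈ Pts C x₀, ∀ q ∈ Pts C x₀, ff C N e p q = ff C N e q p := by
  intro p hp q hq
  rcases Int.units_eq_one_or (ff C N e p q) with h1 | h1
  · rw [h1, h.ff_symm_aux hp hq h1]
  · rw [h1, eq_comm]
    refine ne_of fun h2 => ?_
    rw [h.ff_symm_aux hq hp h2] at h1
    exact absurd h1.symm neg_ne

/-- functionals on `N` agreeing on the points -/
theorem ext {φ ψ : G → ℤˣ} (h1 : ∀ u ∈ N, ∀ w ∈ N, φ (u * w) = φ u * φ w)
    (h2 : ∀ u ∈ N, ∀ w ∈ N, ψ (u * w) = ψ u * ψ w) (h3 : ∀ q ∈ Pts C x₀, φ q = ψ q) : ∀ u ∈ N, φ u = ψ u := by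
  intro u hu
  refine (closure_induction (p := fun x _ => x ∈ N ∧ φ x = ψ x) ?_ ?_ ?_ ?_ (h.gen hu)).2
  · exact fun q hq => ⟨h.pt_mem hq, h3 q hq⟩
  · refine ⟨N.one_mem, ?_⟩
    have e1 := h1 1 N.one_mem 1 N.one_mem
    have e2 := h2 1 N.one_mem 1 N.one_mem
    rw [mul_one, uu] at e1 e2
    rw [e1, e2]
  · rintro x y _ _ ⟨hx, ex⟩ ⟨hy, ey⟩
    exact ⟨N.mul_mem hx hy, by rw [h1 x hx y hy, h2 x hx y hy, ex, ey]⟩
  · rintro x _ ⟨hx, ex⟩
    rw [h.inv_eq hx]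
    exact ⟨hx, ex⟩

/-- **The form.** -/
theorem exists_frm : ∃ B : G → G → ℤˣ, Frm C N e x₀ B := by
  obtain ⟨B, h1, h2, h3, h4⟩ := FormOf.exists_form h.sq (fun p hp => h.pt_mem hp) h.gen
    (fun p hp => h.ff_mul hp) h.ff_symm (fun p hp => h.ff_self hp)
  have h5 : ∀ p ∈ Pts C x₀, ∀ t, Tr C N e p t → ∀ n ∈ N, (B p n = 1 ↔ t * n * t⁻¹ = n) := by
    intro p hp t ht n hn
    rw [h1 p hp n hn]
    exact h.ff_one hp ht hn
  refine ⟨B, ⟨h5, h2, h3, h4, fun c hc => ?_⟩⟩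
  -- invariance for a point
  have h6 : ∀ p ∈ Pts C x₀, ∀ n ∈ N, B (c * p * c⁻¹) (c * n * c⁻¹) = B p n := by
    intro p hp n hn
    obtain ⟨t, ht⟩ := h.exists_tr hp
    have h7 := h5 _ (h.conj_pt hp hc) _ (h.conj_tr ht hc) _ (h.conj_N hc hn)
    have h8 := h5 p hp t ht n hn
    have h9 : (c * t * c⁻¹ * (c * n * c⁻¹) * (c * t * c⁻¹)⁻¹ = c * n * c⁻¹) ↔ t * n * t⁻¹ = n := by
      have e1 : c * t * c⁻¹ * (c * n * c⁻¹) * (c * t * c⁻¹)⁻¹ = c * (t * n * t⁻¹) * c⁻¹ := by group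
      rw [e1]
      exact ⟨fun h => mul_left_cancel (mul_right_cancel h), fun h => by rw [h]⟩
    rw [h9, ← h8] at h7
    rcases Int.units_eq_one_or (B p n) with h10 | h10
    · rw [h10, h7.2 h10]
    · rw [h10]
      refine ne_of fun h11 => ?_
      rw [h7.1 h11] at h10
      exact absurd h10.symm neg_ne
  intro u hu w hw
  have h7 := h.ext (φ := fun u => B (c * u * c⁻¹) (c * w * c⁻¹)) (ψ := fun u => B u w)
    (fun x hx y hy => by
      rw [h.conj_mul' c, h3 _ (mul_mem (h.conj_N hc hx) (h.conj_N hc hy)) _ (h.conj_N hc hw),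
        h2 _ (h.conj_N hc hw) _ (h.conj_N hc hx) _ (h.conj_N hc hy), h3 _ (h.conj_N hc hw) _ (h.conj_N hc hx),
        h3 _ (h.conj_N hc hw) _ (h.conj_N hc hy)])
    (fun x hx y hy => by
      rw [h3 _ (mul_mem hx hy) _ hw, h2 _ hw _ hx _ hy, h3 _ hw _ hx, h3 _ hw _ hy])
    (fun p hp => h6 p hp w hw)
  exact h7 u hu

section frm

variable {B : G → G → ℤˣ} (F : Frm C N e x₀ B)
include F

theorem neg {p t n : G} (hp : p ∈ Pts C x₀) (ht : Tr C N e p t) (hn : n ∈ N) (h1 : B p n = -1) :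
    t * n * t⁻¹ = n * (p * e) := by
  refine (ht.2.1 n hn).resolve_left fun h2 => ?_
  rw [(F.tv p hp t ht n hn).2 h2] at h1
  exact absurd h1.symm neg_ne

theorem mul_left {u w x : G} (hu : u ∈ N) (hw : w ∈ N) (hx : x ∈ N) : B (u * w) x = B u x * B w x := by
  rw [F.symm _ (N.mul_mem hu hw) x hx, F.mul x hx u hu w hw, F.symm x hx u hu, F.symm x hx w hw]

theorem one_r {u : G} (hu : u ∈ N) : B u 1 = 1 := by
  have h1 := F.mul u hu 1 N.one_mem 1 N.one_mem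
  rw [mul_one, uu] at h1
  exact h1

theorem one_l {u : G} (hu : u ∈ N) : B 1 u = 1 := by
  rw [F.symm 1 N.one_mem u hu]; exact h.one_r F hu

theorem e_r {u : G} (hu : u ∈ N) : B u e = 1 :=
  h.ext (φ := fun u => B u e) (ψ := fun _ => 1) (fun _ hx _ hy => h.mul_left F hx hy h.e_mem) (fun _ _ _ _ => by simp)
    (fun p hp => by
      obtain ⟨t, ht⟩ := h.exists_tr hp
      exact (F.tv p hp t ht e h.e_mem).2 (h.e_conj ht.1)) u hu

theorem e_l {u : G} (hu : u ∈ N) : B e u = 1 := by rw [F.symm e h.e_mem u hu]; exact h.e_r F hu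

theorem mul_e {u w : G} (hu : u ∈ N) (hw : w ∈ N) : B (u * e) w = B u w := by
  rw [h.mul_left F hu h.e_mem hw, h.e_l F hw, mul_one]

theorem mul_e' {u w : G} (hu : u ∈ N) (hw : w ∈ N) : B w (u * e) = B w u := by
  rw [F.mul w hw u hu e h.e_mem, h.e_r F hw, mul_one]

/-- `t_p` maps a point `q` not perpendicular to `p` to `q p e` -/
theorem trv {p q : G} (hp : p ∈ Pts C x₀) (hq : q ∈ Pts C x₀) (h1 : B p q = -1) : p * q * e ∈ Pts C x₀ := by
  obtain ⟨t, ht⟩ := h.exists_tr hp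
  have h2 := h.neg F hp ht (h.pt_mem hq) h1
  have h3 := h.conj_pt hq ht.1
  rw [h2] at h3
  have h4 : q * (p * e) = p * q * e := by rw [← mul_assoc, h.comm q (h.pt_mem hq) p (h.pt_mem hp)]
  rwa [h4] at h3

theorem exists_nonperp {p : G} (hp : p ∈ Pts C x₀) : ∃ q ∈ Pts C x₀, B p q = -1 := by
  by_contra hc
  push Not at hc
  obtain ⟨t, ht⟩ := h.exists_tr hp
  obtain ⟨n, hn, hn1⟩ := ht.2.2
  apply hn1
  have hpN := h.pt_mem hp
  refine (F.tv p hp t ht n hn).1 ?_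
  exact h.ext (φ := fun u => B p u) (ψ := fun _ => 1) (F.mul p hpN) (fun _ _ _ _ => by simp)
    (fun q hq => by
      by_contra h1
      exact hc q hq (ne_of h1)) n hn

/-- (INJ) -/
theorem inj [Finite G] {p q : G} (hp : p ∈ Pts C x₀) (hq : q ∈ Pts C x₀) (h1 : ∀ y ∈ N, B (p * q) y = 1) : p = q := by
  have hpN := h.pt_mem hp
  have hqN := h.pt_mem hq
  have hpq : ∀ y ∈ N, B p y = B q y := by
    intro y hy
    have h2 := h1 y hy
    rw [h.mul_left F hpN hqN hy] at h2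
    rcases Int.units_eq_one_or (B p y) with h3 | h3 <;> rcases Int.units_eq_one_or (B q y) with h4 | h4 <;>
      rw [h3, h4] at h2 ⊢
    · exact absurd h2 (by decide)
    · exact absurd h2 (by decide)
  -- the radical
  let I : Subgroup G :=
    { carrier := {u | u ∈ N ∧ ∀ w ∈ N, B u w = 1}
      one_mem' := ⟨N.one_mem, fun w hw => h.one_l F hw⟩
      mul_mem' := by
        rintro x y ⟨hx, hx'⟩ ⟨hy, hy'⟩
        exact ⟨mul_mem hx hy, fun w hw => by rw [h.mul_left F hx hy hw, hx' w hw, hy' w hw, one_mul]⟩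
      inv_mem' := by
        rintro x ⟨hx, hx'⟩
        change x⁻¹ ∈ N ∧ ∀ w ∈ N, B x⁻¹ w = 1
        rw [h.inv_eq hx]
        exact ⟨hx, hx'⟩ }
  have hI : ∀ x, x ∈ I ↔ x ∈ N ∧ ∀ w ∈ N, B x w = 1 := fun x => Iff.rfl
  have hIC : ∀ c ∈ C, ∀ x ∈ I, c * x * c⁻¹ ∈ I := by
    rintro c hc x ⟨hx, hx'⟩
    refine ⟨h.conj_N hc hx, fun w hw => ?_⟩
    have h2 := F.inv c hc x hx _ (h.conj_N' hc hw)
    have e1 : c * (c⁻¹ * w * c) * c⁻¹ = w := by group
    rw [e1] at h2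
    rw [h2]
    exact hx' _ (h.conj_N' hc hw)
  -- `t_p t_q`
  obtain ⟨t, ht⟩ := h.exists_tr hp
  obtain ⟨s, hs⟩ := h.exists_tr hq
  have hact : ∀ n ∈ N, (B p n = 1 → t * s * n * (t * s)⁻¹ = n) ∧ (B p n = -1 → t * s * n * (t * s)⁻¹ = n * (p * q)) := by
    intro n hn
    have e1 : t * s * n * (t * s)⁻¹ = t * (s * n * s⁻¹) * t⁻¹ := by group
    constructor
    · intro h2
      rw [e1, (F.tv q hq s hs n hn).1 (by rw [← hpq n hn, h2]), (F.tv p hp t ht n hn).1 h2]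
    · intro h2
      have h3 : t * (q * e) * t⁻¹ = q * e := by
        refine (F.tv p hp t ht _ (h.pe_mem hs)).1 ?_
        rw [h.mul_e' F hqN hpN, hpq q hqN, F.self q hqN]
      rw [e1, h.neg F hq hs hn (by rw [← hpq n hn, h2]), h.conj_mul' t n, h.neg F hp ht hn h2, h3, mul_assoc]
      congr 1
      rw [h.comm q hqN e h.e_mem, mul_assoc p, ← mul_assoc e e, h.ee, one_mul]
  obtain ⟨n, hn, hn1⟩ := h.exists_nonperp F hp
  have hnN := h.pt_mem hn
  have h2 := (hact n hnN).2 hn1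
  rw [h.triv_series (I := I) (fun x hx => hx.1) hIC (mul_mem ht.1 hs.1) (fun n hn => ?_) (fun i hi => ?_) n hnN] at h2
  · have h4 : p * q = 1 := mul_eq_left.1 h2.symm
    rw [mul_eq_one_iff_eq_inv, h.inv_eq hqN] at h4
    exact h4
  · rcases Int.units_eq_one_or (B p n) with h2 | h2
    · rw [(hact n hn).1 h2, h.sq n hn]
      exact I.one_mem
    · rw [(hact n hn).2 h2, ← mul_assoc, h.sq n hn, one_mul]
      exact ⟨mul_mem hpN hqN, h1⟩
  · refine (hact i hi.1).1 ?_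
    rw [F.symm p hpN i hi.1]
    exact hi.2 p hpN

omit h F in
/-- two points not perpendicular to each other -/
def Np (C : Subgroup G) (x₀ : G) (B : G → G → ℤˣ) (p q : G) : Prop :=
  p ∈ Pts C x₀ ∧ q ∈ Pts C x₀ ∧ B p q = -1

theorem Np_symm {p q : G} (h1 : Np C x₀ B p q) : Np C x₀ B q p :=
  ⟨h1.2.1, h1.1, by rw [F.symm q (h.pt_mem h1.2.1) p (h.pt_mem h1.1)]; exact h1.2.2⟩

theorem Np_conj {p q c : G} (hc : c ∈ C) (h1 : Np C x₀ B p q) : Np C x₀ B (c * p * c⁻¹) (c * q * c⁻¹) :=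
  ⟨h.conj_pt h1.1 hc, h.conj_pt h1.2.1 hc, by rw [F.inv c hc p (h.pt_mem h1.1) q (h.pt_mem h1.2.1)]; exact h1.2.2⟩

theorem path_symm {p q : G} (h1 : Relation.ReflTransGen (Np C x₀ B) p q) : Relation.ReflTransGen (Np C x₀ B) q p := by
  induction h1 with
  | refl => exact Relation.ReflTransGen.refl
  | tail _ h2 ih => exact Relation.ReflTransGen.head (h.Np_symm F h2) ih

theorem path_conj {p q c : G} (hc : c ∈ C) (h1 : Relation.ReflTransGen (Np C x₀ B) p q) :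
    Relation.ReflTransGen (Np C x₀ B) (c * p * c⁻¹) (c * q * c⁻¹) := by
  induction h1 with
  | refl => exact Relation.ReflTransGen.refl
  | tail _ h2 ih => exact ih.tail (h.Np_conj F hc h2)

theorem path_line : Relation.ReflTransGen (Np C x₀ B) x₀ a ∧ Relation.ReflTransGen (Np C x₀ B) x₀ (x₀ * a) := by
  obtain ⟨w, hw, hw1⟩ := h.exists_nonperp F h.x_pt
  have hwN := h.pt_mem hw
  have haN := h.pt_mem h.a_pt
  have h1 : Relation.ReflTransGen (Np C x₀ B) x₀ w := Relation.ReflTransGen.single ⟨h.x_pt, hw, hw1⟩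
  obtain ⟨d, hd, hda⟩ := h.tau
  have hd' := (h.D_iff d).1 hd
  have hdx : d * x₀ * d⁻¹ = x₀ := by rw [hd'.2]; group
  have hdx' : d⁻¹ * x₀ * d⁻¹⁻¹ = x₀ := by
    calc d⁻¹ * x₀ * d⁻¹⁻¹ = d⁻¹ * (x₀ * d) := by group
      _ = d⁻¹ * (d * x₀) := by rw [hd'.2]
      _ = x₀ := by group
  have hda' : d⁻¹ * (x₀ * a) * d⁻¹⁻¹ = a := by rw [← hda]; group
  rcases Int.units_eq_one_or (B w a) with h2 | h2
  · have h3 : B w (x₀ * a) = -1 := by
      rw [F.mul w hwN x₀ h.x_mem a haN, h2, mul_one, F.symm w hwN x₀ h.x_mem, hw1]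
    have h4 : Relation.ReflTransGen (Np C x₀ B) x₀ (x₀ * a) := h1.tail ⟨hw, h.xa_pt, h3⟩
    refine ⟨?_, h4⟩
    have h5 := h.path_conj F (inv_mem hd'.1) h4
    rwa [hdx', hda'] at h5
  · have h4 : Relation.ReflTransGen (Np C x₀ B) x₀ a := h1.tail ⟨hw, h.a_pt, h2⟩
    refine ⟨h4, ?_⟩
    have h5 := h.path_conj F hd'.1 h4
    rwa [hdx, hda] at h5

/-- the graph 'not perpendicular' is connected -/
theorem path {p : G} (hp : p ∈ Pts C x₀) : Relation.ReflTransGen (Np C x₀ B) x₀ p := by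
  let H : Subgroup G :=
    { carrier := {c | c ∈ C ∧ Relation.ReflTransGen (Np C x₀ B) x₀ (c * x₀ * c⁻¹)}
      one_mem' := ⟨one_mem _, by simpa using Relation.ReflTransGen.refl⟩
      mul_mem' := by
        rintro x y ⟨hx, hx'⟩ ⟨hy, hy'⟩
        refine ⟨mul_mem hx hy, ?_⟩
        have h1 := hx'.trans (h.path_conj F hx hy')
        have e1 : x * (y * x₀ * y⁻¹) * x⁻¹ = x * y * x₀ * (x * y)⁻¹ := by group
        rwa [e1] at h1
      inv_mem' := by
        rintro x ⟨hx, hx'⟩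
        refine ⟨inv_mem hx, ?_⟩
        have h1 := h.path_conj F (inv_mem hx) (h.path_symm F hx')
        have e1 : x⁻¹ * (x * x₀ * x⁻¹) * x⁻¹⁻¹ = x₀ := by group
        rwa [e1] at h1 }
  have hH : ∀ c, c ∈ H ↔ c ∈ C ∧ Relation.ReflTransGen (Np C x₀ B) x₀ (c * x₀ * c⁻¹) := fun c => Iff.rfl
  have hDH : D ≤ H := by
    intro d hd
    have h1 := (h.D_iff d).1 hd
    refine ⟨h1.1, ?_⟩
    have : d * x₀ * d⁻¹ = x₀ := by rw [h1.2]; group
    rw [this]
  have hMH : M ≤ H := by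
    intro m hm
    refine ⟨h.MC hm, ?_⟩
    rcases h.ML m hm with h1 | h1 | h1
    · rw [h1]
    · rw [h1]; exact (h.path_line F).1
    · rw [h1]; exact (h.path_line F).2
  obtain ⟨g, hg, rfl⟩ := hp
  exact ((hH g).1 ((h.CDM.trans (sup_le hDH hMH)) hg)).2

theorem conn : ∀ A : Set G, A ⊆ Pts C x₀ → A.Nonempty → (∀ p ∈ A, ∀ p' ∈ Pts C x₀, B p p' = -1 → p' ∈ A) →
    A = Pts C x₀ := by
  intro A hA ⟨q, hq⟩ hcl
  refine Set.Subset.antisymm hA fun p hp => ?_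
  have h1 : Relation.ReflTransGen (Np C x₀ B) q p := (h.path_symm F (h.path F (hA hq))).trans (h.path F hp)
  clear hp
  induction h1 with
  | refl => exact hq
  | tail _ h2 ih => exact hcl _ ih _ h2.2.1 h2.2.2

theorem form (he1 : e = 1) : Form N (Pts C x₀) B := by
  refine ⟨h.sq, h.comm, fun p hp => h.pt_mem hp, h.gen, F.mul, F.symm, F.self, fun p hp q hq h1 => ?_, h.conn F⟩
  have h2 := h.trv F hp hq h1
  rwa [he1, mul_one] at h2

end frm

end TUn

namespace TDat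

variable {C D M T N : Subgroup G} {v e x₀ a : G} (h : TDat C D M T N v e x₀ a)
include h

section frm

variable {B : G → G → ℤˣ} (F : Frm C N e x₀ B)
include F

theorem B_xa : B x₀ a = 1 := by
  obtain ⟨t, ht⟩ := h.tr
  exact (F.tv x₀ h.x_pt t ht a (h.pt_mem h.a_pt)).2 (h.ti t ht)

theorem formV [Finite G] (he1 : e ≠ 1) : FormV N e (Pts C x₀) B :=
  ⟨h.sq, h.comm, fun _ hp => h.pt_mem hp, h.gen, h.e_mem, he1, F.mul, F.symm, F.self, fun _ hu => h.e_l F hu,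
    fun _ hp _ hq h1 => h.trv F hp hq h1, h.conn F, fun _ hp _ hq h1 => h.inj F hp hq h1,
    ⟨x₀, h.x_pt, a, h.a_pt, h.a_ne.symm, h.B_xa F, Or.inl h.xa_pt⟩⟩

theorem onLine : OnLine (Pts C x₀) B x₀ := ⟨a, h.a_pt, h.a_ne, h.B_xa F, h.xa_pt⟩

/-- **all vectors are points** (modulo `e`) -/
theorem points [Finite G] {u : G} (hu : u ∈ N) : u = 1 ∨ u = e ∨ u ∈ Pts C x₀ ∨ u * e ∈ Pts C x₀ := by
  by_cases he1 : e = 1
  · by_cases hu1 : u = 1
    · exact Or.inl hu1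
    · exact Or.inr (Or.inr (Or.inl (OneSymp.all_points (h.form F he1) (fun p hp q hq h1 => h.inj F hp hq h1) h.x_pt
        (h.onLine F) hu hu1)))
  · exact (h.formV F he1).all_points hu

theorem not_both [Finite G] (he1 : e ≠ 1) {p : G} (hp : p ∈ Pts C x₀) : p * e ∉ Pts C x₀ :=
  (h.formV F he1).not_both hp

/-- **the radical is `{1, e}`** -/
theorem rad [Finite G] {u : G} (hu : u ∈ N) (h1 : ∀ w ∈ N, B u w = 1) : u = 1 ∨ u = e := by
  by_cases he1 : e = 1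
  · exact Or.inl (OneSymp.rad_eq (h.form F he1) (fun p hp q hq h1 => h.inj F hp hq h1) h.x_pt (h.onLine F) hu h1)
  · exact (h.formV F he1).rad_eq hu h1

theorem pt_ne {p : G} (hp : p ∈ Pts C x₀) : p ≠ 1 ∧ p ≠ e := by
  obtain ⟨q, hq, h1⟩ := h.exists_nonperp F hp
  have hqN := h.pt_mem hq
  constructor
  · rintro rfl
    rw [h.one_l F hqN] at h1
    exact absurd h1.symm neg_ne
  · rintro rfl
    rw [h.e_l F hqN] at h1
    exact absurd h1.symm neg_ne

/-- `(x^⊥)^⊥ = ⟨x, e⟩` for a point `x` -/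
theorem perp_perp [Finite G] {x u : G} (hx : x ∈ Pts C x₀) (hu : u ∈ N) (h1 : ∀ w ∈ N, B x w = 1 → B u w = 1) :
    u = 1 ∨ u = e ∨ u = x ∨ u = x * e := by
  have hxN := h.pt_mem hx
  obtain ⟨y, hy, hxy⟩ := h.exists_nonperp F hx
  have hyN := h.pt_mem hy
  rcases Int.units_eq_one_or (B u y) with h2 | h2
  · have h3 : ∀ w ∈ N, B u w = 1 := by
      intro w hw
      rcases Int.units_eq_one_or (B x w) with h4 | h4
      · exact h1 w hw h4
      · have h5 := h1 (w * y) (mul_mem hw hyN) (by rw [F.mul x hxN w hw y hyN, h4, hxy]; decide)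
        rw [F.mul u hu w hw y hyN, h2, mul_one] at h5
        exact h5
    rcases h.rad F hu h3 with h4 | h4
    · exact Or.inl h4
    · exact Or.inr (Or.inl h4)
  · have h3 : ∀ w ∈ N, B (x * u) w = 1 := by
      intro w hw
      rw [h.mul_left F hxN hu hw]
      rcases Int.units_eq_one_or (B x w) with h4 | h4
      · rw [h4, h1 w hw h4, one_mul]
      · have h5 := h1 (w * y) (mul_mem hw hyN) (by rw [F.mul x hxN w hw y hyN, h4, hxy]; decide)
        rw [F.mul u hu w hw y hyN, h2] at h5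
        rw [h4, mul_comm]
        exact h5
    have e1 : u = x * (x * u) := by rw [← mul_assoc, h.sq x hxN, one_mul]
    rcases h.rad F (mul_mem hxN hu) h3 with h4 | h4
    · rw [h4, mul_one] at e1
      exact Or.inr (Or.inr (Or.inl e1))
    · rw [h4] at e1
      exact Or.inr (Or.inr (Or.inr e1))

/-- elements of `C` fixing `p` and the hyperplane `p^⊥` -/
theorem tr_fix {p t n : G} (hp : p ∈ Pts C x₀) (ht : Tr C N e p t) (hn : n ∈ N) (h1 : B p n = 1) :
    t * n * t⁻¹ = n := (F.tv p hp t ht n hn).1 h1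

/-- `t_p ∈ D` for a point `p` of `x₀^⊥` -/
theorem tr_mem_D {p t : G} (hp : p ∈ Pts C x₀) (ht : Tr C N e p t) (h1 : B x₀ p = 1) : t ∈ D := by
  refine (h.D_iff t).2 ⟨ht.1, ?_⟩
  have h2 := h.tr_fix F hp ht h.x_mem (by rw [F.symm p (h.pt_mem hp) x₀ h.x_mem, h1])
  calc t * x₀ = t * x₀ * t⁻¹ * t := by group
    _ = x₀ * t := by rw [h2]

/-- **an invariant subgroup of `x₀^⊥` containing `x₀`, `e` is `⟨x₀, e⟩` or `x₀^⊥`** -/
theorem eq_perp [Finite G] {A : Subgroup G} (heA : e ∈ A) (hxA : x₀ ∈ A) (hA : ∀ b ∈ A, b ∈ N ∧ B x₀ b = 1)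
    (hD : ∀ t ∈ D, ∀ b ∈ A, t * b * t⁻¹ ∈ A) :
    (∀ b ∈ A, b = 1 ∨ b = e ∨ b = x₀ ∨ b = x₀ * e) ∨ ∀ u ∈ N, B x₀ u = 1 → u ∈ A := by
  have key : ∀ p ∈ Pts C x₀, B x₀ p = 1 → ∀ b ∈ A, B p b = -1 → b * (p * e) ∈ A := by
    intro p hp h1 b hb h2
    obtain ⟨t, ht⟩ := h.exists_tr hp
    have h3 := hD t (h.tr_mem_D F hp ht h1) b hb
    rwa [h.neg F hp ht (hA b hb).1 h2] at h3
  by_cases he1 : e = 1
  · rcases OneSymp.bot_or_perp (h.form F he1) (fun p hp q hq h1 => h.inj F hp hq h1) h.x_pt (h.onLine F) hxA hA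
      (fun _ hp h1 ⟨b, hb, h2⟩ => by
        have h3 := A.mul_mem (A.inv_mem hb) (key _ hp h1 b hb h2)
        rwa [inv_mul_cancel_left, he1, mul_one] at h3) with h1 | h1
    · left
      intro b hb
      rcases h1 b hb with h2 | h2
      · exact Or.inl h2
      · exact Or.inr (Or.inr (Or.inl h2))
    · exact Or.inr h1
  · exact (h.formV F he1).four_or_perp h.x_pt heA hxA hA key

theorem XX_le : h.XX ≤ N := by
  intro z hz
  rcases h.mem_XX.1 hz with rfl | rfl | rfl | rfl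
  · exact N.one_mem
  · exact h.e_mem
  · exact h.x_mem
  · exact mul_mem h.x_mem h.e_mem

theorem D_C {d : G} (hd : d ∈ D) : d ∈ C := ((h.D_iff d).1 hd).1

theorem D_x {d : G} (hd : d ∈ D) : d * x₀ * d⁻¹ = x₀ := by rw [((h.D_iff d).1 hd).2]; group

theorem D_XX {d z : G} (hd : d ∈ D) (hz : z ∈ h.XX) : d * z * d⁻¹ = z := by
  rcases h.mem_XX.1 hz with rfl | rfl | rfl | rfl
  · group
  · exact h.e_conj (h.D_C F hd)
  · exact h.D_x F hd
  · rw [h.conj_mul' d, h.D_x F hd, h.e_conj (h.D_C F hd)]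

theorem D_B {d n : G} (hd : d ∈ D) (hn : n ∈ N) : B x₀ (d * n * d⁻¹) = B x₀ n := by
  have h1 := F.inv d (h.D_C F hd) x₀ h.x_mem n hn
  rwa [h.D_x F hd] at h1

theorem D_B' {d n : G} (hd : d ∈ D) (hn : n ∈ N) : B x₀ (d⁻¹ * n * d) = B x₀ n := by
  have := h.D_B F (inv_mem hd) hn
  rwa [inv_inv] at this

theorem XX_perp {z : G} (hz : z ∈ h.XX) : B x₀ z = 1 := by
  rcases h.mem_XX.1 hz with rfl | rfl | rfl | rfl
  · exact h.one_r F h.x_mem
  · exact h.e_r F h.x_mem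
  · exact F.self _ h.x_mem
  · rw [h.mul_e' F h.x_mem h.x_mem]; exact F.self _ h.x_mem

/-- `a ∉ {1, e, x₀, x₀ e}` -/
theorem a_notMem [Finite G] : a ∉ h.XX := by
  intro h1
  have hp := h.pt_ne F h.a_pt
  rcases h.mem_XX.1 h1 with h2 | h2 | h2 | h2
  · exact hp.1 h2
  · exact hp.2 h2
  · exact h.a_ne h2
  · by_cases he1 : e = 1
    · rw [he1, mul_one] at h2; exact h.a_ne h2
    · apply h.not_both F he1 h.x_pt
      rw [← h2]; exact h.a_pt

/-- `E = ⟨{x₀, a}^D⟩` is `x₀^⊥`, in particular `e ∈ E` -/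
theorem e_mem_E [Finite G] {E : Subgroup G} (hxE : x₀ ∈ E) (haE : a ∈ E) (hE : ∀ b ∈ E, b ∈ N ∧ B x₀ b = 1)
    (hD : ∀ t ∈ D, ∀ b ∈ E, t * b * t⁻¹ ∈ E) : e ∈ E := by
  by_contra heE
  let A : Subgroup G :=
    { carrier := {b | b ∈ N ∧ (b ∈ E ∨ b * e ∈ E)}
      one_mem' := ⟨N.one_mem, Or.inl (one_mem _)⟩
      mul_mem' := by
        rintro u w ⟨hu, hu'⟩ ⟨hw, hw'⟩
        refine ⟨mul_mem hu hw, ?_⟩
        rcases hu' with h1 | h1 <;> rcases hw' with h2 | h2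
        · exact Or.inl (mul_mem h1 h2)
        · exact Or.inr (by rw [mul_assoc]; exact mul_mem h1 h2)
        · right
          have := mul_mem h1 h2
          rwa [mul_assoc, h.comm e h.e_mem w hw, ← mul_assoc] at this
        · left
          have := mul_mem h1 h2
          rwa [mul_assoc, h.comm w hw e h.e_mem, ← mul_assoc e, h.ee, one_mul] at this
      inv_mem' := by
        rintro u ⟨hu, hu'⟩
        change u⁻¹ ∈ N ∧ (u⁻¹ ∈ E ∨ u⁻¹ * e ∈ E)
        rw [h.inv_eq hu]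
        exact ⟨hu, hu'⟩ }
  have hAm : ∀ b, b ∈ A ↔ b ∈ N ∧ (b ∈ E ∨ b * e ∈ E) := fun b => Iff.rfl
  have hxB : ∀ b ∈ A, B x₀ b = 1 := by
    rintro b ⟨hb, h1 | h1⟩
    · exact (hE b h1).2
    · rw [← h.mul_e' F hb h.x_mem]; exact (hE _ h1).2
  rcases h.eq_perp F (A := A) ⟨h.e_mem, Or.inr (by rw [h.ee]; exact one_mem _)⟩ ⟨h.x_mem, Or.inl hxE⟩
    (fun b hb => ⟨hb.1, hxB b hb⟩) (by
      rintro t ht b ⟨hb, hb'⟩
      refine ⟨h.conj_N (h.D_C F ht) hb, ?_⟩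
      rcases hb' with h1 | h1
      · exact Or.inl (hD t ht b h1)
      · right
        have h2 := hD t ht _ h1
        rwa [h.conj_mul' t, h.e_conj (h.D_C F ht)] at h2) with h1 | h1
  · exact h.a_notMem F (h.mem_XX.2 (h1 a ⟨h.pt_mem h.a_pt, Or.inl haE⟩))
  · -- some `w ∈ x₀^⊥` is not perpendicular to `a`
    have haN := h.pt_mem h.a_pt
    obtain ⟨w, hw, hw1, hw2⟩ : ∃ w ∈ N, B x₀ w = 1 ∧ B a w = -1 := by
      by_contra hc
      push Not at hc
      refine h.a_notMem F (h.mem_XX.2 (h.perp_perp F h.x_pt haN fun w hw h2 => ?_))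
      by_contra h3
      exact hc w hw h2 (ne_of h3)
    obtain ⟨w', hw', hw'2⟩ : ∃ w' ∈ E, B a w' = -1 := by
      rcases (h1 w hw hw1).2 with h2 | h2
      · exact ⟨w, h2, hw2⟩
      · exact ⟨w * e, h2, by rw [h.mul_e' F hw haN, hw2]⟩
    obtain ⟨t, ht⟩ := h.exists_tr h.a_pt
    have h3 := hD t (h.tr_mem_D F h.a_pt ht (h.B_xa F)) w' hw'
    rw [h.neg F h.a_pt ht (hE w' hw').1 hw'2] at h3
    apply heE
    have h4 := E.mul_mem (E.inv_mem haE) (E.mul_mem (E.inv_mem hw') h3)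
    rwa [inv_mul_cancel_left, inv_mul_cancel_left] at h4

/-- **`E = x₀^⊥`** -/
theorem perp_le_E [Finite G] {E : Subgroup G} (hxE : x₀ ∈ E) (haE : a ∈ E) (hE : ∀ b ∈ E, b ∈ N ∧ B x₀ b = 1)
    (hD : ∀ t ∈ D, ∀ b ∈ E, t * b * t⁻¹ ∈ E) {u : G} (hu : u ∈ N) (h1 : B x₀ u = 1) : u ∈ E := by
  rcases h.eq_perp F (A := E) (h.e_mem_E F hxE haE hE hD) hxE hE hD with h2 | h2
  · exact absurd (h.mem_XX.2 (h2 a haE)) (h.a_notMem F)
  · exact h2 u hu h1

theorem T_le_C : T ≤ C := h.TD.trans fun _ hd => h.D_C F hd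

/-- an element `g` of `C` with `[N, g] ≤ ⟨e⟩` centralises `N` -/
theorem triv_e [Finite G] {g : G} (hg : g ∈ C) (h1 : ∀ n ∈ N, g * n * g⁻¹ = n ∨ g * n * g⁻¹ = n * e) :
    ∀ n ∈ N, g * n * g⁻¹ = n := by
  let Y : Subgroup G :=
    { carrier := {y | y ∈ C ∧ ∀ n ∈ N, y * n * y⁻¹ = n ∨ y * n * y⁻¹ = n * e}
      one_mem' := ⟨one_mem _, fun n _ => Or.inl (by group)⟩
      mul_mem' := by
        rintro x y ⟨hx, hx'⟩ ⟨hy, hy'⟩
        refine ⟨mul_mem hx hy, fun n hn => ?_⟩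
        have e1 : x * y * n * (x * y)⁻¹ = x * (y * n * y⁻¹) * x⁻¹ := by group
        rw [e1]
        rcases hy' n hn with h2 | h2 <;> rw [h2]
        · exact hx' n hn
        · rw [h.conj_mul' x, h.e_conj hx]
          rcases hx' n hn with h3 | h3 <;> rw [h3]
          · exact Or.inr rfl
          · left; rw [mul_assoc, h.ee, mul_one]
      inv_mem' := by
        rintro x ⟨hx, hx'⟩
        refine ⟨inv_mem hx, fun n hn => ?_⟩
        have h2 := hx' _ (h.conj_N' hx hn)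
        have e1 : x * (x⁻¹ * n * x) * x⁻¹ = n := by group
        rw [e1] at h2
        rw [inv_inv]
        rcases h2 with h2 | h2
        · exact Or.inl h2.symm
        · right
          calc x⁻¹ * n * x = x⁻¹ * n * x * e * e := by rw [mul_assoc _ e e, h.ee, mul_one]
            _ = n * e := by rw [← h2] }
  have hY : ∀ y, y ∈ Y ↔ y ∈ C ∧ ∀ n ∈ N, y * n * y⁻¹ = n ∨ y * n * y⁻¹ = n * e := fun y => Iff.rfl
  have hCY : C ≤ normalizer (Y : Set G) := by
    have key : ∀ c ∈ C, ∀ y ∈ Y, c * y * c⁻¹ ∈ Y := by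
      rintro c hc y ⟨hy, hy1⟩
      refine ⟨mul_mem (mul_mem hc hy) (inv_mem hc), fun n hn => ?_⟩
      have e1 : c * y * c⁻¹ * n * (c * y * c⁻¹)⁻¹ = c * (y * (c⁻¹ * n * c) * y⁻¹) * c⁻¹ := by group
      rw [e1]
      rcases hy1 _ (h.conj_N' hc hn) with h2 | h2 <;> rw [h2]
      · left; group
      · right
        rw [h.conj_mul' c, h.e_conj hc]; group
    intro c hc
    rw [mem_normalizer_iff]
    intro y
    refine ⟨key c hc y, fun hy => ?_⟩
    have h3 := key c⁻¹ (inv_mem hc) _ hy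
    have e1 : c⁻¹ * (c * y * c⁻¹) * c⁻¹⁻¹ = y := by group
    rwa [e1] at h3
  have hcen := le_cent_of_unip (Y := Y) (h.T_le_C F) h.T_odd
    (fun t ht => ((h.D_iff t).1 (h.TD ht)).2) h.x_mem h.norm h.gen (fun y hy => hy.1) hCY (fun y hy => by
      refine ⟨1, ?_⟩
      rw [pow_one, pow_two, mem_centralizer_iff]
      intro n hn
      have h4 : y * y * n * (y * y)⁻¹ = n := by
        have e1 : y * y * n * (y * y)⁻¹ = y * (y * n * y⁻¹) * y⁻¹ := by group
        rw [e1]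
        rcases hy.2 n hn with h2 | h2
        · rw [h2, h2]
        · rw [h2, h.conj_mul' y, h.e_conj hy.1, h2, mul_assoc, h.ee, mul_one]
      calc n * (y * y) = y * y * n * (y * y)⁻¹ * (y * y) := by rw [h4]
        _ = y * y * n := by group)
  intro n hn
  have h2 := mem_centralizer_iff.1 (hcen ((hY g).2 ⟨hg, h1⟩)) n hn
  rw [← h2]; group

/-- an element `g` of `C` centralising `x₀^⊥` acts on `N` as `n ↦ n m`, `m ∈ ⟨x₀, e⟩`, outside `x₀^⊥` -/
theorem hyper_aux [Finite G] {g : G} (hg : g ∈ C) (h1 : ∀ n ∈ N, B x₀ n = 1 → g * n * g⁻¹ = n) :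
    ∃ m ∈ h.XX, ∀ n ∈ N, B x₀ n = -1 → g * n * g⁻¹ = n * m := by
  obtain ⟨y, hy, hxy⟩ := h.exists_nonperp F h.x_pt
  have hyN := h.pt_mem hy
  have hgy := h.conj_N hg hyN
  refine ⟨y * (g * y * g⁻¹), h.mem_XX.2 (h.perp_perp F h.x_pt (mul_mem hyN hgy) fun w hw h2 => ?_), fun n hn h2 => ?_⟩
  · have h3 := F.inv g hg y hyN w hw
    rw [h1 w hw h2] at h3
    rw [h.mul_left F hyN hgy hw, h3, uu]
  · have h3 : B x₀ (y * n) = 1 := by rw [F.mul x₀ h.x_mem y hyN n hn, hxy, h2]; decide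
    have h4 := h1 _ (mul_mem hyN hn) h3
    have e1 : n = y * (y * n) := by rw [← mul_assoc, h.sq y hyN, one_mul]
    calc g * n * g⁻¹ = g * y * g⁻¹ * (g * (y * n) * g⁻¹) := by
          rw [← h.conj_mul' g, ← e1]
      _ = n * (y * (g * y * g⁻¹)) := by
          rw [h4, ← mul_assoc n, h.comm n hn y hyN, h.comm _ (mul_mem hyN hn) _ hgy]

/-- **an element of `C` centralising the hyperplane `x₀^⊥` acts trivially or as `t_{x₀}`** -/
theorem hyper [Finite G] {g : G} (hg : g ∈ C) (h1 : ∀ n ∈ N, B x₀ n = 1 → g * n * g⁻¹ = n) :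
    (∀ n ∈ N, g * n * g⁻¹ = n) ∨ ∀ n ∈ N, B x₀ n = -1 → g * n * g⁻¹ = n * (x₀ * e) := by
  obtain ⟨m, hm, h2⟩ := h.hyper_aux F hg h1
  have hall : ∀ n ∈ N, g * n * g⁻¹ = n ∨ g * n * g⁻¹ = n * m := by
    intro n hn
    rcases Int.units_eq_one_or (B x₀ n) with h3 | h3
    · exact Or.inl (h1 n hn h3)
    · exact Or.inr (h2 n hn h3)
  rcases h.mem_XX.1 hm with rfl | rfl | rfl | rfl
  · left
    intro n hn
    rcases hall n hn with h3 | h3
    · exact h3
    · rw [h3, mul_one]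
  · exact Or.inl (h.triv_e F hg hall)
  · -- `m = x₀`: `g t₀` acts as `n ↦ n e`
    obtain ⟨t, ht⟩ := h.tr
    have h3 : ∀ n ∈ N, g * t * n * (g * t)⁻¹ = n ∨ g * t * n * (g * t)⁻¹ = n * e := by
      intro n hn
      have e1 : g * t * n * (g * t)⁻¹ = g * (t * n * t⁻¹) * g⁻¹ := by group
      rw [e1]
      rcases Int.units_eq_one_or (B m n) with h4 | h4
      · left
        rw [h.tr_fix F h.x_pt ht hn h4, h1 n hn h4]
      · right
        rw [h.neg F h.x_pt ht hn h4, h.conj_mul' g, h2 n hn h4, h.conj_mul' g m, h1 m h.x_mem (F.self m h.x_mem),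
          h.e_conj hg, mul_assoc, ← mul_assoc m m, h.sq m h.x_mem, one_mul]
    have h4 := h.triv_e F (mul_mem hg ht.1) h3
    right
    intro n hn h5
    have h6 := h4 n hn
    have e1 : g * t * n * (g * t)⁻¹ = g * (t * n * t⁻¹) * g⁻¹ := by group
    rw [e1, h.neg F h.x_pt ht hn h5, h.conj_mul' g, h2 n hn h5, h.conj_mul' g m, h1 m h.x_mem (F.self m h.x_mem),
      h.e_conj hg, mul_assoc, ← mul_assoc m m, h.sq m h.x_mem, one_mul] at h6
    have h7 : e = 1 := mul_eq_left.1 h6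
    rw [h2 n hn h5, h7, mul_one]
  · exact Or.inr h2

/-- the elements of `D` acting trivially on `x₀^⊥ / ⟨x₀, e⟩` -/
def MM : Subgroup G where
  carrier := {g | g ∈ D ∧ ∀ n ∈ N, B x₀ n = 1 → n * (g * n * g⁻¹) ∈ h.XX}
  one_mem' := ⟨one_mem _, fun n hn _ => by simp [h.sq n hn]⟩
  mul_mem' := by
    rintro x y ⟨hx, hx'⟩ ⟨hy, hy'⟩
    refine ⟨mul_mem hx hy, fun n hn h1 => ?_⟩
    have h3 := hy' n hn h1
    have h4 := hx' n hn h1
    have e1 : x * y * n * (x * y)⁻¹ = x * n * x⁻¹ * (x * (n⁻¹ * (y * n * y⁻¹)) * x⁻¹) := by group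
    rw [e1, h.inv_eq hn, h.D_XX F hx h3, ← mul_assoc]
    exact mul_mem h4 h3
  inv_mem' := by
    rintro x ⟨hx, hx'⟩
    refine ⟨inv_mem hx, fun n hn h1 => ?_⟩
    have hxC := h.D_C F hx
    have h3 := hx' _ (h.conj_N' hxC hn) (by rw [h.D_B' F hx hn, h1])
    have e1 : x * (x⁻¹ * n * x) * x⁻¹ = n := by group
    rw [e1] at h3
    rw [inv_inv, h.comm n hn _ (h.conj_N' hxC hn)]
    exact h3

theorem mem_MM {g : G} : g ∈ h.MM F ↔ g ∈ D ∧ ∀ n ∈ N, B x₀ n = 1 → n * (g * n * g⁻¹) ∈ h.XX := Iff.rfl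

theorem D_norm_MM : D ≤ normalizer (h.MM F : Set G) := by
  have key : ∀ d ∈ D, ∀ y ∈ h.MM F, d * y * d⁻¹ ∈ h.MM F := by
    rintro d hd y ⟨hy, hy1⟩
    have hdC := h.D_C F hd
    refine ⟨mul_mem (mul_mem hd hy) (inv_mem hd), fun n hn h1 => ?_⟩
    have h3 := hy1 _ (h.conj_N' hdC hn) (by rw [h.D_B' F hd hn, h1])
    have h4 := h.D_XX F hd h3
    have e1 : d * (d⁻¹ * n * d * (y * (d⁻¹ * n * d) * y⁻¹)) * d⁻¹ = n * (d * y * d⁻¹ * n * (d * y * d⁻¹)⁻¹) := by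
      group
    rw [← e1, h4]
    exact h3
  intro c hc
  rw [mem_normalizer_iff]
  intro y
  refine ⟨key c hc y, fun hy => ?_⟩
  have h3 := key c⁻¹ (inv_mem hc) _ hy
  have e1 : c⁻¹ * (c * y * c⁻¹) * c⁻¹⁻¹ = y := by group
  rwa [e1] at h3

/-- fourth powers of elements of `MM` centralise `N` -/
theorem MM_pow [Finite G] {g : G} (hg : g ∈ h.MM F) : g ^ 2 ^ 2 ∈ centralizer (N : Set G) := by
  obtain ⟨hgD, h1⟩ := (h.mem_MM F).1 hg
  have hgC := h.D_C F hgD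
  have hggD := mul_mem hgD hgD
  have hgg := mul_mem hgC hgC
  -- `g²` centralises `x₀^⊥`
  have h2 : ∀ n ∈ N, B x₀ n = 1 → g * g * n * (g * g)⁻¹ = n := by
    intro n hn hx
    have h3 := h1 n hn hx
    have h4 : g * n * g⁻¹ = n * (n * (g * n * g⁻¹)) := by rw [← mul_assoc, h.sq n hn, one_mul]
    have h5 := h.D_XX F hgD h3
    calc g * g * n * (g * g)⁻¹ = g * (g * n * g⁻¹) * g⁻¹ := by group
      _ = g * (n * (n * (g * n * g⁻¹))) * g⁻¹ := by rw [← h4]
      _ = g * n * g⁻¹ * (g * (n * (g * n * g⁻¹)) * g⁻¹) := by group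
      _ = g * n * g⁻¹ * (n * (g * n * g⁻¹)) := by rw [h5]
      _ = n * (n * (g * n * g⁻¹)) * (n * (g * n * g⁻¹)) := by rw [← h4]
      _ = n := by rw [mul_assoc, h.sq _ (h.XX_le F h3), mul_one]
  obtain ⟨m, hm, h3⟩ := h.hyper_aux F hgg h2
  have h4 : ∀ n ∈ N, g * g * (g * g) * n * (g * g * (g * g))⁻¹ = n := by
    intro n hn
    have e1 : g * g * (g * g) * n * (g * g * (g * g))⁻¹ = g * g * (g * g * n * (g * g)⁻¹) * (g * g)⁻¹ := by group
    rw [e1]
    rcases Int.units_eq_one_or (B x₀ n) with h5 | h5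
    · rw [h2 n hn h5, h2 n hn h5]
    · rw [h3 n hn h5, h.conj_mul' (g * g), h3 n hn h5, h.D_XX F hggD hm, mul_assoc, h.sq _ (h.XX_le F hm), mul_one]
  have e2 : g ^ 2 ^ 2 = g * g * (g * g) := by norm_num [pow_succ, mul_assoc]
  rw [e2, mem_centralizer_iff]
  intro n hn
  calc n * (g * g * (g * g)) = g * g * (g * g) * n * (g * g * (g * g))⁻¹ * (g * g * (g * g)) := by rw [h4 n hn]
    _ = g * g * (g * g) * n := by group

/-- **`MM` is covered by `T`** -/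
theorem MM_le [Finite G] {g : G} (hg : g ∈ h.MM F) : ∃ t ∈ T, ∀ n ∈ N, g * n * g⁻¹ = t * n * t⁻¹ := by
  let K : Subgroup G :=
    { carrier := {g | g ∈ C ∧ ∃ t ∈ T, ∀ n ∈ N, g * n * g⁻¹ = t * n * t⁻¹}
      one_mem' := ⟨one_mem _, 1, one_mem _, fun _ _ => rfl⟩
      mul_mem' := by
        rintro x y ⟨hx, s, hs, hx'⟩ ⟨hy, t, ht, hy'⟩
        refine ⟨mul_mem hx hy, s * t, mul_mem hs ht, fun n hn => ?_⟩
        have htn := h.conj_N (h.T_le_C F ht) hn
        calc x * y * n * (x * y)⁻¹ = x * (y * n * y⁻¹) * x⁻¹ := by group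
          _ = s * (t * n * t⁻¹) * s⁻¹ := by rw [hy' n hn, hx' _ htn]
          _ = _ := by group
      inv_mem' := by
        rintro x ⟨hx, s, hs, hx'⟩
        refine ⟨inv_mem hx, s⁻¹, inv_mem hs, fun n hn => ?_⟩
        have h1 := hx' _ (h.conj_N' hx hn)
        have e1 : x * (x⁻¹ * n * x) * x⁻¹ = n := by group
        rw [e1] at h1
        calc x⁻¹ * n * x⁻¹⁻¹ = s⁻¹ * (s * (x⁻¹ * n * x) * s⁻¹) * s := by group
          _ = s⁻¹ * n * s⁻¹⁻¹ := by rw [← h1, inv_inv] }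
  have hMD : h.MM F ≤ D := fun y hy => hy.1
  have hDC : D ≤ C := fun d hd => h.D_C F hd
  have hTo : ¬ 2 ∣ T.relIndex D := fun h1 =>
    h.T_odd (h1.trans (Dvd.intro _ (relIndex_mul_relIndex T D C h.TD hDC)))
  have hYF : h.MM F ≤ normalizer ((h.MM F ⊓ centralizer (N : Set G) : Subgroup G) : Set G) := by
    have key : ∀ y ∈ h.MM F, ∀ x ∈ h.MM F ⊓ centralizer (N : Set G), y * x * y⁻¹ ∈ h.MM F ⊓ centralizer (N : Set G) := by
      rintro y hy x ⟨h1, h2⟩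
      exact ⟨(h.MM F).mul_mem ((h.MM F).mul_mem hy h1) ((h.MM F).inv_mem hy),
        conj_cent (h.norm (h.D_C F hy.1)) h2⟩
    intro y hy
    rw [mem_normalizer_iff]
    intro x
    refine ⟨key y hy x, fun hx => ?_⟩
    have h1 := key y⁻¹ (inv_mem hy) _ hx
    have e : y⁻¹ * (y * x * y⁻¹) * y⁻¹⁻¹ = x := by group
    rwa [e] at h1
  have h1 := IId.Big.Red.le_sup_inf (P := T) (M := h.MM F) (C := D) (F := h.MM F ⊓ centralizer (N : Set G)) h.TD hMD
    (h.TD.trans (h.D_norm_MM F)) hTo inf_le_left hYF (fun m hm => ⟨2, pow_mem hm _, h.MM_pow F hm⟩)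
  have h2 : h.MM F ≤ K := by
    refine h1.trans (sup_le ?_ ?_)
    · rintro x ⟨hx, hx'⟩
      refine ⟨hDC (hMD hx), 1, one_mem _, fun n hn => ?_⟩
      have := mem_centralizer_iff.1 hx' n hn
      rw [← this]; group
    · rintro x ⟨hx, hx'⟩
      exact ⟨hDC (hMD hx), x, hx', fun _ _ => rfl⟩
  exact (h2 hg).2

/-- **`C_{N~}(T) = ⟨x₀⟩`** -/
theorem fix_T [Finite G] {n : G} (hn : n ∈ N) (hT : ∀ t ∈ T, t * n * t⁻¹ = n ∨ t * n * t⁻¹ = n * e) : n ∈ h.XX := by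
  have hpx := h.pt_ne F h.x_pt
  -- an element of `MM` moving `n` by an element of `x₀ ⟨e⟩`
  have key : ∀ g ∈ h.MM F, ∀ z, (z = x₀ ∨ z = x₀ * e) → g * n * g⁻¹ ≠ n * z := by
    intro g hg z hz h1
    obtain ⟨t, ht, h2⟩ := h.MM_le F hg
    rw [h2 n hn] at h1
    have h3 : z = 1 ∨ z = e := by
      rcases hT t ht with h3 | h3 <;> rw [h3] at h1
      · exact Or.inl (mul_eq_left.1 h1.symm)
      · exact Or.inr (mul_left_cancel h1).symm
    rcases hz with rfl | rfl <;> rcases h3 with h3 | h3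
    · exact hpx.1 h3
    · exact hpx.2 h3
    · rw [mul_eq_one_iff_eq_inv, h.inv_eq h.e_mem] at h3; exact hpx.2 h3
    · exact hpx.1 (mul_eq_right.1 h3)
  rcases Int.units_eq_one_or (B x₀ n) with hx | hx
  · by_contra hc
    -- a point `u` of `x₀^⊥` not perpendicular to `n`
    obtain ⟨u, hu, hxu, hnu⟩ : ∃ u ∈ Pts C x₀, B x₀ u = 1 ∧ B n u = -1 := by
      obtain ⟨w, hw, hw1, hw2⟩ : ∃ w ∈ N, B x₀ w = 1 ∧ B n w = -1 := by
        by_contra hc2
        push Not at hc2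
        refine hc (h.mem_XX.2 (h.perp_perp F h.x_pt hn fun w hw h2 => ?_))
        by_contra h3
        exact hc2 w hw h2 (ne_of h3)
      rcases h.points F hw with h2 | h2 | h2 | h2
      · rw [h2, h.one_r F hn] at hw2; exact absurd hw2.symm neg_ne
      · rw [h2, h.e_r F hn] at hw2; exact absurd hw2.symm neg_ne
      · exact ⟨w, h2, hw1, hw2⟩
      · exact ⟨w * e, h2, by rw [h.mul_e' F hw h.x_mem, hw1], by rw [h.mul_e' F hw hn, hw2]⟩
    have huN := h.pt_mem hu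
    have hxuN := mul_mem h.x_mem huN
    have hnxu : B n (x₀ * u) = -1 := by rw [F.mul n hn x₀ h.x_mem u huN, F.symm n hn x₀ h.x_mem, hx, hnu, one_mul]
    obtain ⟨u', hu', e', he', hue⟩ : ∃ u' ∈ Pts C x₀, ∃ e', (e' = 1 ∨ e' = e) ∧ u' = x₀ * u * e' := by
      rcases h.points F hxuN with h2 | h2 | h2 | h2
      · rw [h2, h.one_r F hn] at hnxu; exact absurd hnxu.symm neg_ne
      · rw [h2, h.e_r F hn] at hnxu; exact absurd hnxu.symm neg_ne
      · exact ⟨_, h2, 1, Or.inl rfl, by rw [mul_one]⟩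
      · exact ⟨_, h2, e, Or.inr rfl, rfl⟩
    have hu'N := h.pt_mem hu'
    have he'N : e' ∈ N := by
      rcases he' with rfl | rfl
      · exact N.one_mem
      · exact h.e_mem
    -- `B u' m = B u m` for `m ∈ x₀^⊥`
    have hB : ∀ m ∈ N, B u' m = B x₀ m * B u m := by
      intro m hm
      have h2 : B (x₀ * u * e') m = B (x₀ * u) m := by
        rcases he' with rfl | rfl
        · rw [mul_one]
        · exact h.mul_e F hxuN hm
      rw [hue, h2, h.mul_left F h.x_mem huN hm]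
    have huu' : B u u' = 1 := by
      rw [F.symm u huN u' hu'N, hB u huN, hxu, F.self u huN, one_mul]
    have hxu' : B x₀ u' = 1 := by
      rw [F.symm x₀ h.x_mem u' hu'N, hB x₀ h.x_mem, F.self x₀ h.x_mem, F.symm u huN x₀ h.x_mem, hxu, one_mul]
    obtain ⟨t, ht⟩ := h.exists_tr hu
    obtain ⟨s, hs⟩ := h.exists_tr hu'
    have hact : ∀ m ∈ N, B x₀ m = 1 → (B u m = 1 → t * s * m * (t * s)⁻¹ = m) ∧
        (B u m = -1 → t * s * m * (t * s)⁻¹ = m * (x₀ * e')) := by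
      intro m hm hxm
      have e1 : t * s * m * (t * s)⁻¹ = t * (s * m * s⁻¹) * t⁻¹ := by group
      have h2 := hB m hm
      rw [hxm, one_mul] at h2
      constructor
      · intro h3
        rw [e1, h.tr_fix F hu' hs hm (by rw [h2, h3]), h.tr_fix F hu ht hm h3]
      · intro h3
        have h4 : t * (u' * e) * t⁻¹ = u' * e := by
          rw [h.conj_mul' t, h.tr_fix F hu ht hu'N huu', h.e_conj ht.1]
        rw [e1, h.neg F hu' hs hm (by rw [h2, h3]), h.conj_mul' t m, h.neg F hu ht hm h3, h4, mul_assoc]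
        congr 1
        calc u * e * (u' * e) = u * (e * u') * e := by group
          _ = u * (u' * e) * e := by rw [h.comm e h.e_mem u' hu'N]
          _ = u * u' * (e * e) := by group
          _ = u * (u * x₀ * e') := by rw [h.ee, mul_one, hue, h.comm x₀ h.x_mem u huN]
          _ = (u * u) * (x₀ * e') := by group
          _ = x₀ * e' := by rw [h.sq u huN, one_mul]
    have hmem : t * s ∈ h.MM F := by
      refine ⟨mul_mem (h.tr_mem_D F hu ht hxu) (h.tr_mem_D F hu' hs hxu'), fun m hm hxm => ?_⟩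
      rcases Int.units_eq_one_or (B u m) with h2 | h2
      · rw [(hact m hm hxm).1 h2, h.sq m hm]
        exact one_mem _
      · rw [(hact m hm hxm).2 h2, ← mul_assoc, h.sq m hm, one_mul]
        rcases he' with rfl | rfl
        · rw [mul_one]; exact h.mem_XX.2 (Or.inr (Or.inr (Or.inl rfl)))
        · exact h.mem_XX.2 (Or.inr (Or.inr (Or.inr rfl)))
    refine key _ hmem (x₀ * e') ?_ ((hact n hn hx).2 (by rw [F.symm u huN n hn, hnu]))
    rcases he' with rfl | rfl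
    · left; rw [mul_one]
    · right; rfl
  · obtain ⟨t, ht⟩ := h.tr
    have h1 := h.neg F h.x_pt ht hn hx
    refine absurd h1 (key t ⟨h.tr_mem_D F h.x_pt ht (F.self _ h.x_mem), fun m hm hxm => ?_⟩ _ (Or.inr rfl))
    rw [h.tr_fix F h.x_pt ht hm hxm, h.sq m hm]
    exact one_mem _

/-- **`C_{N~}(R) = 1`** if `R` contains all transvections -/
theorem fix_R [Finite G] {R : Subgroup G}
    (hR : ∀ p ∈ Pts C x₀, ∃ r ∈ R, ∃ t, Tr C N e p t ∧ ∀ m ∈ N, r * m * r⁻¹ = t * m * t⁻¹) {n : G} (hn : n ∈ N)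
    (h1 : ∀ r ∈ R, r * n * r⁻¹ = n ∨ r * n * r⁻¹ = n * e) : n = 1 ∨ n = e := by
  refine h.rad F hn fun w hw => ?_
  rw [F.symm n hn w hw]
  refine h.ext (φ := fun w => B w n) (ψ := fun _ => 1) (fun _ hx _ hy => h.mul_left F hx hy hn)
    (fun _ _ _ _ => by simp) (fun p hp => ?_) w hw
  obtain ⟨r, hr, t, ht, hrt⟩ := hR p hp
  by_contra h2
  have h3 := h.neg F hp ht hn (ne_of h2)
  rw [← hrt n hn] at h3
  have hpx := h.pt_ne F hp
  rcases h1 r hr with h4 | h4 <;> rw [h4] at h3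
  · have h5 := mul_eq_left.1 h3.symm
    rw [mul_eq_one_iff_eq_inv, h.inv_eq h.e_mem] at h5
    exact hpx.2 h5
  · exact hpx.1 (mul_eq_right.1 (mul_left_cancel h3).symm)

end frm

end TDat

end Cfsg.Agent.Omega.OM.KTwo.StrSp

end

section


/-!
# The structure lemma in the transvection case (helper918 #19487, section 0, (gl); TV2 (#16747) at group level)

`h : TBase C D M T N v e x₀ a`, two elements of `C` act on `N` as different transvections with centre `x₀ e`: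

* `TBase.clique` : any two points `p ≠ q` are joined (`q ↦ q p e` for some element with centre `p e`);
* `TBase.gl_e` : `e = 1`, if `p ∈ Pts` implies `p v ∉ Pts`; `TBase.gl_all` : all elements `≠ 1` of `N` are points;
* `TBase.gl_E` : an invariant subgroup of `N` containing `x₀`, `a` is `N`.
-/

set_option autoImplicit false
set_option linter.unusedSectionVars false

namespace Cfsg.Agent.Omega.OM.KTwo.StrSp

open Subgroup

universe u

variable {G : Type u} [Group G]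

/-- `C_N(t)` -/
def kerS (N : Subgroup G) (t : G) : Set G := {n | n ∈ N ∧ t * n * t⁻¹ = n}

/-- the hyperplanes of the transvections with centre `p e` -/
def Phi (C N : Subgroup G) (e p : G) : Set (Set G) := {S | ∃ t, Tr C N e p t ∧ S = kerS N t}

/-- `p - q` -/
def Ad (C N : Subgroup G) (e p q : G) : Prop := ∃ t, Tr C N e p t ∧ t * q * t⁻¹ ≠ q

/-- the conjugate of a set -/
def cS (c : G) (S : Set G) : Set G := {x | c⁻¹ * x * c ∈ S}

theorem cS_inj (c : G) : Function.Injective (cS c) := by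
  intro S S' h
  ext x
  have h1 : c * x * c⁻¹ ∈ cS c S ↔ c * x * c⁻¹ ∈ cS c S' := by rw [h]
  have e : c⁻¹ * (c * x * c⁻¹) * c = x := by group
  simpa only [cS, Set.mem_ofPred_eq, e] using h1

namespace TBase

variable {C D M T N : Subgroup G} {v e x₀ a : G} (h : TBase C D M T N v e x₀ a)
include h

/-- a transvection fixes its centre -/
theorem tr_self {p t : G} (ht : Tr C N e p t) : t * p * t⁻¹ = p := by
  have hpe := h.pe_mem ht
  have h2 : t * (p * e) * t⁻¹ = p * e := by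
    rcases ht.2.1 _ hpe with h2 | h2
    · exact h2
    · exfalso
      rw [h.sq _ hpe] at h2
      apply h.pe_ne ht
      have : p * e = t⁻¹ * (t * (p * e) * t⁻¹) * t := by group
      rw [this, h2]; group
  have h3 : p = p * e * e := by rw [mul_assoc, h.ee, mul_one]
  have h4 : t * p * t⁻¹ = p * e * e := by
    calc t * p * t⁻¹ = t * (p * e * e) * t⁻¹ := by rw [← h3]
      _ = t * (p * e) * t⁻¹ * (t * e * t⁻¹) := by group
      _ = p * e * e := by rw [h2, h.e_conj ht.1]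
  rw [h4, ← h3]

theorem tr_pe {p t : G} (ht : Tr C N e p t) : t * (p * e) * t⁻¹ = p * e := by
  rw [h.conj_mul' t, h.tr_self ht, h.e_conj ht.1]

/-- products of transvections with the same centre -/
theorem tr_mul {p t s : G} (ht : Tr C N e p t) (hs : Tr C N e p s) {n : G} (hn : n ∈ N) :
    (t * s * n * (t * s)⁻¹ = n ∨ t * s * n * (t * s)⁻¹ = n * (p * e)) ∧
      (t * s * n * (t * s)⁻¹ = n ↔ (t * n * t⁻¹ = n ↔ s * n * s⁻¹ = n)) := by
  have hne := h.pe_ne ht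
  have hpe := h.pe_mem ht
  have e1 : t * s * n * (t * s)⁻¹ = t * (s * n * s⁻¹) * t⁻¹ := by group
  rw [e1]
  have hn1 : n * (p * e) ≠ n := fun h1 => hne (mul_eq_left.1 h1)
  rcases hs.2.1 n hn with h1 | h1
  · rw [h1]
    exact ⟨ht.2.1 n hn, by simp⟩
  · rw [h1, h.conj_mul' t, h.tr_pe ht]
    rcases ht.2.1 n hn with h2 | h2
    · rw [h2]
      exact ⟨Or.inr rfl, by simp [hn1]⟩
    · rw [h2, mul_assoc n, h.sq _ hpe, mul_one]
      exact ⟨Or.inl rfl, by simp [hn1]⟩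

theorem tr_mul' {p t s : G} (ht : Tr C N e p t) (hs : Tr C N e p s) (hne : ∃ n ∈ N, ¬ (t * n * t⁻¹ = n ↔ s * n * s⁻¹ = n)) :
    Tr C N e p (t * s) := by
  obtain ⟨n, hn, h1⟩ := hne
  exact ⟨mul_mem ht.1 hs.1, fun m hm => (h.tr_mul ht hs hm).1, n, hn, fun h2 => h1 ((h.tr_mul ht hs hn).2.1 h2)⟩

/-- (a) -/
theorem tr_a {p q f g : G} (hp : p ∈ Pts C x₀) (hq : q ∈ Pts C x₀) (hf : Tr C N e p f) (hfq : f * q * f⁻¹ = q)
    (hg : Tr C N e q g) (hgp : g * p * g⁻¹ ≠ p) :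
    ∃ t, Tr C N e q t ∧ ∀ n ∈ N, (t * n * t⁻¹ = n ↔ f * n * f⁻¹ = n) := by
  have hpN := h.pt_mem hp
  have hqN := h.pt_mem hq
  have hpe := h.pe_mem hf
  have hqe := h.pe_mem hg
  have hee := h.ee
  have hgp' : g * p * g⁻¹ = p * (q * e) := (hg.2.1 p hpN).resolve_left hgp
  have hfqe : f * (q * e) * f⁻¹ = q * e := by rw [h.conj_mul' f, hfq, h.e_conj hf.1]
  -- the conjugate `g f g⁻¹`
  have hk := h.conj_tr hf hg.1
  rw [hgp'] at hk
  have hcen : p * (q * e) * e = p * q := by rw [mul_assoc, mul_assoc q, hee, mul_one]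
  -- its fixed points
  have hfix : ∀ n ∈ N, (g * f * g⁻¹ * n * (g * f * g⁻¹)⁻¹ = n ↔ f * n * f⁻¹ = n) := by
    intro n hn
    have e1 : g * f * g⁻¹ * n * (g * f * g⁻¹)⁻¹ = g * (f * (g⁻¹ * n * g) * f⁻¹) * g⁻¹ := by group
    have e2 : n = g * (g⁻¹ * n * g) * g⁻¹ := by group
    have h1 : g * (f * (g⁻¹ * n * g) * f⁻¹) * g⁻¹ = n ↔ f * (g⁻¹ * n * g) * f⁻¹ = g⁻¹ * n * g := by
      constructor
      · intro h1
        calc f * (g⁻¹ * n * g) * f⁻¹ = g⁻¹ * (g * (f * (g⁻¹ * n * g) * f⁻¹) * g⁻¹) * g := by group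
          _ = g⁻¹ * n * g := by rw [h1]
      · intro h1
        rw [h1]; group
    rw [e1, h1]
    have hm := h.conj_N' hg.1 hn
    rcases hg.2.1 _ hm with h2 | h2
    · rw [← e2] at h2
      rw [← h2]
    · rw [← e2] at h2
      have h3 : g⁻¹ * n * g = n * (q * e) := by
        calc g⁻¹ * n * g = g⁻¹ * n * g * (q * e) * (q * e) := by rw [mul_assoc (g⁻¹ * n * g), h.sq _ hqe, mul_one]
          _ = n * (q * e) := by rw [← h2]
      rw [h3, h.conj_mul' f, hfqe]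
      exact ⟨fun h4 => mul_right_cancel h4, fun h4 => by rw [h4]⟩
  refine ⟨g * f * g⁻¹ * f, ⟨mul_mem hk.1 hf.1, fun n hn => ?_, ?_⟩, fun n hn => ?_⟩
  all_goals
    have key : ∀ n ∈ N, (f * n * f⁻¹ = n → g * f * g⁻¹ * f * n * (g * f * g⁻¹ * f)⁻¹ = n) ∧
        (f * n * f⁻¹ ≠ n → g * f * g⁻¹ * f * n * (g * f * g⁻¹ * f)⁻¹ = n * (q * e)) := by
      intro n hn
      have e1 : g * f * g⁻¹ * f * n * (g * f * g⁻¹ * f)⁻¹ =
          g * f * g⁻¹ * (f * n * f⁻¹) * (g * f * g⁻¹)⁻¹ := by group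
      constructor
      · intro h1
        rw [e1, h1]
        exact (hfix n hn).2 h1
      · intro h1
        rw [e1, (hf.2.1 n hn).resolve_left h1, h.conj_mul' (g * f * g⁻¹), (hfix _ hpe).2 (h.tr_pe hf),
          (hk.2.1 n hn).resolve_left fun h2 => h1 ((hfix n hn).1 h2), hcen, mul_assoc n]
        congr 1
        calc p * q * (p * e) = q * p * (p * e) := by rw [h.comm p hpN q hqN]
          _ = q * (p * p) * e := by group
          _ = q * e := by rw [h.sq p hpN, mul_one]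
  · by_cases h1 : f * n * f⁻¹ = n
    · exact Or.inl ((key n hn).1 h1)
    · exact Or.inr ((key n hn).2 h1)
  · obtain ⟨n, hn, h1⟩ := hf.2.2
    refine ⟨n, hn, fun h2 => h.pe_ne hg ?_⟩
    rw [(key n hn).2 h1] at h2
    exact mul_eq_left.1 h2
  · constructor
    · intro h2
      by_contra h1
      rw [(key n hn).2 h1] at h2
      exact h.pe_ne hg (mul_eq_left.1 h2)
    · exact (key n hn).1

theorem kerS_conj {c t : G} (hc : c ∈ C) : kerS N (c * t * c⁻¹) = cS c (kerS N t) := by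
  ext n
  constructor
  · rintro ⟨hn, h1⟩
    refine ⟨h.conj_N' hc hn, ?_⟩
    calc t * (c⁻¹ * n * c) * t⁻¹ = c⁻¹ * (c * t * c⁻¹ * n * (c * t * c⁻¹)⁻¹) * c := by group
      _ = c⁻¹ * n * c := by rw [h1]
  · rintro ⟨hn, h1⟩
    have e2 : n = c * (c⁻¹ * n * c) * c⁻¹ := by group
    refine ⟨?_, ?_⟩
    · rw [e2]; exact h.conj_N hc hn
    · calc c * t * c⁻¹ * n * (c * t * c⁻¹)⁻¹ = c * (t * (c⁻¹ * n * c) * t⁻¹) * c⁻¹ := by group
        _ = n := by rw [h1]; group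

theorem Phi_conj {c p : G} (hc : c ∈ C) : Phi C N e (c * p * c⁻¹) = cS c '' Phi C N e p := by
  ext S
  constructor
  · rintro ⟨t, ht, rfl⟩
    have h1 := h.conj_tr ht (inv_mem hc)
    have e0 : c⁻¹ * (c * p * c⁻¹) * c⁻¹⁻¹ = p := by group
    rw [e0] at h1
    refine ⟨_, ⟨_, h1, rfl⟩, ?_⟩
    rw [← h.kerS_conj hc]
    congr 1
    group
  · rintro ⟨_, ⟨t, ht, rfl⟩, rfl⟩
    exact ⟨_, h.conj_tr ht hc, (h.kerS_conj hc).symm⟩

theorem ncard_Phi {p q : G} (hp : p ∈ Pts C x₀) (hq : q ∈ Pts C x₀) : (Phi C N e p).ncard = (Phi C N e q).ncard := by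
  obtain ⟨g, hg, rfl⟩ := hp
  obtain ⟨g', hg', rfl⟩ := hq
  rw [h.Phi_conj hg, h.Phi_conj hg', Set.ncard_image_of_injective _ (cS_inj g),
    Set.ncard_image_of_injective _ (cS_inj g')]

theorem ad_symm [Finite G] {p q : G} (hp : p ∈ Pts C x₀) (hq : q ∈ Pts C x₀) (h1 : Ad C N e p q) : Ad C N e q p := by
  by_contra hc
  have hc' : ∀ t, Tr C N e q t → t * p * t⁻¹ = p := by
    intro t ht
    by_contra h2
    exact hc ⟨t, ht, h2⟩
  obtain ⟨g, hg, hgq⟩ := h1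
  have hle : Phi C N e q ⊆ Phi C N e p := by
    rintro _ ⟨f, hf, rfl⟩
    obtain ⟨t, ht, h2⟩ := h.tr_a hq hp hf (hc' f hf) hg hgq
    refine ⟨t, ht, ?_⟩
    ext n
    exact ⟨fun ⟨hn, h3⟩ => ⟨hn, (h2 n hn).2 h3⟩, fun ⟨hn, h3⟩ => ⟨hn, (h2 n hn).1 h3⟩⟩
  have heq := Set.eq_of_subset_of_ncard_le hle (h.ncard_Phi hp hq).le (Set.toFinite _)
  have h2 : kerS N g ∈ Phi C N e q := by rw [heq]; exact ⟨g, hg, rfl⟩
  obtain ⟨f, hf, h3⟩ := h2
  have h4 : q ∈ kerS N g := by rw [h3]; exact ⟨h.pt_mem hq, h.tr_self hf⟩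
  exact hgq h4.2

/-- `N` is generated by the points -/
theorem exists_moved {p t : G} (ht : Tr C N e p t) : ∃ q ∈ Pts C x₀, t * q * t⁻¹ ≠ q := by
  by_contra hc
  push Not at hc
  obtain ⟨n, hn, hn1⟩ := ht.2.2
  apply hn1
  refine closure_induction (p := fun x _ => t * x * t⁻¹ = x) (fun q hq => hc q hq) (by group) ?_ ?_ (h.gen hn)
  · intro x y _ _ hx hy
    rw [h.conj_mul' t, hx, hy]
  · intro x _ hx
    calc t * x⁻¹ * t⁻¹ = (t * x * t⁻¹)⁻¹ := by group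
      _ = x⁻¹ := by rw [hx]

/-- `u`, `x` not joined, both joined to `y`: they agree on the transvections with centre `y` -/
theorem agree_aux [Finite G] {u x y f : G} (hu : u ∈ Pts C x₀) (hy : y ∈ Pts C x₀) (hux : ¬ Ad C N e u x)
    (hxN : x ∈ N) (huy : Ad C N e u y) (hf : Tr C N e y f) (h1 : f * u * f⁻¹ = u) : f * x * f⁻¹ = x := by
  by_contra h2
  obtain ⟨g, hg, hgy⟩ := huy
  obtain ⟨t, ht, h3⟩ := h.tr_a hy hu hf h1 hg hgy
  exact hux ⟨t, ht, fun h4 => h2 ((h3 x hxN).1 h4)⟩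

theorem agree [Finite G] {u x y f : G} (hu : u ∈ Pts C x₀) (hx : x ∈ Pts C x₀) (hy : y ∈ Pts C x₀)
    (hux : ¬ Ad C N e u x) (huy : Ad C N e u y) (hxy : Ad C N e x y) (hf : Tr C N e y f) :
    f * u * f⁻¹ = u ↔ f * x * f⁻¹ = x :=
  ⟨h.agree_aux hu hy hux (h.pt_mem hx) huy hf,
    h.agree_aux hx hy (fun h1 => hux (h.ad_symm hx hu h1)) (h.pt_mem hu) hxy hf⟩

section no

variable (hno : ∃ t t', Tr C N e x₀ t ∧ Tr C N e x₀ t' ∧ ∃ n ∈ N, t * n * t⁻¹ ≠ t' * n * t'⁻¹)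
include hno

/-- a transvection with centre `y e` fixing `u` -/
theorem exists_psi {y u : G} (hy : y ∈ Pts C x₀) (hu : u ∈ Pts C x₀) : ∃ t, Tr C N e y t ∧ t * u * t⁻¹ = u := by
  obtain ⟨c, hc, rfl⟩ := hy
  obtain ⟨t, t', ht, ht', n, hn, hne⟩ := hno
  have h1 := h.conj_tr ht hc
  have h2 := h.conj_tr ht' hc
  by_cases h3 : c * t * c⁻¹ * u * (c * t * c⁻¹)⁻¹ = u
  · exact ⟨_, h1, h3⟩
  by_cases h4 : c * t' * c⁻¹ * u * (c * t' * c⁻¹)⁻¹ = u
  · exact ⟨_, h2, h4⟩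
  refine ⟨_, h.tr_mul' h1 h2 ⟨c * n * c⁻¹, h.conj_N hc hn, fun h5 => ?_⟩,
    (h.tr_mul h1 h2 (h.pt_mem hu)).2.2 (iff_of_false h3 h4)⟩
  have e1 : ∀ s : G, c * s * c⁻¹ * (c * n * c⁻¹) * (c * s * c⁻¹)⁻¹ = c * n * c⁻¹ ↔ s * n * s⁻¹ = n := by
    intro s
    have e2 : c * s * c⁻¹ * (c * n * c⁻¹) * (c * s * c⁻¹)⁻¹ = c * (s * n * s⁻¹) * c⁻¹ := by group
    rw [e2]
    exact ⟨fun h => mul_left_cancel (mul_right_cancel h), fun h => by rw [h]⟩
  rw [e1, e1] at h5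
  apply hne
  by_cases h6 : t * n * t⁻¹ = n
  · rw [h6, h5.1 h6]
  · rw [(ht.2.1 n hn).resolve_left h6, (ht'.2.1 n hn).resolve_left fun h7 => h6 (h5.2 h7)]

/-- one half of `Φ_u = Φ_x` -/
theorem half [Finite G] {u x y ψ ψu ψx : G} (hu : u ∈ Pts C x₀) (hx : x ∈ Pts C x₀) (hy : y ∈ Pts C x₀)
    (hux : ¬ Ad C N e u x) (huy : Ad C N e u y) (hxy : Ad C N e x y) (hψu : Tr C N e u ψu) (hψx : Tr C N e x ψx)
    (h1 : ∀ n ∈ N, (ψu * n * ψu⁻¹ = n ↔ ψ * n * ψ⁻¹ = n)) (h2 : ∀ n ∈ N, (ψx * n * ψx⁻¹ = n ↔ ψ * n * ψ⁻¹ = n))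
    (hψ : ψ * y * ψ⁻¹ ≠ y) {g : G} (hg : Tr C N e u g) :
    ∃ g', Tr C N e x g' ∧ ∀ n ∈ N, (g' * n * g'⁻¹ = n ↔ g * n * g⁻¹ = n) := by
  have hyN := h.pt_mem hy
  -- the case `g` fixes `y`
  have key : ∀ g, Tr C N e u g → g * y * g⁻¹ = y →
      ∃ g', Tr C N e x g' ∧ ∀ n ∈ N, (g' * n * g'⁻¹ = n ↔ g * n * g⁻¹ = n) := by
    intro g hg hgy
    obtain ⟨k, hk, hku⟩ := h.ad_symm hu hy huy
    obtain ⟨gy, hgy', h3⟩ := h.tr_a hu hy hg hgy hk hku
    have h4 : gy * u * gy⁻¹ = u := (h3 u (h.pt_mem hu)).2 (h.tr_self hg)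
    have h5 := (h.agree hu hx hy hux huy hxy hgy').1 h4
    obtain ⟨l, hl, hly⟩ := hxy
    obtain ⟨g', hg', h6⟩ := h.tr_a hy hx hgy' h5 hl hly
    exact ⟨g', hg', fun n hn => (h6 n hn).trans (h3 n hn)⟩
  by_cases hgy : g * y * g⁻¹ = y
  · exact key g hg hgy
  by_cases hsame : ∀ n ∈ N, (g * n * g⁻¹ = n ↔ ψu * n * ψu⁻¹ = n)
  · exact ⟨ψx, hψx, fun n hn => ((h2 n hn).trans (h1 n hn).symm).trans (hsame n hn).symm⟩
  push Not at hsame
  have hgψ : Tr C N e u (g * ψu) := h.tr_mul' hg hψu (by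
    obtain ⟨n, hn, h3⟩ := hsame
    refine ⟨n, hn, fun h4 => ?_⟩
    rcases h3 with ⟨h5, h6⟩ | ⟨h5, h6⟩
    · exact h6 (h4.1 h5)
    · exact h5 (h4.2 h6))
  have hψuy : ψu * y * ψu⁻¹ ≠ y := fun h3 => hψ ((h1 y hyN).1 h3)
  have h3 : g * ψu * y * (g * ψu)⁻¹ = y := (h.tr_mul hg hψu hyN).2.2 (iff_of_false hgy hψuy)
  obtain ⟨k, hk, h4⟩ := key _ hgψ h3
  -- `k ψx`
  have h5 : ∀ n ∈ N, (k * ψx * n * (k * ψx)⁻¹ = n ↔ g * n * g⁻¹ = n) := by
    intro n hn
    rw [(h.tr_mul hk hψx hn).2, h4 n hn, (h.tr_mul hg hψu hn).2, h1 n hn, h2 n hn]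
    tauto
  obtain ⟨n, hn, hn1⟩ := hg.2.2
  refine ⟨k * ψx, h.tr_mul' hk hψx ⟨n, hn, fun h6 => hn1 ?_⟩, h5⟩
  exact (h5 n hn).1 ((h.tr_mul hk hψx hn).2.2 h6)

/-- **(1)**: `-` is transitive -/
theorem ad_trans [Finite G] {u y x : G} (hu : u ∈ Pts C x₀) (hy : y ∈ Pts C x₀) (hx : x ∈ Pts C x₀)
    (huy : Ad C N e u y) (hxy : Ad C N e x y) (hne : u ≠ x) : Ad C N e u x := by
  by_contra hux
  have hxu : ¬ Ad C N e x u := fun h1 => hux (h.ad_symm hx hu h1)
  have huN := h.pt_mem hu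
  have hxN := h.pt_mem hx
  obtain ⟨ψ, hψ, hψu⟩ := h.exists_psi hno hy hu
  have hψx := (h.agree hu hx hy hux huy hxy hψ).1 hψu
  obtain ⟨g₁, hg₁, hg₁y⟩ := huy
  obtain ⟨g₂, hg₂, hg₂y⟩ := hxy
  obtain ⟨a₁, ha₁, h1⟩ := h.tr_a hy hu hψ hψu hg₁ hg₁y
  obtain ⟨a₂, ha₂, h2⟩ := h.tr_a hy hx hψ hψx hg₂ hg₂y
  obtain ⟨y', hy', hψy'⟩ := h.exists_moved hψ
  have hy'N := h.pt_mem hy'
  have huy' : Ad C N e u y' := ⟨a₁, ha₁, fun h3 => hψy' ((h1 y' hy'N).1 h3)⟩
  have hxy' : Ad C N e x y' := ⟨a₂, ha₂, fun h3 => hψy' ((h2 y' hy'N).1 h3)⟩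
  have hB : ∀ g, Tr C N e u g → ∃ g', Tr C N e x g' ∧ ∀ n ∈ N, (g' * n * g'⁻¹ = n ↔ g * n * g⁻¹ = n) :=
    fun g hg => h.half hno hu hx hy' hux huy' hxy' ha₁ ha₂ h1 h2 hψy' hg
  have hB' : ∀ g, Tr C N e x g → ∃ g', Tr C N e u g' ∧ ∀ n ∈ N, (g' * n * g'⁻¹ = n ↔ g * n * g⁻¹ = n) :=
    fun g hg => h.half hno hx hu hy' hxu hxy' huy' ha₂ ha₁ h2 h1 hψy' hg
  -- `u`, `x` agree on all transvections
  have hall : ∀ z ∈ Pts C x₀, ∀ f, Tr C N e z f → (f * u * f⁻¹ = u ↔ f * x * f⁻¹ = x) := by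
    intro z hz f hf
    by_cases h3 : Ad C N e u z
    · have h4 : Ad C N e x z := by
        obtain ⟨g, hg, hgz⟩ := h3
        obtain ⟨g', hg', h5⟩ := hB g hg
        exact ⟨g', hg', fun h6 => hgz ((h5 z (h.pt_mem hz)).1 h6)⟩
      exact h.agree hu hx hz hux h3 h4 hf
    · have h4 : ¬ Ad C N e x z := by
        rintro ⟨g, hg, hgz⟩
        obtain ⟨g', hg', h5⟩ := hB' g hg
        exact h3 ⟨g', hg', fun h6 => hgz ((h5 z (h.pt_mem hz)).1 h6)⟩
      have h5 : f * u * f⁻¹ = u := by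
        by_contra h6
        exact h3 (h.ad_symm hz hu ⟨f, hf, h6⟩)
      have h6 : f * x * f⁻¹ = x := by
        by_contra h6
        exact h4 (h.ad_symm hz hx ⟨f, hf, h6⟩)
      exact iff_of_true h5 h6
  -- the fixed points of all transvections
  let I : Subgroup G :=
    { carrier := {n | n ∈ N ∧ ∀ z ∈ Pts C x₀, ∀ f, Tr C N e z f → f * n * f⁻¹ = n}
      one_mem' := ⟨N.one_mem, fun _ _ f _ => by group⟩
      mul_mem' := by
        rintro m n ⟨hm, hm'⟩ ⟨hn, hn'⟩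
        refine ⟨mul_mem hm hn, fun z hz f hf => ?_⟩
        rw [h.conj_mul' f, hm' z hz f hf, hn' z hz f hf]
      inv_mem' := by
        rintro n ⟨hn, hn'⟩
        change n⁻¹ ∈ N ∧ ∀ z ∈ Pts C x₀, ∀ f, Tr C N e z f → f * n⁻¹ * f⁻¹ = n⁻¹
        rw [h.inv_eq hn]
        exact ⟨hn, hn'⟩ }
  have huxI : u * x ∈ I := by
    refine ⟨mul_mem huN hxN, fun z hz f hf => ?_⟩
    have h3 := hall z hz f hf
    rw [h.conj_mul' f]
    by_cases h4 : f * u * f⁻¹ = u
    · rw [h4, h3.1 h4]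
    · have h5 : f * x * f⁻¹ ≠ x := fun h5 => h4 (h3.2 h5)
      have hze := h.pe_mem hf
      rw [(hf.2.1 u huN).resolve_left h4, (hf.2.1 x hxN).resolve_left h5, mul_assoc u, ← mul_assoc (z * e),
        h.comm _ hze x hxN, mul_assoc x, h.sq _ hze, mul_one]
  obtain ⟨g', hg', h3⟩ := hB a₁ ha₁
  have hact : ∀ n ∈ N, (a₁ * n * a₁⁻¹ = n → a₁ * g' * n * (a₁ * g')⁻¹ = n) ∧
      (a₁ * n * a₁⁻¹ ≠ n → a₁ * g' * n * (a₁ * g')⁻¹ = n * (u * x)) := by
    intro n hn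
    have e1 : a₁ * g' * n * (a₁ * g')⁻¹ = a₁ * (g' * n * g'⁻¹) * a₁⁻¹ := by group
    constructor
    · intro h4
      rw [e1, (h3 n hn).2 h4, h4]
    · intro h4
      have h5 : g' * n * g'⁻¹ ≠ n := fun h5 => h4 ((h3 n hn).1 h5)
      have h6 : a₁ * x * a₁⁻¹ = x := (h3 x hxN).1 (h.tr_self hg')
      rw [e1, (hg'.2.1 n hn).resolve_left h5, h.conj_mul' a₁, (ha₁.2.1 n hn).resolve_left h4, h.conj_mul' a₁, h6,
        h.e_conj ha₁.1, mul_assoc n]
      congr 1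
      rw [h.comm x hxN e h.e_mem, mul_assoc u, ← mul_assoc e e, h.ee, one_mul]
  obtain ⟨n, hn, hn1⟩ := ha₁.2.2
  have h4 := (hact n hn).2 hn1
  rw [h.triv_series (I := I) (fun x hx => hx.1) (fun c hc n hn => ?_) (mul_mem ha₁.1 hg'.1) (fun m hm => ?_)
    (fun i hi => ?_) n hn] at h4
  · have h5 : u * x = 1 := mul_eq_left.1 h4.symm
    rw [mul_eq_one_iff_eq_inv, h.inv_eq hxN] at h5
    exact hne h5
  · refine ⟨h.conj_N hc hn.1, fun z hz f hf => ?_⟩
    have h5 := h.conj_tr hf (inv_mem hc)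
    have h6 := hn.2 _ (h.conj_pt hz (inv_mem hc)) _ h5
    calc f * (c * n * c⁻¹) * f⁻¹ = c * (c⁻¹ * f * c⁻¹⁻¹ * n * (c⁻¹ * f * c⁻¹⁻¹)⁻¹) * c⁻¹ := by group
      _ = c * n * c⁻¹ := by rw [h6]
  · by_cases h5 : a₁ * m * a₁⁻¹ = m
    · rw [(hact m hm).1 h5, h.sq m hm]
      exact I.one_mem
    · rw [(hact m hm).2 h5, ← mul_assoc, h.sq m hm, one_mul]
      exact huxI
  · exact (hact i hi.1).1 (hi.2 u hu a₁ ha₁)

theorem x_ne : x₀ ≠ 1 := by
  rintro rfl
  obtain ⟨t, -, ht, -⟩ := hno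
  obtain ⟨q, ⟨g, _, rfl⟩, h1⟩ := h.exists_moved ht
  apply h1
  group

theorem a_ne_one : a ≠ 1 := by
  rintro rfl
  obtain ⟨g, hg, h1⟩ := h.a_pt
  apply h.x_ne hno
  have : x₀ = g⁻¹ * (g * x₀ * g⁻¹) * g := by group
  rw [this, ← h1]; group

/-- **any two points are joined** -/
theorem clique [Finite G] {p q : G} (hp : p ∈ Pts C x₀) (hq : q ∈ Pts C x₀) (hne : p ≠ q) : Ad C N e p q := by
  have hconj : ∀ c ∈ C, ∀ p q, Ad C N e p q → Ad C N e (c * p * c⁻¹) (c * q * c⁻¹) := by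
    rintro c hc p q ⟨t, ht, h1⟩
    refine ⟨_, h.conj_tr ht hc, fun h2 => h1 ?_⟩
    have e2 : c * t * c⁻¹ * (c * q * c⁻¹) * (c * t * c⁻¹)⁻¹ = c * (t * q * t⁻¹) * c⁻¹ := by group
    rw [e2] at h2
    exact mul_left_cancel (mul_right_cancel h2)
  have hx := h.x_pt
  obtain ⟨d, hd, hda⟩ := h.tau
  have hd' := (h.D_iff d).1 hd
  have hdx : d * x₀ * d⁻¹ = x₀ := by rw [hd'.2]; group
  have hdx' : d⁻¹ * x₀ * d⁻¹⁻¹ = x₀ := by
    calc d⁻¹ * x₀ * d⁻¹⁻¹ = d⁻¹ * (x₀ * d) := by group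
      _ = d⁻¹ * (d * x₀) := by rw [hd'.2]
      _ = x₀ := by group
  have hda' : d⁻¹ * (x₀ * a) * d⁻¹⁻¹ = a := by rw [← hda]; group
  have hxa : Ad C N e x₀ a ∧ Ad C N e x₀ (x₀ * a) := by
    obtain ⟨t, ht⟩ := h.tr
    obtain ⟨w, hw, hw1⟩ := h.exists_moved ht
    have h1 : Ad C N e x₀ w := ⟨t, ht, hw1⟩
    obtain ⟨f, hf, hfx⟩ := h.ad_symm hx hw h1
    by_cases h2 : f * a * f⁻¹ = a
    · have h3 : Ad C N e w (x₀ * a) := by
        refine ⟨f, hf, fun h3 => hfx ?_⟩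
        rw [h.conj_mul' f, h2] at h3
        exact mul_right_cancel h3
      have h4 := h.ad_trans hno hx hw h.xa_pt h1 (h.ad_symm hw h.xa_pt h3) (fun h5 => h.a_ne_one hno (by
        exact mul_eq_left.1 h5.symm))
      refine ⟨?_, h4⟩
      have h5 := hconj _ (inv_mem hd'.1) _ _ h4
      rwa [hdx', hda'] at h5
    · have h3 : Ad C N e w a := ⟨f, hf, h2⟩
      have h4 := h.ad_trans hno hx hw h.a_pt h1 (h.ad_symm hw h.a_pt h3) h.a_ne.symm
      refine ⟨h4, ?_⟩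
      have h5 := hconj _ hd'.1 _ _ h4
      rwa [hdx, hda] at h5
  let H : Subgroup G :=
    { carrier := {c | c ∈ C ∧ (c * x₀ * c⁻¹ = x₀ ∨ Ad C N e x₀ (c * x₀ * c⁻¹))}
      one_mem' := ⟨one_mem _, by left; group⟩
      mul_mem' := by
        rintro x y ⟨hx', h1⟩ ⟨hy', h2⟩
        refine ⟨mul_mem hx' hy', ?_⟩
        have e1 : x * y * x₀ * (x * y)⁻¹ = x * (y * x₀ * y⁻¹) * x⁻¹ := by group
        rw [e1]
        rcases h2 with h2 | h2
        · rw [h2]; exact h1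
        · have h3 := hconj x hx' _ _ h2
          rcases h1 with h1 | h1
          · rw [h1] at h3; exact Or.inr h3
          · by_cases h4 : x * (y * x₀ * y⁻¹) * x⁻¹ = x₀
            · exact Or.inl h4
            · right
              have hp1 := h.conj_pt hx hx'
              have hp2 := h.conj_pt (h.conj_pt hx hy') hx'
              exact h.ad_trans hno hx hp1 hp2 h1 (h.ad_symm hp1 hp2 h3) (Ne.symm h4)
      inv_mem' := by
        rintro x ⟨hx', h1⟩
        refine ⟨inv_mem hx', ?_⟩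
        rcases h1 with h1 | h1
        · left
          rw [inv_inv]
          calc x⁻¹ * x₀ * x = x⁻¹ * (x * x₀ * x⁻¹) * x := by rw [h1]
            _ = x₀ := by group
        · right
          have h3 := hconj x⁻¹ (inv_mem hx') _ _ (h.ad_symm hx (h.conj_pt hx hx') h1)
          have e1 : x⁻¹ * (x * x₀ * x⁻¹) * x⁻¹⁻¹ = x₀ := by group
          rwa [e1] at h3 }
  have hHall : C ≤ H := by
    refine h.CDM.trans (sup_le ?_ ?_)
    · intro d hd
      have h1 := (h.D_iff d).1 hd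
      exact ⟨h1.1, Or.inl (by rw [h1.2]; group)⟩
    · intro m hm
      refine ⟨h.MC hm, ?_⟩
      rcases h.ML m hm with h1 | h1 | h1
      · exact Or.inl h1
      · rw [h1]; exact Or.inr hxa.1
      · rw [h1]; exact Or.inr hxa.2
  obtain ⟨c, hc, rfl⟩ := hp
  obtain ⟨c', hc', rfl⟩ := hq
  have h1 : c⁻¹ * c' ∈ H := hHall (mul_mem (inv_mem hc) hc')
  have e1 : c * (c⁻¹ * c' * x₀ * (c⁻¹ * c')⁻¹) * c⁻¹ = c' * x₀ * c'⁻¹ := by group
  rcases h1.2 with h2 | h2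
  · exfalso
    apply hne
    rw [← e1, h2]
  · have h3 := hconj c hc _ _ h2
    rwa [e1] at h3

theorem gl_mul [Finite G] {p q : G} (hp : p ∈ Pts C x₀) (hq : q ∈ Pts C x₀) (hne : p ≠ q) : p * q * e ∈ Pts C x₀ := by
  obtain ⟨t, ht, h1⟩ := h.clique hno hp hq hne
  have h2 := (ht.2.1 q (h.pt_mem hq)).resolve_left h1
  have h3 := h.conj_pt hq ht.1
  rw [h2] at h3
  rwa [← mul_assoc, h.comm q (h.pt_mem hq) p (h.pt_mem hp)] at h3

/-- `e = 1` -/
theorem gl_e [Finite G] (zz : ∀ p ∈ Pts C x₀, p * v ∉ Pts C x₀) : e = 1 := by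
  rcases h.he with h1 | h1
  · exact h1
  · exfalso
    have h2 := h.gl_mul hno h.x_pt h.a_pt h.a_ne.symm
    rw [h1] at h2
    exact zz _ h.xa_pt h2

/-- all elements `≠ 1` of `N` are points -/
theorem gl_all [Finite G] (he1 : e = 1) {n : G} (hn : n ∈ N) : n = 1 ∨ n ∈ Pts C x₀ := by
  refine (closure_induction (p := fun x _ => x ∈ N ∧ (x = 1 ∨ x ∈ Pts C x₀)) ?_ ?_ ?_ ?_ (h.gen hn)).2
  · exact fun q hq => ⟨h.pt_mem hq, Or.inr hq⟩
  · exact ⟨one_mem _, Or.inl rfl⟩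
  · rintro x y _ _ ⟨hx, hx'⟩ ⟨hy, hy'⟩
    refine ⟨mul_mem hx hy, ?_⟩
    rcases hx' with rfl | hx'
    · rw [one_mul]; exact hy'
    rcases hy' with rfl | hy'
    · rw [mul_one]; exact Or.inr hx'
    by_cases h1 : x = y
    · left; rw [h1, h.sq y hy]
    · right
      have h2 := h.gl_mul hno hx' hy' h1
      rwa [he1, mul_one] at h2
  · rintro x _ ⟨hx, hx'⟩
    rw [h.inv_eq hx]
    exact ⟨hx, hx'⟩

/-- `v ∉ N` -/
theorem gl_v [Finite G] (he1 : e = 1) (hv : v ≠ 1) : v ∉ N := by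
  intro h1
  rcases h.gl_all hno he1 h1 with h2 | ⟨g, hg, h2⟩
  · exact hv h2
  · have h3 : x₀ = v := by
      have e1 : x₀ = g⁻¹ * (g * x₀ * g⁻¹) * g := by group
      rw [e1, ← h2]
      calc g⁻¹ * v * g = g⁻¹ * (v * g) := by group
        _ = g⁻¹ * (g * v) := by rw [h.vC g hg]
        _ = v := by group
    obtain ⟨g', hg', h4⟩ := h.a_pt
    apply h.a_ne
    rw [h4, h3, h.vC g' hg']; group

/-- **an invariant subgroup containing `x₀` and `a` is `N`** -/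
theorem gl_E [Finite G] (he1 : e = 1) {E : Subgroup G} (hxE : x₀ ∈ E) (haE : a ∈ E)
    (hD : ∀ t ∈ D, ∀ b ∈ E, t * b * t⁻¹ ∈ E) : N ≤ E := by
  intro y hy
  have haN := h.pt_mem h.a_pt
  have hxN := h.x_mem
  by_cases h1 : y ∈ E
  · exact h1
  have hyaN := mul_mem hy haN
  have hya : y * a ∈ Pts C x₀ := by
    refine (h.gl_all hno he1 hyaN).resolve_left fun h2 => h1 ?_
    rw [mul_eq_one_iff_eq_inv, h.inv_eq haN] at h2
    rw [h2]; exact haE
  have hE : ∀ z ∈ E, y * a ≠ z := fun z hz h2 => h1 (by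
    have : y = z * a := by rw [← h2, mul_assoc, h.sq a haN, mul_one]
    rw [this]; exact mul_mem hz haE)
  obtain ⟨f₁, hf₁, h2⟩ := h.clique hno hya h.a_pt (hE a haE)
  obtain ⟨f₂, hf₂, h3⟩ := h.clique hno hya h.xa_pt (hE _ (mul_mem hxE haE))
  -- some transvection with centre `y a` fixes `x₀` and moves `a`
  obtain ⟨t, ht, htx, hta⟩ : ∃ t, Tr C N e (y * a) t ∧ t * x₀ * t⁻¹ = x₀ ∧ t * a * t⁻¹ ≠ a := by
    by_cases h4 : f₁ * x₀ * f₁⁻¹ = x₀
    · exact ⟨f₁, hf₁, h4, h2⟩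
    have h5 : ¬ (f₂ * x₀ * f₂⁻¹ = x₀ ↔ f₂ * a * f₂⁻¹ = a) := by
      intro h5
      apply h3
      rw [h.conj_mul' f₂]
      by_cases h6 : f₂ * x₀ * f₂⁻¹ = x₀
      · rw [h6, h5.1 h6]
      · have h7 : f₂ * a * f₂⁻¹ ≠ a := fun h7 => h6 (h5.2 h7)
        have hze := h.pe_mem hf₂
        rw [(hf₂.2.1 _ hxN).resolve_left h6, (hf₂.2.1 _ haN).resolve_left h7, mul_assoc x₀, ← mul_assoc (y * a * e),
          h.comm _ hze a haN, mul_assoc a, h.sq _ hze, mul_one]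
    by_cases h6 : f₂ * x₀ * f₂⁻¹ = x₀
    · exact ⟨f₂, hf₂, h6, fun h7 => h5 ⟨fun _ => h7, fun _ => h6⟩⟩
    have h7 : f₂ * a * f₂⁻¹ = a := by
      by_contra h7
      exact h5 (iff_of_false h6 h7)
    refine ⟨f₁ * f₂, h.tr_mul' hf₁ hf₂ ⟨a, haN, fun h8 => h2 (h8.2 h7)⟩,
      (h.tr_mul hf₁ hf₂ hxN).2.2 (iff_of_false h4 h6), fun h8 => h2 ?_⟩
    exact ((h.tr_mul hf₁ hf₂ haN).2.1 h8).2 h7
  have htD : t ∈ D := (h.D_iff t).2 ⟨ht.1, by
    calc t * x₀ = t * x₀ * t⁻¹ * t := by group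
      _ = x₀ * t := by rw [htx]⟩
  have h4 := hD t htD a haE
  rw [(ht.2.1 a haN).resolve_left hta, he1, mul_one, h.comm y hy a haN, ← mul_assoc, h.sq a haN, one_mul] at h4
  exact h4

end no

end TBase

end Cfsg.Agent.Omega.OM.KTwo.StrSp

end
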