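import Cfsg.Agent.Mrg.Omega.BTwo.Basic
import Cfsg.Agent.Omega.IId.Big.RedTool
import Cfsg.Agent.Mrg.Omega.OM.KTwo.Cut
import Cfsg.Agent.Mrg.Omega.TC.Crit
import Cfsg.Agent.Mrg.Omega.NOThree.NoOver
import Cfsg.Agent.ZN.ChoiceBase

section


/-!
# LEMMA X (helper918 #19487, section 1), by averaging

* `LemX.comm` (abstract): `R` normalises `Y`, `Y / D` elementary abelian, `[e, R] ≤ Y`, `[e, P] ≤ D` for a subgroup `P`
  of odd index of `R`; `H` normalises `R`, `Y`, `D`, `[e, H] ≤ D`; `C_{Y/D}(R) = C_{Y/D}(H) = 1`. Then `[e, R] ≤ D`;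
* `Sit.R_le_normalizer_U` : in the situation of NO-3S, `k = 2`, `q = 2`: a normal subgroup `R` of `C_G(v i)` with
  `[U i, R] ≤ N i ⟨v i⟩` and `C_{N~}(R) = 1` normalises `U i`, if `C_{N~}(T) ≤ ⟨v~_j⟩`, `N~ = N i ⟨v i⟩ / ⟨v i⟩`;
* `Sit.lemX` : so `C_G(v i) = C_{C_G(v i)}(N i) R` is impossible in case (II).
-/

set_option autoImplicit false
set_option linter.unusedSectionVars false

namespace Cfsg.Agent.Omega.OM.KTwo

open Subgroup Cfsg Cfsg.Agent.ZN

universe u

variable {G : Type u} [Group G]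

namespace LemX

/-- the elements of `N(D)` commuting with `R` modulo `D` -/
def cn (R D : Subgroup G) : Subgroup G where
  carrier := {x | (∀ d ∈ D, x * d * x⁻¹ ∈ D) ∧ (∀ d ∈ D, x⁻¹ * d * x ∈ D) ∧ ∀ r ∈ R, x⁻¹ * r * x * r⁻¹ ∈ D}
  one_mem' := ⟨fun d hd => by simpa using hd, fun d hd => by simpa using hd, fun r _ => by simp⟩
  mul_mem' := by
    rintro x y ⟨hx1, hx2, hx3⟩ ⟨hy1, hy2, hy3⟩
    refine ⟨fun d hd => ?_, fun d hd => ?_, fun r hr => ?_⟩
    · have := hx1 _ (hy1 d hd)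
      have e : x * y * d * (x * y)⁻¹ = x * (y * d * y⁻¹) * x⁻¹ := by group
      rwa [e]
    · have := hy2 _ (hx2 d hd)
      have e : (x * y)⁻¹ * d * (x * y) = y⁻¹ * (x⁻¹ * d * x) * y := by group
      rwa [e]
    · have h1 := mul_mem (hy2 _ (hx3 r hr)) (hy3 r hr)
      have e : (x * y)⁻¹ * r * (x * y) * r⁻¹ = y⁻¹ * (x⁻¹ * r * x * r⁻¹) * y * (y⁻¹ * r * y * r⁻¹) := by group
      rwa [e]
  inv_mem' := by
    rintro x ⟨hx1, hx2, hx3⟩
    refine ⟨fun d hd => by simpa using hx2 d hd, fun d hd => by simpa using hx1 d hd, fun r hr => ?_⟩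
    have h1 := inv_mem (hx1 _ (hx3 r hr))
    have e2 : x⁻¹⁻¹ * r * x⁻¹ * r⁻¹ = (x * (x⁻¹ * r * x * r⁻¹) * x⁻¹)⁻¹ := by group
    rw [e2]
    exact h1

theorem mem_cn {R D : Subgroup G} {x : G} : x ∈ cn R D ↔
    (∀ d ∈ D, x * d * x⁻¹ ∈ D) ∧ (∀ d ∈ D, x⁻¹ * d * x ∈ D) ∧ ∀ r ∈ R, x⁻¹ * r * x * r⁻¹ ∈ D := Iff.rfl

theorem conj_mem {K A : Subgroup G} (h : K ≤ normalizer (A : Set G)) {k a : G} (hk : k ∈ K) (ha : a ∈ A) :
    k * a * k⁻¹ ∈ A := (mem_normalizer_iff.1 (h hk) a).1 ha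

theorem conj_mem' {K A : Subgroup G} (h : K ≤ normalizer (A : Set G)) {k a : G} (hk : k ∈ K) (ha : a ∈ A) :
    k⁻¹ * a * k ∈ A := by
  have := conj_mem h (inv_mem hk) ha
  rwa [inv_inv] at this

/-- conjugation by elements of `N(R) ∩ N(D)` preserves `cn R D` -/
theorem conj_cn {H R D : Subgroup G} (hHR : H ≤ normalizer (R : Set G)) (hHD : H ≤ normalizer (D : Set G)) {h x : G}
    (hh : h ∈ H) (hx : x ∈ cn R D) : h * x * h⁻¹ ∈ cn R D := by
  obtain ⟨hx1, hx2, hx3⟩ := hx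
  refine ⟨fun d hd => ?_, fun d hd => ?_, fun r hr => ?_⟩
  · have h1 := conj_mem hHD hh (hx1 _ (conj_mem' hHD hh hd))
    have e : h * x * h⁻¹ * d * (h * x * h⁻¹)⁻¹ = h * (x * (h⁻¹ * d * h) * x⁻¹) * h⁻¹ := by group
    rwa [e]
  · have h1 := conj_mem hHD hh (hx2 _ (conj_mem' hHD hh hd))
    have e : (h * x * h⁻¹)⁻¹ * d * (h * x * h⁻¹) = h * (x⁻¹ * (h⁻¹ * d * h) * x) * h⁻¹ := by group
    rwa [e]
  · have h1 := conj_mem hHD hh (hx3 _ (conj_mem' hHR hh hr))
    have e : (h * x * h⁻¹)⁻¹ * r * (h * x * h⁻¹) * r⁻¹ = h * (x⁻¹ * (h⁻¹ * r * h) * x * (h⁻¹ * r * h)⁻¹) * h⁻¹ := by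
      group
    rwa [e]

/-- **LEMMA X, abstract form.** -/
theorem comm [Finite G] {R P H Y D : Subgroup G} {e : G} (hPR : P ≤ R) (hodd : Odd (P.relIndex R)) (hDY : D ≤ Y)
    (hRY : R ≤ normalizer (Y : Set G)) (hRD : R ≤ normalizer (D : Set G)) (hYD : Y ≤ normalizer (D : Set G))
    (hY2 : ∀ y ∈ Y, y * y ∈ D) (heD : e ∈ normalizer (D : Set G))
    (hRe : ∀ r ∈ R, e⁻¹ * r * e * r⁻¹ ∈ Y) (hPe : ∀ p ∈ P, e⁻¹ * p * e * p⁻¹ ∈ D)
    (hHR : H ≤ normalizer (R : Set G)) (hHY : H ≤ normalizer (Y : Set G)) (hHD : H ≤ normalizer (D : Set G))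
    (hHe : ∀ h ∈ H, e⁻¹ * h * e * h⁻¹ ∈ D)
    (hR0 : ∀ y ∈ Y, (∀ r ∈ R, y⁻¹ * r * y * r⁻¹ ∈ D) → y ∈ D)
    (hH0 : ∀ y ∈ Y, (∀ h ∈ H, y⁻¹ * h * y * h⁻¹ ∈ D) → y ∈ D) :
    ∀ r ∈ R, e⁻¹ * r * e * r⁻¹ ∈ D := by
  obtain ⟨y, hy, hyR⟩ := Cfsg.Agent.Omega.BTwo.Avg.avg hPR hodd hDY (fun x hx y hy => conj_mem hRY hx hy)
    (fun x hx y hy => conj_mem hRD hx hy) (fun x hx y hy => conj_mem hYD hx hy) hY2 hRe hPe
  have hDcn : D ≤ cn R D := by
    intro d hd
    refine ⟨fun x hx => mul_mem (mul_mem hd hx) (inv_mem hd), fun x hx => mul_mem (mul_mem (inv_mem hd) hx) hd,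
      fun r hr => ?_⟩
    have h1 := mul_mem (inv_mem hd) (conj_mem hRD hr hd)
    have e1 : d⁻¹ * r * d * r⁻¹ = d⁻¹ * (r * d * r⁻¹) := by group
    rwa [e1]
  have hey : e * y ∈ normalizer (D : Set G) := mul_mem heD (hYD hy)
  have hc : e * y ∈ cn R D :=
    ⟨fun d hd => (mem_normalizer_iff.1 hey d).1 hd, fun d hd => (mem_normalizer_iff''.1 hey d).1 hd, hyR⟩
  have hyD : y ∈ D := by
    refine hH0 y hy fun h hh => ?_
    -- `h (e y) h⁻¹ = e d (h y h⁻¹)`
    have h1 := conj_cn hHR hHD hh hc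
    have h2 := mul_mem (inv_mem hc) h1
    obtain ⟨d, hd, hde⟩ : ∃ d ∈ D, h * e * h⁻¹ = e * d := by
      refine ⟨e⁻¹ * h * e * h⁻¹, hHe h hh, by group⟩
    have hyh : h * y * h⁻¹ ∈ Y := conj_mem hHY hh hy
    have e1 : (e * y)⁻¹ * (h * (e * y) * h⁻¹) = (y⁻¹ * d * y) * (y⁻¹ * (h * y * h⁻¹)) := by
      calc (e * y)⁻¹ * (h * (e * y) * h⁻¹) = y⁻¹ * e⁻¹ * (h * e * h⁻¹) * (h * y * h⁻¹) := by group
        _ = y⁻¹ * e⁻¹ * (e * d) * (h * y * h⁻¹) := by rw [hde]
        _ = (y⁻¹ * d * y) * (y⁻¹ * (h * y * h⁻¹)) := by group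
    have h3 : y⁻¹ * d * y ∈ D := (mem_normalizer_iff''.1 (hYD hy) d).1 hd
    have h4 : y⁻¹ * (h * y * h⁻¹) ∈ cn R D := by
      rw [e1] at h2
      have := mul_mem (inv_mem (hDcn h3)) h2
      rwa [inv_mul_cancel_left] at this
    have h5 : y⁻¹ * (h * y * h⁻¹) ∈ D := hR0 _ (mul_mem (inv_mem hy) hyh) h4.2.2
    have e2 : y⁻¹ * h * y * h⁻¹ = y⁻¹ * (h * y * h⁻¹) := by group
    rwa [e2]
  have he : e ∈ cn R D := by
    have := mul_mem hc (inv_mem (hDcn hyD))
    rwa [mul_inv_cancel_right] at this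
  exact he.2.2

end LemX

namespace Sit

open Cfsg.Agent.Omega.NO3S Cfsg.Agent.Omega.FrameNOFF Cfsg.Agent.Omega.MinPar
open Cfsg.Agent.ZN.ChoiceSit (Syl)
open Cfsg.Agent.MinSimple.VModule (mem_zc)
open Cfsg.Agent.Omega.NoFF.Basic (mem_conj)
open scoped Pointwise

variable [Finite G] {S : Sylow 2 G} {P T : Subgroup G} {U : Fin 2 → Subgroup G} {v : Fin 2 → G}
  (D : Sit S P T U v)

include D

theorem sq_U {i : Fin 2} {x : G} (hx : x ∈ U i) : x * x = 1 := by
  have := D.U_sq i x hx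
  rwa [pow_two] at this

/-- elements of `C_G(v i) ∩ N(U i)` act trivially on `U i / ⟨v i⟩` -/
theorem comm_U {i : Fin 2} {h e : G} (hv : h * v i * h⁻¹ = v i) (hU : h ∈ normalizer (U i : Set G)) (he : e ∈ U i) :
    e⁻¹ * h * e * h⁻¹ ∈ zpowers (v i) := by
  -- the four elements of `U i`
  have he' : h * e * h⁻¹ ∈ U i := (mem_normalizer_iff.1 hU e).1 he
  have h0 : e⁻¹ * (h * e * h⁻¹) ∈ U i := mul_mem (inv_mem he) he'
  have e0 : e⁻¹ * h * e * h⁻¹ = e⁻¹ * (h * e * h⁻¹) := by group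
  rw [e0]
  by_cases h1 : e ∈ zpowers (v i)
  · obtain ⟨n, rfl⟩ := mem_zpowers_iff.1 h1
    have : h * v i ^ n * h⁻¹ = v i ^ n := by rw [← conj_zpow, hv]
    rw [this, inv_mul_cancel]
    exact one_mem _
  -- `U i / ⟨v i⟩` has order two
  have hidx : (zpowers (v i)).relIndex (U i) = 2 := by
    have h2 := Lib.SylowNormalInf.card_mul_relIndex (zpowers (v i)) (U i) (zpowers_le.2 (D.mem i))
    rw [D.four i, Nat.card_zpowers] at h2
    have h3 : orderOf (v i) = 2 := by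
      rw [orderOf_eq_prime (by rw [pow_two]; exact D.sq_U (D.mem i)) (D.ne i)]
    rw [h3] at h2
    omega
  have h5 : h * e * h⁻¹ ∉ zpowers (v i) := by
    intro h6
    apply h1
    obtain ⟨n, hn⟩ := mem_zpowers_iff.1 h6
    have : e = h⁻¹ * (v i) ^ n * h := by rw [hn]; group
    rw [this]
    have e3 : h⁻¹ * v i ^ n * h = v i ^ n := by
      have : h * v i ^ n * h⁻¹ = v i ^ n := by rw [← conj_zpow, hv]
      calc h⁻¹ * v i ^ n * h = h⁻¹ * (h * v i ^ n * h⁻¹) * h := by rw [this]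
        _ = v i ^ n := by group
    rw [e3]
    exact zpow_mem (mem_zpowers _) n
  have hm : ∀ {a b : G}, a ∈ U i → b ∈ U i → a ∉ zpowers (v i) → b ∉ zpowers (v i) → a * b ∈ zpowers (v i) := by
    intro a b ha hb ha' hb'
    have h8 : (⟨a, ha⟩ : U i) * ⟨b, hb⟩ ∈ (zpowers (v i)).subgroupOf (U i) := by
      rw [mul_mem_iff_of_index_two hidx]
      exact ⟨fun h2 => absurd h2 ha', fun h2 => absurd h2 hb'⟩
    exact h8
  exact hm (inv_mem he) he' (fun h => h1 (by simpa using inv_mem h)) h5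

/-- **LEMMA X (918 #19487).** -/
theorem R_le_normalizer_U {i : Fin 2} {R : Subgroup G} (hRC : R ≤ CC v i) (hCR : CC v i ≤ normalizer (R : Set G))
    (hUR : ∀ r ∈ R, ∀ u ∈ U i, u⁻¹ * r * u * r⁻¹ ∈ EU T v i)
    (hT : ∀ n ∈ EU T v i, (∀ t ∈ T, n⁻¹ * t * n * t⁻¹ ∈ zpowers (v i)) → n ∈ zc T)
    (hR : ∀ n ∈ EU T v i, (∀ r ∈ R, n⁻¹ * r * n * r⁻¹ ∈ zpowers (v i)) → n ∈ zpowers (v i)) :
    R ≤ normalizer (U i : Set G) := by
  have hij := ne_add_one i
  have hcv : ∀ c ∈ CC v i, c * v i * c⁻¹ = v i := by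
    intro c hc
    have h : c * v i = v i * c := mem_centralizer_singleton_iff.1 hc
    calc c * v i * c⁻¹ = v i * c * c⁻¹ := by rw [h]
      _ = v i := by group
  have hCZ : CC v i ≤ normalizer (zpowers (v i) : Set G) := by
    intro c hc
    have h : c * v i = v i * c := mem_centralizer_singleton_iff.1 hc
    apply centralizer_le_normalizer
    rw [mem_centralizer_iff]
    rintro _ ⟨n, rfl⟩
    exact ((show Commute c (v i) from h).zpow_right n).eq.symm
  have hzE : zc T ≤ EU T v i := le_V _ _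
  have hvE : zpowers (v i) ≤ EU T v i := zpowers_le.2 (hzE (D.v_mem_zc i))
  have hEC : EU T v i ≤ CC v i := ((D.E_le_Q i).trans (D.Q_le_T i)).trans (D.T_le_C i)
  have hUE : U (i + 1) ≤ EU T v i := D.U_le_E i
  -- `M` : the elements of `P` centralising `U i`
  set M := P ⊓ centralizer (U i : Set G) with hM
  have hMC : M ≤ CC v i := inf_le_right.trans (centralizer_le (Set.singleton_subset_iff.2 (D.mem i)))
  set H := T ⊔ M with hH
  have hHC : H ≤ CC v i := sup_le (D.T_le_C i) hMC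
  have hHU : H ≤ normalizer (U i : Set G) := sup_le (D.T_le_N i) (inf_le_right.trans (centralizer_le_normalizer _))
  have hodd : Odd ((R ⊓ T).relIndex R) := by
    rw [← Nat.not_even_iff_odd, even_iff_two_dvd]
    exact IId.Big.Red.odd_inf (D.T_le_C i) hRC ((D.T_le_C i).trans hCR) (ZN.ChoiceSit.syl_not_dvd (D.syl i))
  have hEsq : ∀ y ∈ EU T v i, y * y = 1 := by
    intro y hy
    have h1 := D.WN_sq i y ((D.E_le i).trans (sup_le le_sup_right
      (zpowers_le.2 (mem_sup_left (le_V _ _ (D.mem i))))) hy)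
    rwa [pow_two] at h1
  have key : ∀ e ∈ U i, ∀ r ∈ R, e⁻¹ * r * e * r⁻¹ ∈ zpowers (v i) := by
    intro e he
    have heC : e ∈ CC v i := (D.T_le_C i) (by
      have h1 : U i ≤ T := by
        have h2 := (le_V (U i) (CC v i) : U i ≤ WU U v i)
        exact h2.trans ((D.W_le_Q i).trans (D.Q_le_T i))
      exact h1 he)
    refine LemX.comm (P := R ⊓ T) (H := H) (Y := EU T v i) inf_le_left hodd hvE (hRC.trans (D.C_le_N_E i))
      (hRC.trans hCZ) (hEC.trans hCZ) (fun y hy => by rw [hEsq y hy]; exact one_mem _) (hCZ heC)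
      (fun r hr => hUR r hr e he) (fun p hp => ?_) (hHC.trans hCR) (hHC.trans (D.C_le_N_E i)) (hHC.trans hCZ)
      (fun h hh => ?_) hR ?_
    · exact D.comm_U (hcv p (hRC hp.1)) (D.T_le_N i hp.2) he
    · exact D.comm_U (hcv h (hHC hh)) (hHU hh) he
    · intro y hy hyH
      have h1 := hT y hy fun t ht => hyH t (mem_sup_left ht)
      by_contra hyv
      -- `y = v_j` or `v_i v_j`
      have h2 : ∃ d ∈ zpowers (v i), y = v (i + 1) * d := by
        have hc : v 0 * v 1 = v 1 * v 0 := by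
          have := (mem_zc.1 ((D.zT (v 1)).2 (Or.inr (Or.inr (Or.inl rfl))))).2.1 (v 0)
            ((mem_zc.1 ((D.zT (v 0)).2 (Or.inr (Or.inl rfl)))).1)
          exact this
        rcases (D.zT y).1 h1 with h | h | h | h
        · exact absurd (h ▸ one_mem _) hyv
        · rcases Fin.exists_fin_two.1 ⟨i, rfl⟩ with hi | hi
          · rw [hi, h] at hyv; exact absurd (mem_zpowers _) hyv
          · exact ⟨1, one_mem _, by rw [h, hi]; simp⟩
        · rcases Fin.exists_fin_two.1 ⟨i, rfl⟩ with hi | hi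
          · exact ⟨1, one_mem _, by rw [h, hi]; simp⟩
          · rw [hi, h] at hyv; exact absurd (mem_zpowers _) hyv
        · rcases Fin.exists_fin_two.1 ⟨i, rfl⟩ with hi | hi
          · exact ⟨v 0, by rw [hi]; exact mem_zpowers _, by rw [h, hi, hc]; rfl⟩
          · exact ⟨v 1, by rw [hi]; exact mem_zpowers _, by rw [h, hi]; rfl⟩
      obtain ⟨d, hd, hyd⟩ := h2
      -- an element of `M` moving `v_j`
      obtain ⟨w, hw, hw1, hwv⟩ : ∃ w ∈ U (i + 1), w ≠ 1 ∧ w ≠ v (i + 1) := by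
        by_contra hcon
        push Not at hcon
        have h3 : (U (i + 1) : Set G) ⊆ {1, v (i + 1)} := by
          intro w hw
          by_cases h1 : w = 1
          · exact Or.inl h1
          · exact Or.inr (hcon w hw h1)
        have h4 := Set.ncard_le_ncard h3 (Set.toFinite _)
        have h5 : (U (i + 1) : Set G).ncard = 4 := by rw [← D.four (i + 1)]; rfl
        have h6 : ({1, v (i + 1)} : Set G).ncard = 2 := Set.ncard_pair (Ne.symm (D.ne _))
        omega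
      obtain ⟨m, hmP, hmC, -, hmw⟩ := D.tr (i + 1) i hij.symm w hw hw1
      have hmM : m ∈ M := ⟨hmP, hmC⟩
      have h3 := hyH m (mem_sup_right hmM)
      have hmd : m * d * m⁻¹ = d := by
        obtain ⟨n, rfl⟩ := mem_zpowers_iff.1 hd
        rw [← conj_zpow, hcv m (hMC hmM)]
      have h4 : y⁻¹ * m * y * m⁻¹ = d⁻¹ * ((v (i + 1))⁻¹ * w) * d := by
        calc y⁻¹ * m * y * m⁻¹ = (v (i + 1) * d)⁻¹ * (m * v (i + 1) * m⁻¹) * (m * d * m⁻¹) := by rw [hyd]; group
          _ = d⁻¹ * ((v (i + 1))⁻¹ * w) * d := by rw [hmw, hmd]; group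
      rw [h4] at h3
      have h5 : (v (i + 1))⁻¹ * w ∈ zpowers (v i) := by
        have := mul_mem (mul_mem hd h3) (inv_mem hd)
        have e5 : d * (d⁻¹ * ((v (i + 1))⁻¹ * w) * d) * d⁻¹ = (v (i + 1))⁻¹ * w := by group
        rwa [e5] at this
      have h6 : (v (i + 1))⁻¹ * w ∈ U i ⊓ U (i + 1) :=
        ⟨(zpowers_le.2 (D.mem i)) h5, (U (i + 1)).mul_mem ((U (i + 1)).inv_mem (D.mem _)) hw⟩
      rw [D.inf i (i + 1) hij, mem_bot] at h6
      exact hwv (inv_mul_eq_one.1 h6).symm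
  -- conclusion
  intro r hr
  have hle : ∀ r ∈ R, ∀ e ∈ U i, r * e * r⁻¹ ∈ U i := by
    intro r hr e he
    have h1 := key e he r hr
    have h2 := mul_mem he ((zpowers_le.2 (D.mem i)) h1)
    have e2 : e * (e⁻¹ * r * e * r⁻¹) = r * e * r⁻¹ := by group
    rwa [e2] at h2
  rw [mem_normalizer_iff]
  intro x
  refine ⟨fun hx => hle r hr x hx, fun hx => ?_⟩
  have h2 := hle r⁻¹ (inv_mem hr) _ hx
  have e : r⁻¹ * (r * x * r⁻¹) * r⁻¹⁻¹ = x := by group
  rwa [e] at h2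

/-- **LEMMA X** : `C_G(v i) = C_{C_G(v i)}(N i) R` is impossible. -/
theorem lemX (hII : NonLoc (CC v 0) (CC v 1)) {i : Fin 2}
    (hmax : CC v (i + 1) ≤ centralizer (zc T : Set G) ⊔ (P ⊓ centralizer (U (i + 1) : Set G)))
    {R : Subgroup G} (hRC : R ≤ CC v i) (hCR : CC v i ≤ normalizer (R : Set G))
    (hUR : ∀ r ∈ R, ∀ u ∈ U i, u⁻¹ * r * u * r⁻¹ ∈ EU T v i)
    (hT : ∀ n ∈ EU T v i, (∀ t ∈ T, n⁻¹ * t * n * t⁻¹ ∈ zpowers (v i)) → n ∈ zc T)
    (hR : ∀ n ∈ EU T v i, (∀ r ∈ R, n⁻¹ * r * n * r⁻¹ ∈ zpowers (v i)) → n ∈ zpowers (v i)) :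
    ¬ CC v i ≤ FF U v i ⊔ R := fun h =>
  D.step_f hII i hmax (h.trans (sup_le_sup_left (le_inf hRC (D.R_le_normalizer_U hRC hCR hUR hT hR)) _))

end Sit

end Cfsg.Agent.Omega.OM.KTwo

end

section


/-!
# CARD #18791: LEMMA X (helper918 #19487, by averaging: helper178) over the common frame `Fr`

* `Fr.v_ne_v`, `Fr.v_notin` : `v i ∉ V (i+1)`;
* `Fr.R_le_normalizer` : a normal subgroup `R` of `C_i` with `[V i, R] ≤ E_i`, `C_{N~}(T) = ⟨v~_j⟩`, `C_{N~}(R) = 1`
  normalises `V i`;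
* `Fr.lemX` : **LEMMA X**: such an `R` centralises `N_i`.
-/

set_option autoImplicit false
set_option linter.unusedSectionVars false

namespace Cfsg.Agent.Omega.TC

open Subgroup Cfsg Cfsg.Agent.ZN Cfsg.Agent.Omega.MinPar
open Cfsg.Agent.Omega.OM.KTwo (CC QQ WU NU EU FF ne_add_one eq_add_one add_one_add_one le_normalizer_V le_V
  le_o2_of_commutator)
open Cfsg.Agent.Omega.NoFF.Basic (conj_conj mem_conj conj_le_iff conj_le_centralizer comm_symm comm_mono
  Z_le_V V_le conj_V_mul)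
open Cfsg.Agent.Omega.NOThreeL.Pair (conj_eq_of_mem)
open Cfsg.Agent.MinSimple.VModule (mem_zc zc_le le_normalizer_o2 le_o2 o2_le o2_isPGroup)
open scoped Pointwise

universe u

variable {G : Type u} [Group G]

namespace Fr

variable [Finite G] {T : Subgroup G} {V P : Fin 2 → Subgroup G} {v : Fin 2 → G} (D : Fr T V P v)

include D

theorem v_ne_v {i j : Fin 2} (hij : i ≠ j) : v i ≠ v j := by
  intro h
  apply D.mv i
  rw [h]
  exact D.PC i j hij

/-- `v i ∉ V (i+1)` -/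
theorem v_notin {i j : Fin 2} (hij : i ≠ j) : v i ∉ V j := by
  intro h
  obtain ⟨l, hl, -, hlw⟩ := D.tr hij.symm h (D.ne i)
  have h1 : l * v i = v i * l := mem_centralizer_singleton_iff.1 (D.PC j i hij.symm hl)
  have h2 : l⁻¹ * v i * l = v i := by rw [mul_assoc, ← h1]; group
  apply D.v_ne_v hij
  rw [← h2, ← hlw]
  group

theorem conj_v (i : Fin 2) {c : G} (hc : c ∈ CC v i) : c * v i * c⁻¹ = v i := by
  have h : c * v i = v i * c := mem_centralizer_singleton_iff.1 hc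
  rw [h]; group

theorem mem_zpv {i : Fin 2} {x : G} (hx : x ∈ zpowers (v i)) : x = 1 ∨ x = v i := by
  obtain ⟨n, hn⟩ := mem_zpowers_iff.1 hx
  have h2 : v i ^ (2 : ℤ) = 1 := by
    have := D.v_sq' i
    exact_mod_cast this
  rcases Int.even_or_odd n with he | ho
  · obtain ⟨k, hk⟩ := he
    left
    rw [← hn, hk, ← two_mul, zpow_mul, h2, one_zpow]
  · obtain ⟨k, hk⟩ := ho
    right
    rw [← hn, hk, zpow_add, zpow_mul, zpow_one, h2, one_zpow, one_mul]

theorem C_le_N_Z (i : Fin 2) : CC v i ≤ normalizer (zpowers (v i) : Set G) :=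
  (CC_le_cent_zpowers i).trans (centralizer_le_normalizer _)

/-- elements of `C_G(v i) ∩ N(V i)` act trivially on `V i / ⟨v i⟩` -/
theorem comm_VN {i : Fin 2} {h e : G} (hv : h ∈ CC v i) (hU : h ∈ normalizer (V i : Set G)) (he : e ∈ V i) :
    e⁻¹ * h * e * h⁻¹ ∈ zpowers (v i) := by
  have he' : h * e * h⁻¹ ∈ V i := (mem_normalizer_iff.1 hU e).1 he
  have e0 : e⁻¹ * h * e * h⁻¹ = e⁻¹ * (h * e * h⁻¹) := by group
  rw [e0]
  have hv' := D.conj_v i hv
  by_cases h1 : e = 1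
  · rw [h1]; simp
  by_cases h2 : e = v i
  · rw [h2, hv', inv_mul_cancel]; exact one_mem _
  have h3 : h * e * h⁻¹ ≠ 1 := fun h => h1 (conj_eq_one_iff.1 h)
  have h4 : h * e * h⁻¹ ≠ v i := by
    intro h5
    apply h2
    rw [← hv'] at h5
    have h6 := congrArg (fun t => h⁻¹ * t * h) h5
    simpa [mul_assoc] using h6
  have hes : e⁻¹ = e := inv_eq_of_mul_eq_one_left (by rw [← pow_two]; exact D.sqV i e he)
  rcases D.eq_of_V he h1 (D.mem i) (D.ne i) h2 he' h3 with h5 | h5 | h5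
  · rw [h5, inv_mul_cancel]; exact one_mem _
  · exact absurd h5 h4
  · rw [h5, inv_mul_cancel_left]; exact mem_zpowers _

/-- **LEMMA X (918 #19487).** -/
theorem R_le_normalizer {i : Fin 2} {R : Subgroup G} (hRC : R ≤ CC v i) (hCR : CC v i ≤ normalizer (R : Set G))
    (hUR : ∀ r ∈ R, ∀ u ∈ V i, u⁻¹ * r * u * r⁻¹ ∈ EU T v i)
    (hT : ∀ n ∈ EU T v i, (∀ t ∈ T, n⁻¹ * t * n * t⁻¹ ∈ zpowers (v i)) → n ∈ zc T)
    (hR : ∀ n ∈ EU T v i, (∀ r ∈ R, n⁻¹ * r * n * r⁻¹ ∈ zpowers (v i)) → n ∈ zpowers (v i)) :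
    R ≤ normalizer (V i : Set G) := by
  have hij := ne_add_one i
  have hCZ := D.C_le_N_Z i
  have hvE : zpowers (v i) ≤ EU T v i := zpowers_le.2 (D.v_mem_E i i)
  have hEC : EU T v i ≤ CC v i := ((D.E_le_Q i).trans (D.Q_le_T i)).trans (D.T_le_C i)
  -- `M` : the elements of `P (i+1)` centralising `V i`
  set M := P (i + 1) ⊓ centralizer (V i : Set G) with hM
  have hMC : M ≤ CC v i := inf_le_right.trans (centralizer_le (Set.singleton_subset_iff.2 (D.mem i)))
  set H := T ⊔ M with hH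
  have hHC : H ≤ CC v i := sup_le (D.T_le_C i) hMC
  have hHU : H ≤ normalizer (V i : Set G) := sup_le (D.T_le_N i) (inf_le_right.trans (centralizer_le_normalizer _))
  have hodd : Odd ((R ⊓ T).relIndex R) := by
    rw [← Nat.not_even_iff_odd, even_iff_two_dvd]
    exact IId.Big.Red.odd_inf (D.T_le_C i) hRC ((D.T_le_C i).trans hCR) (ZN.ChoiceSit.syl_not_dvd (D.syl i))
  have hEsq : ∀ y ∈ EU T v i, y * y = 1 := by
    intro y hy
    have h1 := D.E_sq i y hy
    rwa [pow_two] at h1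
  have key : ∀ e ∈ V i, ∀ r ∈ R, e⁻¹ * r * e * r⁻¹ ∈ zpowers (v i) := by
    intro e he
    have heC : e ∈ CC v i := D.T_le_C i (D.V_le_T i he)
    refine OM.KTwo.LemX.comm (P := R ⊓ T) (H := H) (Y := EU T v i) inf_le_left hodd hvE (hRC.trans (D.C_le_N_E i))
      (hRC.trans hCZ) (hEC.trans hCZ) (fun y hy => by rw [hEsq y hy]; exact one_mem _) (hCZ heC)
      (fun r hr => hUR r hr e he) (fun p hp => ?_) (hHC.trans hCR) (hHC.trans (D.C_le_N_E i)) (hHC.trans hCZ)
      (fun h hh => ?_) hR ?_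
    · exact D.comm_VN (hRC hp.1) (D.T_le_N i hp.2) he
    · exact D.comm_VN (hHC hh) (hHU hh) he
    · intro y hy hyH
      have h1 := hT y hy fun t ht => hyH t (mem_sup_left ht)
      by_contra hyv
      -- `y = v_j` or `v_i v_j`
      have h2 : ∃ d ∈ zpowers (v i), y = v (i + 1) * d := by
        have hc : v 0 * v 1 = v 1 * v 0 := D.comm_v 1 (D.v_mem_T 0)
        rcases (D.zT y).1 h1 with h | h | h | h
        · exact absurd (h ▸ one_mem _) hyv
        · rcases Fin.exists_fin_two.1 ⟨i, rfl⟩ with hi | hi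
          · rw [hi, h] at hyv; exact absurd (mem_zpowers _) hyv
          · exact ⟨1, one_mem _, by rw [h, hi]; simp⟩
        · rcases Fin.exists_fin_two.1 ⟨i, rfl⟩ with hi | hi
          · exact ⟨1, one_mem _, by rw [h, hi]; simp⟩
          · rw [hi, h] at hyv; exact absurd (mem_zpowers _) hyv
        · rcases Fin.exists_fin_two.1 ⟨i, rfl⟩ with hi | hi
          · exact ⟨v 0, by rw [hi]; exact mem_zpowers _, by rw [h, hi, hc]; rfl⟩
          · exact ⟨v 1, by rw [hi]; exact mem_zpowers _, by rw [h, hi]; rfl⟩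
      obtain ⟨d, hd, hyd⟩ := h2
      -- an element of `M` moving `v_j`
      obtain ⟨w, hw, hw1, hwv⟩ := D.exists_ne_v (i + 1)
      obtain ⟨m, hmP, hmC, hmw⟩ := D.tr hij.symm hw hw1
      have hmM : m ∈ M := ⟨hmP, hmC⟩
      have h3 := hyH m (mem_sup_right hmM)
      have hmd : m * d * m⁻¹ = d := by
        obtain ⟨n, rfl⟩ := mem_zpowers_iff.1 hd
        rw [← conj_zpow, D.conj_v i (hMC hmM)]
      have h4 : y⁻¹ * m * y * m⁻¹ = d⁻¹ * ((v (i + 1))⁻¹ * w) * d := by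
        calc y⁻¹ * m * y * m⁻¹ = (v (i + 1) * d)⁻¹ * (m * v (i + 1) * m⁻¹) * (m * d * m⁻¹) := by rw [hyd]; group
          _ = d⁻¹ * ((v (i + 1))⁻¹ * w) * d := by rw [hmw, hmd]; group
      rw [h4] at h3
      have h5 : (v (i + 1))⁻¹ * w ∈ zpowers (v i) := by
        have := mul_mem (mul_mem hd h3) (inv_mem hd)
        have e5 : d * (d⁻¹ * ((v (i + 1))⁻¹ * w) * d) * d⁻¹ = (v (i + 1))⁻¹ * w := by group
        rwa [e5] at this
      have h6 : (v (i + 1))⁻¹ * w ∈ V (i + 1) := (V (i + 1)).mul_mem ((V (i + 1)).inv_mem (D.mem _)) hw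
      have h7 : (v (i + 1))⁻¹ * w ≠ 1 := fun h => hwv (inv_mul_eq_one.1 h).symm
      rcases D.mem_zpv h5 with h8 | h8
      · exact h7 h8
      · exact D.v_notin hij (h8 ▸ h6)
  -- conclusion
  intro r hr
  have hle : ∀ r ∈ R, ∀ e ∈ V i, r * e * r⁻¹ ∈ V i := by
    intro r hr e he
    have h1 := key e he r hr
    have h2 := mul_mem he ((zpowers_le.2 (D.mem i)) h1)
    have e2 : e * (e⁻¹ * r * e * r⁻¹) = r * e * r⁻¹ := by group
    rwa [e2] at h2
  rw [mem_normalizer_iff]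
  intro x
  refine ⟨fun hx => hle r hr x hx, fun hx => ?_⟩
  have h2 := hle r⁻¹ (inv_mem hr) _ hx
  have e : r⁻¹ * (r * x * r⁻¹) * r⁻¹⁻¹ = x := by group
  rwa [e] at h2

/-- **LEMMA X** over `Fr` -/
theorem lemX {i : Fin 2} {R : Subgroup G} (hRC : R ≤ CC v i) (hCR : CC v i ≤ normalizer (R : Set G))
    (hm : ¬ R ≤ centralizer (NU V v i : Set G))
    (hUR : ∀ r ∈ R, ∀ u ∈ V i, u⁻¹ * r * u * r⁻¹ ∈ EU T v i)
    (hT : ∀ n ∈ EU T v i, (∀ t ∈ T, n⁻¹ * t * n * t⁻¹ ∈ zpowers (v i)) → n ∈ zc T)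
    (hR : ∀ n ∈ EU T v i, (∀ r ∈ R, n⁻¹ * r * n * r⁻¹ ∈ zpowers (v i)) → n ∈ zpowers (v i)) : False := by
  have h1 := D.R_le_normalizer hRC hCR hUR hT hR
  refine D.comp i fun c hc => ?_
  obtain ⟨x, hx, d, hd, e⟩ := D.lem0 hRC hCR hm c⁻¹ (inv_mem hc)
  refine ⟨d⁻¹, inv_mem hd, x⁻¹, inv_mem (h1 hx), ?_⟩
  rw [← mul_inv_rev, ← e, inv_inv]

end Fr

end Cfsg.Agent.Omega.TC

end

section


/-!
# CARD #18791, [C] and [D] (helper918 #19487): the symplectic structure over `Fr` and the final step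

`HU V T i = ⟨V (i+1) ^ D⟩` (`D = C_G(zc T)`): the lines of `N_i` through `v (i+1)`.
`SpF T V v i r` : the consequences of section 0, (sp), for a transvection with centre `r` on `N_i`.

* `comm_V` : `[X, Q] ≤ B ⟹ [⟨X^C⟩, Q] ≤ B`;
* `Fr.comm_W_Q` : `[W_i, Q_i] ≤ ⟨v_i⟩`;
* `Fr.fin` : (2.4) / (3.5): the end of THEOREM C and of THEOREM D.
-/

set_option autoImplicit false
set_option linter.unusedSectionVars false

namespace Cfsg.Agent.Omega.TC

open Subgroup Cfsg Cfsg.Agent.ZN Cfsg.Agent.Omega.MinPar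
open Cfsg.Agent.Omega.OM.KTwo (CC QQ WU NU EU FF ne_add_one eq_add_one add_one_add_one le_normalizer_V le_V
  le_o2_of_commutator)
open Cfsg.Agent.Omega.NoFF.Basic (conj_conj mem_conj conj_le_iff conj_le_centralizer comm_symm comm_mono
  Z_le_V V_le conj_V_mul)
open Cfsg.Agent.Omega.NOThreeL.Pair (conj_eq_of_mem)
open Cfsg.Agent.MinSimple.VModule (mem_zc zc_le le_normalizer_o2 le_o2 o2_le o2_isPGroup)
open scoped Pointwise

universe u

variable {G : Type u} [Group G]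

/-- the lines of `N_i` through `v (i+1)` -/
def HU (V : Fin 2 → Subgroup G) (T : Subgroup G) (i : Fin 2) : Subgroup G :=
  NoFF.Basic.V (V (i + 1)) (centralizer (zc T : Set G))

/-- **section 0, (sp)**: `N_i / (N_i ∩ ⟨v_i⟩)` is a symplectic space, `C_i` induces its symplectic group, all its
nonzero vectors are points, `HU i` is the preimage of `v_(i+1)^⊥`, and the transvection with the centre `v_(i+1)` has
the centre `r` on `N_i`. -/
structure SpF (T : Subgroup G) (V : Fin 2 → Subgroup G) (v : Fin 2 → G) (i : Fin 2) (r : G) : Prop where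
  idx : (HU V T i).relIndex (NU V v i) = 2
  pts : ∀ n ∈ NU V v i, n ∉ zpowers (v i) → ∃ c ∈ CC v i, n = c * v (i + 1) * c⁻¹ ∨ n = c * v (i + 1) * c⁻¹ * v i
  cenH : ∀ x ∈ CC v i, x ∈ centralizer (HU V T i : Set G) → ∀ n ∈ NU V v i, n * x * n⁻¹ * x⁻¹ ∈ zpowers r
  Hcen : ∀ x ∈ CC v i, (∀ n ∈ NU V v i, n * x * n⁻¹ * x⁻¹ ∈ zpowers r) → x ∈ centralizer (HU V T i : Set G)
  rad : ∀ n ∈ NU V v i, (∀ c ∈ CC v i, n ∈ MulAut.conj c • HU V T i) → n ∈ zpowers (v i)
  inj : ∀ c ∈ CC v i, MulAut.conj c • HU V T i = HU V T i → c ∈ centralizer (zc T : Set G)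
  fixT : ∀ n ∈ EU T v i, (∀ t ∈ T, n⁻¹ * t * n * t⁻¹ ∈ zpowers (v i)) → n ∈ zc T

/-- `[X, Q] ≤ B ⟹ [⟨X^C⟩, Q] ≤ B` -/
theorem comm_V {X C B Q : Subgroup G} (hXC : X ≤ C) (hCB : C ≤ normalizer (B : Set G))
    (hCQ : C ≤ normalizer (Q : Set G)) (h : ∀ x ∈ X, ∀ q ∈ Q, x * q * x⁻¹ * q⁻¹ ∈ B) :
    ∀ x ∈ NoFF.Basic.V X C, ∀ q ∈ Q, x * q * x⁻¹ * q⁻¹ ∈ B := by
  let K : Subgroup G :=
    { carrier := {x | x ∈ C ∧ ∀ q ∈ Q, x * q * x⁻¹ * q⁻¹ ∈ B}
      one_mem' := ⟨one_mem _, fun q _ => by simp⟩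
      mul_mem' := by
        rintro x y ⟨hx, hx'⟩ ⟨hy, hy'⟩
        refine ⟨mul_mem hx hy, fun q hq => ?_⟩
        have e : x * y * q * (x * y)⁻¹ * q⁻¹ = (x * (y * q * y⁻¹ * q⁻¹) * x⁻¹) * (x * q * x⁻¹ * q⁻¹) := by group
        rw [e]
        exact mul_mem ((mem_normalizer_iff.1 (hCB hx) _).1 (hy' q hq)) (hx' q hq)
      inv_mem' := by
        rintro x ⟨hx, hx'⟩
        refine ⟨inv_mem hx, fun q hq => ?_⟩
        have e : x⁻¹ * q * x⁻¹⁻¹ * q⁻¹ = x⁻¹ * (x * q * x⁻¹ * q⁻¹)⁻¹ * x⁻¹⁻¹ := by group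
        rw [e]
        exact (mem_normalizer_iff.1 (hCB (inv_mem hx)) _).1 (inv_mem (hx' q hq)) }
  have hK : NoFF.Basic.V X C ≤ K := by
    refine V_le fun c hc y hy => ?_
    rw [mem_conj] at hy
    refine ⟨?_, fun q hq => ?_⟩
    · have := mul_mem (mul_mem hc (hXC hy)) (inv_mem hc)
      have e : c * (c⁻¹ * y * c) * c⁻¹ = y := by group
      rwa [e] at this
    · have h1 : c⁻¹ * q * c ∈ Q := by
        have := (mem_normalizer_iff.1 (hCQ (inv_mem hc)) q).1 hq
        rwa [inv_inv] at this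
      have h2 := (mem_normalizer_iff.1 (hCB hc) _).1 (h _ hy _ h1)
      have e : c * (c⁻¹ * y * c * (c⁻¹ * q * c) * (c⁻¹ * y * c)⁻¹ * (c⁻¹ * q * c)⁻¹) * c⁻¹ =
          y * q * y⁻¹ * q⁻¹ := by group
      rwa [e] at h2
  exact fun x hx => (hK hx).2

theorem comm_of_kp {x y : G} (h : x * y * x⁻¹ * y⁻¹ = 1) : x * y = y * x := by
  calc x * y = x * y * x⁻¹ * y⁻¹ * (y * x) := by group
    _ = y * x := by rw [h, one_mul]

theorem kp_of_comm {x y : G} (h : x * y = y * x) : x * y * x⁻¹ * y⁻¹ = 1 := by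
  rw [h]; group

/-- elements outside of a subgroup of index 2 -/
theorem mul_mem_of_idx {H N : Subgroup G} (h : H.relIndex N = 2) {a b : G} (ha : a ∈ N) (hb : b ∈ N) (ha' : a ∉ H)
    (hb' : b ∉ H) : a * b ∈ H := by
  have h8 : (⟨a, ha⟩ : N) * ⟨b, hb⟩ ∈ H.subgroupOf N := by
    rw [mul_mem_iff_of_index_two h]
    exact ⟨fun h2 => absurd h2 ha', fun h2 => absurd h2 hb'⟩
  exact h8

namespace Fr

variable [Finite G] {T : Subgroup G} {V P : Fin 2 → Subgroup G} {v : Fin 2 → G} (D : Fr T V P v)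

include D

theorem V_le_H (i : Fin 2) : V (i + 1) ≤ HU V T i := le_V _ _

theorem H_le_N (i : Fin 2) : HU V T i ≤ NU V v i := V_le fun _ hc => Z_le_V (D.cent_zc_le i hc)

theorem H_le_W (i : Fin 2) : HU V T i ≤ WU V v (i + 1) := V_le fun _ hc => Z_le_V (D.cent_zc_le (i + 1) hc)

/-- `[W_i, Q_i] ≤ ⟨v_i⟩` -/
theorem comm_W_Q (i : Fin 2) : ∀ w ∈ WU V v i, ∀ q ∈ QQ v i, w * q * w⁻¹ * q⁻¹ ∈ zpowers (v i) :=
  comm_V ((D.V_le_T i).trans (D.T_le_C i)) (D.C_le_N_Z i) (le_normalizer_o2 _)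
    fun _ hx _ hq => D.comm_VQ i hx (D.Q_le_T i hq)

/-- `E_i = N_i ⟨v i⟩` elementwise -/
theorem mem_E {i : Fin 2} {n : G} (hn : n ∈ EU T v i) : ∃ m ∈ NU V v i, ∃ w ∈ zpowers (v i), n = m * w :=
  OM.KTwo.exists_mul_of_mem_sup ((D.C_le_N_N i).trans' ((zpowers_le.2 (D.v_mem_T i)).trans (D.T_le_C i)))
    (D.E_le i hn)

/-- the elements of `N_j` which commute with `X`, `X` not centralising `N_j` but `HU j` -/
theorem mem_H {j : Fin 2} (hidx : (HU V T j).relIndex (NU V v j) = 2) {X : Subgroup G}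
    (hX : X ≤ centralizer (HU V T j : Set G)) (hne : ¬ X ≤ centralizer (NU V v j : Set G)) {n : G}
    (hn : n ∈ NU V v j) (h : ∀ x ∈ X, x * n = n * x) : n ∈ HU V T j := by
  by_contra hcon
  apply hne
  intro x hx
  rw [mem_centralizer_iff]
  intro y hy
  by_cases hyH : y ∈ HU V T j
  · exact mem_centralizer_iff.1 (hX hx) y hyH
  · have h1 := mul_mem_of_idx hidx hy hn hyH hcon
    have h2 : y * n * x = x * (y * n) := mem_centralizer_iff.1 (hX hx) _ h1
    have h3 := h x hx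
    calc y * x = y * n * x * x⁻¹ * (n⁻¹ * x) := by group
      _ = x * (y * n) * x⁻¹ * (n⁻¹ * x) := by rw [h2]
      _ = x * y * (n * x⁻¹ * n⁻¹ * x) := by group
      _ = x * y * (n * (x⁻¹ * n⁻¹) * x) := by group
      _ = x * y * (n * (n * x)⁻¹ * x) := by rw [mul_inv_rev]
      _ = x * y * (n * (x * n)⁻¹ * x) := by rw [h3]
      _ = x * y := by group

/-- **C_{N~}(R) = 1** for `R = ⟨X^{C_j}⟩`, `X` inducing transvections with the centre `r` -/
theorem fixR {j : Fin 2} {r : G} (S : SpF T V v j r) {X : Subgroup G} (hXC : X ≤ CC v j)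
    (hne : ¬ X ≤ centralizer (NU V v j : Set G)) (hr : ∀ n ∈ NU V v j, ∀ x ∈ X, n * x * n⁻¹ * x⁻¹ ∈ zpowers r)
    (hv : v j ∉ zpowers r) :
    ∀ n ∈ EU T v j, (∀ x ∈ NoFF.Basic.V X (CC v j), n⁻¹ * x * n * x⁻¹ ∈ zpowers (v j)) → n ∈ zpowers (v j) := by
  intro n hn hfix
  obtain ⟨m, hm, w, hw, rfl⟩ := D.mem_E hn
  refine mul_mem (S.rad m hm fun c hc => ?_) hw
  rw [mem_conj]
  have hm' : c⁻¹ * m * c ∈ NU V v j := by
    have := (mem_normalizer_iff.1 (D.C_le_N_N j (inv_mem hc)) m).1 hm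
    rwa [inv_inv] at this
  refine D.mem_H S.idx (fun x hx => S.Hcen x (hXC hx) fun n hn => hr n hn x hx) hne hm' fun x hx => ?_
  -- `x^c ∈ R`
  have h1 : c * x * c⁻¹ ∈ NoFF.Basic.V X (CC v j) := by
    apply Z_le_V hc
    rw [mem_conj]
    have e : c⁻¹ * (c * x * c⁻¹) * c = x := by group
    rwa [e]
  have h2 := hfix _ h1
  -- `w` is central in `C_j`
  have hwc : w * (c * x * c⁻¹) = c * x * c⁻¹ * w :=
    (mem_centralizer_iff.1 (CC_le_cent_zpowers j (mul_mem (mul_mem hc (hXC hx)) (inv_mem hc))) w hw)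
  have h3 : m⁻¹ * (c * x * c⁻¹) * m * (c * x * c⁻¹)⁻¹ ∈ zpowers (v j) := by
    have hmw : m * w = w * m := by
      have := mem_centralizer_iff.1 (CC_le_cent_zpowers j (D.N_le_C j j hm)) w hw
      exact this.symm
    have e : (m * w)⁻¹ * (c * x * c⁻¹) * (m * w) * (c * x * c⁻¹)⁻¹ = m⁻¹ * (c * x * c⁻¹) * m * (c * x * c⁻¹)⁻¹ := by
      calc (m * w)⁻¹ * (c * x * c⁻¹) * (m * w) * (c * x * c⁻¹)⁻¹
          = (m * w)⁻¹ * (c * x * c⁻¹) * (w * m) * (c * x * c⁻¹)⁻¹ := by rw [hmw]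
        _ = (m * w)⁻¹ * ((c * x * c⁻¹) * w) * m * (c * x * c⁻¹)⁻¹ := by group
        _ = (w * m)⁻¹ * (w * (c * x * c⁻¹)) * m * (c * x * c⁻¹)⁻¹ := by rw [hwc, hmw]
        _ = m⁻¹ * (c * x * c⁻¹) * m * (c * x * c⁻¹)⁻¹ := by group
    rwa [e] at h2
  -- it is also in `⟨r^c⟩`
  have h4 := hr _ (inv_mem hm') x hx
  have e4 : c * ((c⁻¹ * m * c)⁻¹ * x * (c⁻¹ * m * c)⁻¹⁻¹ * x⁻¹) * c⁻¹ = m⁻¹ * (c * x * c⁻¹) * m * (c * x * c⁻¹)⁻¹ := by
    group
  rw [← e4] at h3
  have h5 : (c⁻¹ * m * c)⁻¹ * x * (c⁻¹ * m * c)⁻¹⁻¹ * x⁻¹ ∈ zpowers (v j) := by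
    have := (mem_normalizer_iff.1 (D.C_le_N_Z j (inv_mem hc)) _).1 h3
    have e5 : c⁻¹ * (c * ((c⁻¹ * m * c)⁻¹ * x * (c⁻¹ * m * c)⁻¹⁻¹ * x⁻¹) * c⁻¹) * c⁻¹⁻¹ =
      (c⁻¹ * m * c)⁻¹ * x * (c⁻¹ * m * c)⁻¹⁻¹ * x⁻¹ := by group
    rwa [e5] at this
  have h6 : (c⁻¹ * m * c)⁻¹ * x * (c⁻¹ * m * c)⁻¹⁻¹ * x⁻¹ = 1 := by
    rcases D.mem_zpv h5 with h | h
    · exact h
    · exfalso
      apply hv
      rw [← h]
      exact h4
  have h7 := comm_of_kp h6
  -- `(m')⁻¹` commutes with `x`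
  have h8 : Commute x (c⁻¹ * m * c)⁻¹ := h7.symm
  have h9 := h8.inv_right
  rw [inv_inv] at h9
  exact h9.eq

/-- **the final step** ((2.4), (3.5)) -/
theorem fin {i j : Fin 2} {g ra rb : G} (hN1 : MulAut.conj g • NU V v i ≤ QQ v (j + 1))
    (hN2 : NU V v j ≤ MulAut.conj g • CC v i) (hW : WU V v j ≤ MulAut.conj g • CC v i)
    (hne : ¬ MulAut.conj g • NU V v i ≤ centralizer (NU V v j : Set G)) (Sa : SpF T V v i ra) (Sb : SpF T V v j rb)
    (hra : g * ra * g⁻¹ = rb) (hrN : rb ∈ NU V v j) (hrv : v j ∉ zpowers rb)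
    (hr : ∀ x ∈ MulAut.conj g • NU V v i, ∀ y ∈ NU V v j, x * y * x⁻¹ * y⁻¹ ∈ zpowers rb)
    (hv : v j ∉ MulAut.conj g • NU V v i) : False := by
  have hzr : MulAut.conj g • zpowers ra = zpowers rb := by
    rw [← hra]
    ext x
    rw [mem_conj, mem_zpowers_iff, mem_zpowers_iff]
    constructor
    · rintro ⟨n, hn⟩
      exact ⟨n, by rw [conj_zpow, hn]; group⟩
    · rintro ⟨n, hn⟩
      exact ⟨n, by rw [← hn, conj_zpow]; group⟩
  have hNaC : MulAut.conj g • NU V v i ≤ CC v j := hN1.trans ((D.Q_le_T _).trans (D.T_le_C j))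
  have hinv : ∀ {x y : G}, x * y * x⁻¹ * y⁻¹ ∈ zpowers rb → y * x * y⁻¹ * x⁻¹ ∈ zpowers rb := by
    intro x y h
    have := inv_mem h
    have e : (x * y * x⁻¹ * y⁻¹)⁻¹ = y * x * y⁻¹ * x⁻¹ := by group
    rwa [e] at this
  -- `H_a = HU_i^g` is centralised by `N_j`
  have hH1 : MulAut.conj g • HU V T i ≤ centralizer (NU V v j : Set G) := by
    refine comm_symm fun y hy => ?_
    have hy1 : g⁻¹ * y * g ∈ CC v i := by
      have := hN2 hy
      rwa [mem_conj] at this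
    have hy2 := Sa.Hcen _ hy1 fun n hn => ?_
    · rw [mem_centralizer_iff] at hy2 ⊢
      intro x hx
      rw [SetLike.mem_coe, mem_conj] at hx
      have h1 := hy2 _ hx
      have h2 := congrArg (fun t => g * t * g⁻¹) h1
      have e1 : g * (g⁻¹ * x * g * (g⁻¹ * y * g)) * g⁻¹ = x * y := by group
      have e2 : g * (g⁻¹ * y * g * (g⁻¹ * x * g)) * g⁻¹ = y * x := by group
      simp only [e1, e2] at h2
      exact h2
    · have h1 : g * n * g⁻¹ ∈ MulAut.conj g • NU V v i := by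
        rw [mem_conj]
        have e : g⁻¹ * (g * n * g⁻¹) * g = n := by group
        rwa [e]
      have h2 := hr _ h1 y hy
      rw [← hzr, mem_conj] at h2
      have e : g⁻¹ * (g * n * g⁻¹ * y * (g * n * g⁻¹)⁻¹ * y⁻¹) * g = n * (g⁻¹ * y * g) * n⁻¹ * (g⁻¹ * y * g)⁻¹ := by
        group
      rwa [e] at h2
  have hHN : MulAut.conj g • HU V T i ≤ MulAut.conj g • NU V v i := conj_le_iff.2 (D.H_le_N i)
  -- so `H_a ≤ Q_j`
  have hH2 : MulAut.conj g • HU V T i ≤ QQ v j :=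
    (le_inf ((hHN.trans hN1).trans (D.Q_le_o2D (j + 1))) hH1).trans (D.f3 j)
  -- `[W_j, H_a] = 1`
  have hWH : ∀ w ∈ WU V v j, ∀ x ∈ MulAut.conj g • HU V T i, w * x = x * w := by
    intro w hw x hx
    have h1 := D.comm_W_Q j w hw x (hH2 hx)
    rcases D.mem_zpv h1 with h | h
    · exact comm_of_kp h
    · exfalso
      apply hv
      rw [← h]
      have h2 : w * x * w⁻¹ ∈ MulAut.conj g • NU V v i := by
        have h3 : g⁻¹ * w * g ∈ CC v i := by
          have := hW hw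
          rwa [mem_conj] at this
        have h4 := hHN hx
        rw [mem_conj] at h4 ⊢
        have h5 := (mem_normalizer_iff.1 (D.C_le_N_N i h3) _).1 h4
        have e : g⁻¹ * w * g * (g⁻¹ * x * g) * (g⁻¹ * w * g)⁻¹ = g⁻¹ * (w * x * w⁻¹) * g := by group
        rwa [e] at h5
      exact mul_mem h2 (inv_mem (hHN hx))
  -- `[N_a, W_j] ≤ ⟨r⟩`
  have hNW : ∀ x ∈ MulAut.conj g • NU V v i, ∀ w ∈ WU V v j, x * w * x⁻¹ * w⁻¹ ∈ zpowers rb := by
    intro x hx w hw
    have h3 : g⁻¹ * w * g ∈ CC v i := by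
      have := hW hw
      rwa [mem_conj] at this
    have h4 : g⁻¹ * w * g ∈ centralizer (HU V T i : Set G) := by
      rw [mem_centralizer_iff]
      intro y hy
      have h5 : g * y * g⁻¹ ∈ MulAut.conj g • HU V T i := by
        rw [mem_conj]
        have e : g⁻¹ * (g * y * g⁻¹) * g = y := by group
        rwa [e]
      have h6 := hWH w hw _ h5
      have h7 := congrArg (fun t => g⁻¹ * t * g) h6
      have e1 : g⁻¹ * (w * (g * y * g⁻¹)) * g = g⁻¹ * w * g * y := by group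
      have e2 : g⁻¹ * (g * y * g⁻¹ * w) * g = y * (g⁻¹ * w * g) := by group
      simp only [e1, e2] at h7
      exact h7.symm
    rw [mem_conj] at hx
    have h5 := Sa.cenH _ h3 h4 _ hx
    rw [← hzr, mem_conj]
    have e : g⁻¹ * (x * w * x⁻¹ * w⁻¹) * g =
      g⁻¹ * x * g * (g⁻¹ * w * g) * (g⁻¹ * x * g)⁻¹ * (g⁻¹ * w * g)⁻¹ := by group
    rwa [e]
  -- LEMMA X
  set R := NoFF.Basic.V (MulAut.conj g • NU V v i) (CC v j) with hR
  have hRC : R ≤ CC v j := by
    refine V_le fun c hc => ?_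
    rw [← NoFF.Basic.conj_self hc]
    exact conj_le_iff.2 hNaC
  refine D.lemX (i := j) (R := R) hRC (le_normalizer_V _ _) (fun h => hne ((le_V _ _).trans h)) ?_ Sb.fixT
    (D.fixR Sb hNaC hne (fun n hn x hx => hinv (hr x hx n hn)) hrv)
  intro r hr' u hu
  have h1 := comm_V (B := NU V v j) (Q := WU V v j) hNaC (D.C_le_N_N j) (D.C_le_N_W j)
    (fun x hx w hw => (zpowers_le.2 hrN) (hNW x hx w hw)) r hr' u⁻¹ (inv_mem (D.V_le_W j hu))
  have e : u⁻¹ * r * u * r⁻¹ = (r * u⁻¹ * r⁻¹ * u⁻¹⁻¹)⁻¹ := by group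
  rw [e]
  exact D.N_le_E j (inv_mem h1)

end Fr

end Cfsg.Agent.Omega.TC

end

section


/-!
# CARD #18791 "(E) = TWO CENTRES", `q = 2`: (F3), (W) (paper: bb OMEGA #19727, helper148)

* `Fr.fThree` : **(F3)** an element `k` of `C_i` with `[W_i, k] ≤ ⟨v i⟩` centralises `N_i`;
* `Fr.lw` : **(W)** `[N_0, N_1] ≠ 1 ⇒ v (i+1) ∈ W_i` for some `i`, that is `N_i ≤ W_i`.
-/

set_option autoImplicit false
set_option linter.unusedSectionVars false

namespace Cfsg.Agent.Omega.TC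

open Subgroup Cfsg Cfsg.Agent.ZN Cfsg.Agent.Omega.MinPar
open Cfsg.Agent.Omega.OM.KTwo (CC QQ WU NU EU FF ne_add_one eq_add_one add_one_add_one le_normalizer_V le_V)
open Cfsg.Agent.Omega.NoFF.Basic (conj_conj mem_conj conj_le_iff conj_le_centralizer comm_symm comm_mono
  Z_le_V V_le conj_V_mul)
open Cfsg.Agent.MinSimple.VModule (mem_zc zc_le le_normalizer_o2 o2_le)
open scoped Pointwise

universe u

variable {G : Type u} [Group G]

theorem le_normalizer_of' {K X : Subgroup G} (h : ∀ k ∈ K, ∀ x ∈ X, k * x * k⁻¹ ∈ X) :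
    K ≤ normalizer (X : Set G) := by
  intro k hk
  rw [mem_normalizer_iff]
  intro x
  refine ⟨fun hx => h k hk x hx, fun hx => ?_⟩
  have h1 := h k⁻¹ (inv_mem hk) _ hx
  have e : k⁻¹ * (k * x * k⁻¹) * k⁻¹⁻¹ = x := by group
  rwa [e] at h1

namespace Fr

variable [Finite G] {T : Subgroup G} {V P : Fin 2 → Subgroup G} {v : Fin 2 → G} (D : Fr T V P v)

include D

theorem conj_zpowers_v (i : Fin 2) {c z : G} (hc : c ∈ CC v i) (hz : z ∈ zpowers (v i)) : c * z * c⁻¹ = z := by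
  obtain ⟨n, rfl⟩ := mem_zpowers_iff.1 hz
  have h1 : Commute c (v i) := mem_centralizer_singleton_iff.1 hc
  rw [(h1.zpow_right n).eq]
  group

/-- **(F3)**: `k ∈ C_i`, `[W_i, k] ≤ ⟨v i⟩` ⇒ `k` centralises `N_i`. -/
theorem fThree (i : Fin 2) {k : G} (hk : k ∈ CC v i)
    (h : ∀ w ∈ WU V v i, k * w * k⁻¹ * w⁻¹ ∈ zpowers (v i)) : k ∈ centralizer (NU V v i : Set G) := by
  let K : Subgroup G :=
    { carrier := {k | k ∈ CC v i ∧ ∀ w ∈ WU V v i, k * w * k⁻¹ * w⁻¹ ∈ zpowers (v i)}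
      one_mem' := ⟨one_mem _, fun w _ => by simp⟩
      mul_mem' := by
        rintro a b ⟨ha, ha'⟩ ⟨hb, hb'⟩
        refine ⟨mul_mem ha hb, fun w hw => ?_⟩
        have e : a * b * w * (a * b)⁻¹ * w⁻¹ = (a * (b * w * b⁻¹ * w⁻¹) * a⁻¹) * (a * w * a⁻¹ * w⁻¹) := by group
        rw [e, D.conj_zpowers_v i ha (hb' w hw)]
        exact mul_mem (hb' w hw) (ha' w hw)
      inv_mem' := by
        rintro a ⟨ha, ha'⟩
        refine ⟨inv_mem ha, fun w hw => ?_⟩
        have e : a⁻¹ * w * a⁻¹⁻¹ * w⁻¹ = a⁻¹ * (a * w * a⁻¹ * w⁻¹)⁻¹ * a⁻¹⁻¹ := by group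
        rw [e, D.conj_zpowers_v i (inv_mem ha) (inv_mem (ha' w hw))]
        exact inv_mem (ha' w hw) }
  have hKC : K ≤ CC v i := fun x hx => hx.1
  have hKn : CC v i ≤ normalizer (K : Set G) := by
    refine le_normalizer_of' fun c hc x hx => ⟨mul_mem (mul_mem hc hx.1) (inv_mem hc), fun w hw => ?_⟩
    have h1 : c⁻¹ * w * c ∈ WU V v i := by
      have := (mem_normalizer_iff.1 (D.C_le_N_W i (inv_mem hc)) w).1 hw
      rwa [inv_inv] at this
    have e : c * x * c⁻¹ * w * (c * x * c⁻¹)⁻¹ * w⁻¹ =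
        c * (x * (c⁻¹ * w * c) * x⁻¹ * (c⁻¹ * w * c)⁻¹) * c⁻¹ := by group
    rw [e, D.conj_zpowers_v i hc (hx.2 _ h1)]
    exact hx.2 _ h1
  have hKN : K ≤ normalizer (V i : Set G) := by
    refine le_normalizer_of' fun x hx y hy => ?_
    have h1 := hx.2 y (D.V_le_W i hy)
    have e : x * y * x⁻¹ = (x * y * x⁻¹ * y⁻¹) * y := by group
    rw [e]
    exact mul_mem (zpowers_le.2 (D.mem i) h1) hy
  have key : K ≤ centralizer (NU V v i : Set G) := by
    by_contra hcon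
    refine D.comp i fun c hc => ?_
    obtain ⟨x, hx, d, hd, e⟩ := D.lem0 hKC hKn hcon c⁻¹ (inv_mem hc)
    refine ⟨d⁻¹, inv_mem hd, x⁻¹, inv_mem (hKN hx), ?_⟩
    rw [← mul_inv_rev, ← e, inv_inv]
  exact key ⟨hk, h⟩

/-- an element of `C_i` centralising `W_i` centralises `N_i` -/
theorem cent_N_of_cent_W (i : Fin 2) {X : Subgroup G} (hX : X ≤ CC v i)
    (h : X ≤ centralizer (WU V v i : Set G)) : X ≤ centralizer (NU V v i : Set G) := by
  intro k hk
  refine D.fThree i (hX hk) fun w hw => ?_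
  have h1 := mem_centralizer_iff.1 (h hk) w hw
  have e : k * w * k⁻¹ * w⁻¹ = 1 := by rw [← h1]; group
  rw [e]
  exact one_mem _

/-- `N_i` is generated by the conjugates of `v (i+1)` -/
theorem N_le_of (i : Fin 2) {U : Subgroup G} (hv : v (i + 1) ∈ U) (hC : CC v i ≤ normalizer (U : Set G)) :
    NU V v i ≤ U := by
  refine V_le fun c hc w hw => ?_
  rw [mem_conj] at hw
  by_cases hw1 : w = 1
  · rw [hw1]; exact one_mem U
  have hw1' : c⁻¹ * w * c ≠ 1 := by
    intro h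
    apply hw1
    have h3 := congrArg (fun t => c * t * c⁻¹) h
    simpa [mul_assoc] using h3
  obtain ⟨l, hl, -, hlw⟩ := D.tr (ne_add_one i).symm hw hw1'
  have hlC : l ∈ CC v i := D.PC (i + 1) i (ne_add_one i).symm hl
  have h3 : w = (c * l) * v (i + 1) * (c * l)⁻¹ := by
    have e : (c * l) * v (i + 1) * (c * l)⁻¹ = c * (l * v (i + 1) * l⁻¹) * c⁻¹ := by group
    rw [e, hlw]; group
  rw [h3]
  exact (mem_normalizer_iff.1 (hC (mul_mem hc hlC)) _).1 hv

/-- `v (i+1) ∈ W_i ⇒ N_i ≤ W_i` -/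
theorem N_le_W (i : Fin 2) (h : v (i + 1) ∈ WU V v i) : NU V v i ≤ WU V v i := D.N_le_of i h (D.C_le_N_W i)

/-- `x ∈ T`-invariant subgroup `X` of exponent 2 fixed by `T` -/
theorem mem_zT {x : G} (hx : x ∈ T) (hx2 : x ^ 2 = 1) (hf : ∀ t ∈ T, t * x = x * t) :
    x = 1 ∨ x = v 0 ∨ x = v 1 ∨ x = v 0 * v 1 := (D.zT x).1 (mem_zc.2 ⟨hx, hf, hx2⟩)

/-- the same, seen from `i` -/
theorem mem_zT' (i : Fin 2) {x : G} (hx : x ∈ T) (hx2 : x ^ 2 = 1) (hf : ∀ t ∈ T, t * x = x * t) :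
    x = 1 ∨ x = v i ∨ x = v (i + 1) ∨ x = v i * v (i + 1) := by
  rcases Fin.exists_fin_two.1 ⟨i, rfl⟩ with h | h
  · rw [h]; exact D.mem_zT hx hx2 hf
  · rw [h]
    have e : (1 : Fin 2) + 1 = 0 := rfl
    rw [e, D.comm_v 0 (D.v_mem_T 1)]
    rcases D.mem_zT hx hx2 hf with h | h | h | h
    · exact Or.inl h
    · exact Or.inr (Or.inr (Or.inl h))
    · exact Or.inr (Or.inl h)
    · exact Or.inr (Or.inr (Or.inr h))

/-- **(W)**: `[N_0, N_1] ≠ 1` ⇒ `v 1 ∈ W_0` or `v 0 ∈ W_1`. -/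
theorem lw (h : ¬ NU V v 0 ≤ centralizer (NU V v 1 : Set G)) : ∃ i : Fin 2, v (i + 1) ∈ WU V v i := by
  by_contra hcon
  push Not at hcon
  -- the `T`-fixed elements of `W_i`
  have hfix : ∀ i : Fin 2, ∀ x ∈ WU V v i, (∀ t ∈ T, t * x = x * t) → x = 1 ∨ x = v i := by
    intro i x hx hf
    rcases D.mem_zT' i (D.W_le_T i hx) (D.W_sq i x hx) hf with h1 | h1 | h1 | h1
    · exact Or.inl h1
    · exact Or.inr h1
    · exact absurd (h1 ▸ hx) (hcon i)
    · exfalso
      apply hcon i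
      have h2 : v (i + 1) = (v i)⁻¹ * x := by rw [h1]; group
      rw [h2]
      exact mul_mem (inv_mem (D.V_le_W i (D.mem i))) hx
  have hI : WU V v 0 ⊓ WU V v 1 = ⊥ := by
    by_contra hne
    obtain ⟨x, hx, hx1, hxT⟩ := NoFF.LinesPlug.exists_fixed (S := T) (N := WU V v 0 ⊓ WU V v 1) D.T_isPGroup
      (inf_le_left.trans (D.W_le_T 0)) (Cfsg.Agent.Omega.NO3L.LemP.le_normalizer_inf
        ((D.T_le_C 0).trans (D.C_le_N_W 0)) ((D.T_le_C 1).trans (D.C_le_N_W 1))) hne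
    have h0 := (hfix 0 x hx.1 hxT).resolve_left hx1
    have h1 := (hfix 1 x hx.2 hxT).resolve_left hx1
    apply hcon 0
    have e : (0 : Fin 2) + 1 = 1 := rfl
    rw [e, ← h1]
    exact hx.1
  have hWW : WU V v 1 ≤ centralizer (WU V v 0 : Set G) := by
    intro y hy
    rw [mem_centralizer_iff]
    intro x hx'
    have hx : x ∈ WU V v 0 := hx'
    have h1 : x * y * x⁻¹ * y⁻¹ ∈ WU V v 0 ⊓ WU V v 1 := by
      constructor
      · have h2 := (mem_normalizer_iff.1 (D.C_le_N_W 0 (D.W_le_C 1 0 hy)) _).1 ((WU V v 0).inv_mem hx)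
        have e : x * y * x⁻¹ * y⁻¹ = x * (y * x⁻¹ * y⁻¹) := by group
        rw [e]
        exact mul_mem hx h2
      · exact (WU V v 1).mul_mem ((mem_normalizer_iff.1 (D.C_le_N_W 1 (D.W_le_C 0 1 hx)) _).1 hy)
          ((WU V v 1).inv_mem hy)
    rw [hI, mem_bot] at h1
    calc x * y = (x * y * x⁻¹ * y⁻¹) * (y * x) := by group
      _ = y * x := by rw [h1, one_mul]
  -- `W_1` centralises `N_0`, so `N_0` centralises `W_1`, so `N_0` centralises `N_1`
  have h1 : WU V v 1 ≤ centralizer (NU V v 0 : Set G) := D.cent_N_of_cent_W 0 (D.W_le_C 1 0) hWW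
  exact h (D.cent_N_of_cent_W 1 (D.N_le_C 0 1) (comm_symm h1))

end Fr

end Cfsg.Agent.Omega.TC

end

section


/-!
# CARD #18791 "(E) = TWO CENTRES", `q = 2`: helper915 #19412, LEMMA T0

`sn B C` : the smallest subnormal subgroup of `C` containing `B` (the limit of the iterated normal closures);
`sn_eq_of_normal` : `B ≤ A ⊴ C ⟹ sn B C = sn B A`; `conj_sn`; `V_sn` : `sn B C = ⟨B ^ sn B C⟩`;
`le_o2_of_subnormal` : a 2-subgroup normal in `sn B C` lies in `O₂(C)`.

* `Fr.t0'` : **(T0')** `B` normalised by `C_i`, `B ≤ C_j`, `[B, W_j] = 1` ⟹ `X = sn B C_j` is normalised by `C_i` and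
  centralises `N_i`;
* `Fr.t0` : **LEMMA T0** `[N_i, W_j] = 1 ⟹ [N_i, N_j] = 1`;
* `Fr.t0_rad` : the radical case `v_i ∈ N_i`: `B ∩ Q_i ≤ Q_j`.
-/

set_option autoImplicit false
set_option linter.unusedSectionVars false

namespace Cfsg.Agent.Omega.TC

open Subgroup Cfsg Cfsg.Agent.ZN Cfsg.Agent.Omega.MinPar
open Cfsg.Agent.Omega.OM.KTwo (CC QQ WU NU EU FF ne_add_one eq_add_one add_one_add_one le_normalizer_V le_V)
open Cfsg.Agent.Omega.NoFF.Basic (conj_conj mem_conj conj_le_iff conj_le_centralizer comm_symm comm_mono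
  Z_le_V V_le conj_V_mul)
open Cfsg.Agent.Omega.NOThreeL.Pair (conj_eq_of_mem)
open Cfsg.Agent.MinSimple.VModule (mem_zc zc_le le_normalizer_o2 le_o2 o2_le o2_isPGroup)
open scoped Pointwise

universe u

variable {G : Type u} [Group G]

section sn

/-- iterated normal closures -/
def sS (B C : Subgroup G) : ℕ → Subgroup G
  | 0 => C
  | k + 1 => NoFF.Basic.V B (sS B C k)

theorem le_sS {B C : Subgroup G} (h : B ≤ C) : ∀ k, B ≤ sS B C k
  | 0 => h
  | _ + 1 => le_V _ _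

theorem V_mono {B C C' : Subgroup G} (h : C ≤ C') : NoFF.Basic.V B C ≤ NoFF.Basic.V B C' :=
  V_le fun _ hc => Z_le_V (h hc)

theorem V_le_self {B C : Subgroup G} (h : B ≤ C) : NoFF.Basic.V B C ≤ C :=
  V_le fun c hc => by
    have h1 := conj_le_iff (g := c).2 h
    rwa [NoFF.Basic.conj_self hc] at h1

theorem sS_succ_le {B C : Subgroup G} (h : B ≤ C) (k : ℕ) : sS B C (k + 1) ≤ sS B C k :=
  V_le_self (le_sS h k)

theorem sS_anti {B C : Subgroup G} (h : B ≤ C) {k l : ℕ} (hkl : k ≤ l) : sS B C l ≤ sS B C k := by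
  induction hkl with
  | refl => exact le_rfl
  | step _ ih => exact (sS_succ_le h _).trans ih

theorem sS_mono {B C C' : Subgroup G} (h : C ≤ C') : ∀ k, sS B C k ≤ sS B C' k
  | 0 => h
  | k + 1 => V_mono (sS_mono h k)

theorem sS_le_of_normal {B A C : Subgroup G} (hBA : B ≤ A) (hn : C ≤ normalizer (A : Set G)) :
    ∀ k, sS B C (k + 1) ≤ sS B A k
  | 0 => V_le fun c hc => by
      have h1 := conj_eq_of_mem (hn hc)
      rw [show sS B A 0 = A from rfl, ← h1]
      exact conj_le_iff.2 hBA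
  | k + 1 => V_mono (sS_le_of_normal hBA hn k)

theorem conj_V (g : G) (B C : Subgroup G) :
    MulAut.conj g • NoFF.Basic.V B C = NoFF.Basic.V (MulAut.conj g • B) (MulAut.conj g • C) := by
  have key : ∀ (g : G) (B C : Subgroup G),
      NoFF.Basic.V (MulAut.conj g • B) (MulAut.conj g • C) ≤ MulAut.conj g • NoFF.Basic.V B C := by
    intro g B C
    refine V_le fun c hc => ?_
    rw [mem_conj] at hc
    have h1 := conj_le_iff (g := g).2 (Z_le_V (Z := B) hc)
    rw [conj_conj] at h1 ⊢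
    have e : g * (g⁻¹ * c * g) = c * g := by group
    rwa [e] at h1
  refine le_antisymm ?_ (key g B C)
  have h1 := key g⁻¹ (MulAut.conj g • B) (MulAut.conj g • C)
  rw [conj_conj, conj_conj, inv_mul_cancel, map_one, one_smul, one_smul] at h1
  have h2 := conj_le_iff (g := g).2 h1
  rwa [conj_conj, mul_inv_cancel, map_one, one_smul] at h2

theorem conj_sS (g : G) (B C : Subgroup G) :
    ∀ k, MulAut.conj g • sS B C k = sS (MulAut.conj g • B) (MulAut.conj g • C) k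
  | 0 => rfl
  | k + 1 => by
    rw [show sS B C (k + 1) = NoFF.Basic.V B (sS B C k) from rfl, conj_V, conj_sS g B C k]
    rfl

/-- the smallest subnormal subgroup of `C` containing `B` -/
def sn (B C : Subgroup G) : Subgroup G := ⨅ k, sS B C k

theorem le_sn {B C : Subgroup G} (h : B ≤ C) : B ≤ sn B C := le_iInf (le_sS h)

theorem sn_le_sS (B C : Subgroup G) (k : ℕ) : sn B C ≤ sS B C k := iInf_le _ k

theorem sn_le (B C : Subgroup G) : sn B C ≤ C := sn_le_sS B C 0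

theorem sn_eq_of_normal {B A C : Subgroup G} (hBA : B ≤ A) (hAC : A ≤ C) (hn : C ≤ normalizer (A : Set G)) :
    sn B C = sn B A :=
  le_antisymm (le_iInf fun k => (sn_le_sS B C (k + 1)).trans (sS_le_of_normal hBA hn k))
    (le_iInf fun k => (sn_le_sS B A k).trans (sS_mono hAC k))

theorem conj_sn (g : G) (B C : Subgroup G) :
    MulAut.conj g • sn B C = sn (MulAut.conj g • B) (MulAut.conj g • C) := by
  apply le_antisymm
  · refine le_iInf fun k => ?_
    rw [← conj_sS]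
    exact conj_le_iff.2 (sn_le_sS B C k)
  · have h1 : MulAut.conj g⁻¹ • sn (MulAut.conj g • B) (MulAut.conj g • C) ≤ sn B C := by
      refine le_iInf fun k => ?_
      have h2 := conj_le_iff (g := g⁻¹).2 (sn_le_sS (MulAut.conj g • B) (MulAut.conj g • C) k)
      rw [← conj_sS, conj_conj, inv_mul_cancel, map_one, one_smul] at h2
      exact h2
    have h2 := conj_le_iff (g := g).2 h1
    rwa [conj_conj, mul_inv_cancel, map_one, one_smul] at h2

variable [Finite G]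

/-- the chain becomes stationary -/
theorem exists_sn {B C : Subgroup G} (h : B ≤ C) : ∃ k, sn B C = sS B C k := by
  obtain ⟨k, hk⟩ : ∃ k, ∀ l, Nat.card (sS B C k) ≤ Nat.card (sS B C l) := by
    classical
    have hne : (Set.range fun k => Nat.card (sS B C k)).Nonempty := Set.range_nonempty _
    obtain ⟨k, hk⟩ := WellFounded.min_mem (wellFounded_lt (α := ℕ)) _ hne
    refine ⟨k, fun l => ?_⟩
    have := WellFounded.not_lt_min (wellFounded_lt (α := ℕ)) (Set.range fun k => Nat.card (sS B C k)) ⟨l, rfl⟩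
    simp only at hk
    rw [hk]
    exact not_lt.1 this
  refine ⟨k, le_antisymm (sn_le_sS B C k) (le_iInf fun l => ?_)⟩
  rcases le_total k l with hkl | hlk
  · have h1 := sS_anti h hkl
    exact (Subgroup.eq_of_le_of_card_ge h1 (hk l)).ge
  · exact sS_anti h hlk

theorem V_sn {B C : Subgroup G} (h : B ≤ C) : NoFF.Basic.V B (sn B C) = sn B C := by
  apply le_antisymm (V_le_self (le_sn h))
  obtain ⟨k, hk⟩ := exists_sn h
  calc sn B C ≤ sS B C (k + 1) := sn_le_sS B C (k + 1)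
    _ = NoFF.Basic.V B (sn B C) := by rw [hk]; rfl

theorem o2_le_o2_of_normal {A C : Subgroup G} (hAC : A ≤ C) (hn : C ≤ normalizer (A : Set G)) : o2 A ≤ o2 C := by
  refine le_o2 ((o2_le A).trans hAC) (o2_isPGroup A) ?_
  exact hn.trans (Cfsg.Agent.Omega.normalizer_le_normalizer_o2' A)

/-- a normal 2-subgroup of `sn B C` lies in `O₂(C)` -/
theorem le_o2_of_subnormal {B C X : Subgroup G} (h : B ≤ C) (hX : X ≤ sn B C) (hX2 : IsPGroup 2 X)
    (hXn : sn B C ≤ normalizer (X : Set G)) : X ≤ o2 C := by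
  obtain ⟨k, hk⟩ := exists_sn h
  have h1 : X ≤ o2 (sS B C k) := by
    rw [← hk]
    exact le_o2 hX hX2 hXn
  have h2 : ∀ k, o2 (sS B C k) ≤ o2 C := by
    intro k
    induction k with
    | zero => exact le_rfl
    | succ k ih =>
      refine le_trans (o2_le_o2_of_normal (sS_succ_le h k) ?_) ih
      exact le_normalizer_V _ _
  exact h1.trans (h2 k)

end sn

namespace Fr

variable [Finite G] {T : Subgroup G} {V P : Fin 2 → Subgroup G} {v : Fin 2 → G} (D : Fr T V P v)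

include D

/-- **(T0')** of #19412. -/
theorem t0' {i j : Fin 2} (hij : i ≠ j) {B : Subgroup G} (hn : CC v i ≤ normalizer (B : Set G))
    (hBC : B ≤ CC v j) (hBW : B ≤ centralizer (WU V v j : Set G)) :
    CC v i ≤ normalizer (sn B (CC v j) : Set G) ∧ sn B (CC v j) ≤ centralizer (NU V v i : Set G) := by
  have hj := eq_add_one hij
  -- `M_j = ⟨B ^ C_j⟩` centralises `W_j`
  set M : Subgroup G := NoFF.Basic.V B (CC v j) with hM
  have hMC : M ≤ CC v j := V_le_self hBC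
  have hMn : CC v j ≤ normalizer (M : Set G) := le_normalizer_V _ _
  have hMW : M ≤ centralizer (WU V v j : Set G) := V_le fun c hc => by
    have h1 := conj_le_centralizer (g := c) hBW
    rwa [conj_eq_of_mem (D.C_le_N_W j hc)] at h1
  have hMV : M ≤ centralizer (V j : Set G) := hMW.trans (centralizer_le (D.V_le_W j))
  have hBM : B ≤ M := le_V _ _
  have hX : sn B (CC v j) = sn B M := sn_eq_of_normal hBM hMC hMn
  have hP : P j ≤ normalizer (sn B (CC v j) : Set G) := by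
    intro x hx
    have hxC : x ∈ CC v i := D.PC j i hij.symm hx
    have hxB : MulAut.conj x • B = B := conj_eq_of_mem (hn hxC)
    have hxV : MulAut.conj x • V j = V j := conj_eq_of_mem (D.PN j j hx)
    set M' : Subgroup G := MulAut.conj x • M with hM'
    have hM'V : M' ≤ centralizer (V j : Set G) := by
      have h1 := conj_le_centralizer (g := x) hMV
      rwa [hxV] at h1
    have hVC : centralizer (V j : Set G) ≤ CC v j :=
      centralizer_le (Set.singleton_subset_iff.2 (D.mem j))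
    have hVC' : centralizer (V j : Set G) ≤ MulAut.conj x • CC v j := by
      intro c hc
      rw [mem_conj]
      rw [mem_centralizer_singleton_iff]
      have h1 : x * v j * x⁻¹ ∈ V j := (mem_normalizer_iff.1 (D.PN j j hx) _).1 (D.mem j)
      have h2 : (x * v j * x⁻¹) * c = c * (x * v j * x⁻¹) := mem_centralizer_iff.1 hc _ h1
      calc x⁻¹ * c * x * v j = x⁻¹ * (c * (x * v j * x⁻¹)) * x := by group
        _ = x⁻¹ * ((x * v j * x⁻¹) * c) * x := by rw [h2]
        _ = v j * (x⁻¹ * c * x) := by group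
    have hM'n : MulAut.conj x • CC v j ≤ normalizer (M' : Set G) := by
      have h1 : MulAut.conj x • CC v j ≤ MulAut.conj x • normalizer (M : Set G) := conj_le_iff.2 hMn
      exact h1.trans (Cfsg.Agent.Omega.NoFF.Main.normalizer_conj _ _).ge
    have hBM' : B ≤ M' := by
      rw [← hxB]
      exact conj_le_iff.2 hBM
    have hMM' : M ⊔ M' ≤ normalizer (M : Set G) :=
      sup_le le_normalizer ((hM'V.trans hVC).trans hMn)
    have hM'M : M ⊔ M' ≤ normalizer (M' : Set G) :=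
      sup_le ((hMV.trans hVC').trans hM'n) le_normalizer
    have e1 : sn B (M ⊔ M') = sn B M := sn_eq_of_normal hBM le_sup_left hMM'
    have e2 : sn B (M ⊔ M') = sn B M' := sn_eq_of_normal hBM' le_sup_right hM'M
    have e3 : MulAut.conj x • sn B (CC v j) = sn B (CC v j) := by
      rw [hX, conj_sn, hxB, ← hM', ← e2, e1]
    exact ChoiceBase.mem_normalizer_iff_cj.2 e3
  have hDn : centralizer (zc T : Set G) ≤ normalizer (sn B (CC v j) : Set G) := by
    intro d hd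
    have h1 : MulAut.conj d • B = B := conj_eq_of_mem (hn (D.cent_zc_le i hd))
    have h2 : MulAut.conj d • CC v j = CC v j := D.conj_CC (D.cent_zc_le j hd)
    have e3 : MulAut.conj d • sn B (CC v j) = sn B (CC v j) := by rw [conj_sn, h1, h2]
    exact ChoiceBase.mem_normalizer_iff_cj.2 e3
  have hC : CC v i ≤ normalizer (sn B (CC v j) : Set G) := (D.gen hij.symm).trans (sup_le hP hDn)
  refine ⟨hC, ?_⟩
  -- `v j` is central in `X`
  refine comm_symm (V_le fun c hc => ?_)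
  rw [← hj]
  intro w hw
  rw [mem_conj] at hw
  by_cases hw1 : w = 1
  · rw [hw1]; exact one_mem _
  have hw1' : c⁻¹ * w * c ≠ 1 := by
    intro h'
    apply hw1
    have h3 := congrArg (fun t => c * t * c⁻¹) h'
    simpa [mul_assoc] using h3
  obtain ⟨l, hl, -, hlw⟩ := D.tr hij.symm hw hw1'
  have hlC : l ∈ CC v i := D.PC j i hij.symm hl
  have h0 : v j ∈ centralizer (sn B (CC v j) : Set G) := by
    rw [mem_centralizer_iff]
    intro y hy
    exact mem_centralizer_singleton_iff.1 (sn_le _ _ hy)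
  have h1 : (c * l) * v j * (c * l)⁻¹ ∈ centralizer (sn B (CC v j) : Set G) := by
    rw [mem_centralizer_iff]
    intro y hy
    have h2 : (c * l)⁻¹ * y * (c * l)⁻¹⁻¹ ∈ sn B (CC v j) :=
      (mem_normalizer_iff.1 (hC (inv_mem (mul_mem hc hlC))) y).1 hy
    have h3 := mem_centralizer_iff.1 h0 _ h2
    calc y * (c * l * v j * (c * l)⁻¹) = (c * l) * (((c * l)⁻¹ * y * (c * l)⁻¹⁻¹) * v j) * (c * l)⁻¹ := by group
      _ = (c * l) * (v j * ((c * l)⁻¹ * y * (c * l)⁻¹⁻¹)) * (c * l)⁻¹ := by rw [h3]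
      _ = (c * l * v j * (c * l)⁻¹) * y := by group
  have e : (c * l) * v j * (c * l)⁻¹ = c * (l * v j * l⁻¹) * c⁻¹ := by group
  rw [e, hlw] at h1
  have e2 : c * (c⁻¹ * w * c) * c⁻¹ = w := by group
  rwa [e2] at h1

/-- **LEMMA T0** (#19412): `[N_i, W_j] = 1` implies `[N_i, N_j] = 1`, even `N_i ≤ Q_j`. -/
theorem t0_le {i j : Fin 2} (hij : i ≠ j) (h : NU V v i ≤ centralizer (WU V v j : Set G)) : NU V v i ≤ QQ v j := by
  have hj := eq_add_one hij
  obtain ⟨hn, hc⟩ := D.t0' hij (D.C_le_N_N i) (D.N_le_C i j) h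
  have hX : NU V v i ≤ sn (NU V v i) (CC v j) := le_sn (D.N_le_C i j)
  have e : sn (NU V v i) (CC v j) = NU V v i := by
    apply le_antisymm _ hX
    rw [← V_sn (D.N_le_C i j)]
    refine V_le fun c hc' => ?_
    have h1 : c ∈ normalizer (NU V v i : Set G) := centralizer_le_normalizer _ (hc hc')
    rw [conj_eq_of_mem h1]
  refine le_o2_of_subnormal (D.N_le_C i j) (by rw [e]) (D.T_isPGroup.to_le (D.N_le_T i)) ?_
  rw [e]
  exact le_normalizer

/-- **LEMMA T0** (#19412): `[N_i, W_j] = 1` implies `[N_i, N_j] = 1`. -/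
theorem t0 {i j : Fin 2} (hij : i ≠ j) (h : NU V v i ≤ centralizer (WU V v j : Set G)) :
    NU V v i ≤ centralizer (NU V v j : Set G) := (D.t0_le hij h).trans (D.Q_le_cent_N j)

/-- LEMMA T0, contrapositive: `d = 1` implies `[N_i, W_j] ≠ 1`. -/
theorem not_NW {i j : Fin 2} (hij : i ≠ j) (h : ¬ NU V v 0 ≤ centralizer (NU V v 1 : Set G)) :
    ¬ NU V v i ≤ centralizer (WU V v j : Set G) := by
  intro h1
  apply h
  have h2 := D.t0 hij h1
  rcases Fin.exists_fin_two.1 ⟨i, rfl⟩ with hi | hi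
  · have hj : j = 1 := by rw [eq_add_one hij, hi]; rfl
    rw [hi, hj] at h2
    exact h2
  · have hj : j = 0 := by rw [eq_add_one hij, hi]; rfl
    rw [hi, hj] at h2
    exact comm_symm h2

/-- (T0'), radical case `v_i ∈ N_i`: `B ∩ Q_i ≤ Q_j`. -/
theorem t0_rad {i j : Fin 2} (hij : i ≠ j) (hr : v i ∈ NU V v i) {B : Subgroup G}
    (hn : CC v i ≤ normalizer (B : Set G)) (hBC : B ≤ CC v j)
    (hBW : B ≤ centralizer (WU V v j : Set G)) : B ⊓ QQ v i ≤ QQ v j := by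
  obtain ⟨hC, hc⟩ := D.t0' hij hn hBC hBW
  have hXC : sn B (CC v j) ≤ CC v i := by
    intro x hx
    rw [mem_centralizer_singleton_iff]
    exact (mem_centralizer_iff.1 (hc hx) _ hr).symm
  have h1 : sn B (CC v j) ⊓ QQ v i ≤ o2 (CC v j) := by
    refine le_o2_of_subnormal hBC inf_le_left (D.T_isPGroup.to_le (inf_le_right.trans (D.Q_le_T i))) ?_
    intro x hx
    have ha : x ∈ normalizer (sn B (CC v j) : Set G) := le_normalizer hx
    have hb : x ∈ normalizer (QQ v i : Set G) := le_normalizer_o2 _ (hXC hx)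
    rw [mem_normalizer_iff] at ha hb ⊢
    intro y
    exact ⟨fun hy => ⟨(ha y).1 hy.1, (hb y).1 hy.2⟩, fun hy => ⟨(ha y).2 hy.1, (hb y).2 hy.2⟩⟩
  exact (inf_le_inf_right _ (le_sn hBC)).trans h1

/-- the same with `X = sn B C_j`. -/
theorem t0_rad_sn {i j : Fin 2} (hij : i ≠ j) (hr : v i ∈ NU V v i) {B : Subgroup G}
    (hn : CC v i ≤ normalizer (B : Set G)) (hBC : B ≤ CC v j)
    (hBW : B ≤ centralizer (WU V v j : Set G)) : sn B (CC v j) ≤ CC v i ∧ sn B (CC v j) ⊓ QQ v i ≤ QQ v j := by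
  obtain ⟨hC, hc⟩ := D.t0' hij hn hBC hBW
  have hXC : sn B (CC v j) ≤ CC v i := by
    intro x hx
    rw [mem_centralizer_singleton_iff]
    exact (mem_centralizer_iff.1 (hc hx) _ hr).symm
  refine ⟨hXC, ?_⟩
  refine le_o2_of_subnormal hBC inf_le_left (D.T_isPGroup.to_le (inf_le_right.trans (D.Q_le_T i))) ?_
  intro x hx
  have ha : x ∈ normalizer (sn B (CC v j) : Set G) := le_normalizer hx
  have hb : x ∈ normalizer (QQ v i : Set G) := le_normalizer_o2 _ (hXC hx)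
  rw [mem_normalizer_iff] at ha hb ⊢
  intro y
  exact ⟨fun hy => ⟨(ha y).1 hy.1, (hb y).1 hy.2⟩, fun hy => ⟨(ha y).2 hy.1, (hb y).2 hy.2⟩⟩

end Fr

end Cfsg.Agent.Omega.TC

end

section


/-!
# CARD #18791 "(E) = TWO CENTRES", `q = 2`: helper830 #20100 (1), LEMMA SUB

`X := sn B C_j` = the smallest subnormal subgroup of `C_j` containing `B`.

* `Fr.sub'` : `B` normalised by `C_i`, `B ≤ C_j`, `[sn B C_j, V_j] = 1` ⟹ `sn B C_j` is normalised by `C_i` and
  centralises `N_i`;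
* `Fr.sub` : **LEMMA SUB** `[sn N_i C_j, V_j] = 1 ⟹ [N_i, N_j] = 1`, even `N_i ≤ Q_j`;
* `Fr.sub_V` : the same with `⟨N_i ^ C_j⟩`.
-/

set_option autoImplicit false
set_option linter.unusedSectionVars false

namespace Cfsg.Agent.Omega.TC

open Subgroup Cfsg Cfsg.Agent.ZN Cfsg.Agent.Omega.MinPar
open Cfsg.Agent.Omega.OM.KTwo (CC QQ WU NU EU FF ne_add_one eq_add_one add_one_add_one le_normalizer_V le_V)
open Cfsg.Agent.Omega.NoFF.Basic (conj_conj mem_conj conj_le_iff conj_le_centralizer comm_symm comm_mono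
  Z_le_V V_le conj_V_mul)
open Cfsg.Agent.Omega.NOThreeL.Pair (conj_eq_of_mem)
open Cfsg.Agent.MinSimple.VModule (mem_zc zc_le le_normalizer_o2 le_o2 o2_le o2_isPGroup)
open scoped Pointwise

universe u

variable {G : Type u} [Group G]

/-- `sn B (sn B C) = sn B C` -/
theorem sn_sn [Finite G] {B C : Subgroup G} (h : B ≤ C) : sn B (sn B C) = sn B C := by
  refine le_antisymm (sn_le _ _) (le_iInf fun k => ?_)
  induction k with
  | zero => exact le_rfl
  | succ k ih =>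
    calc sn B C = NoFF.Basic.V B (sn B C) := (V_sn h).symm
      _ ≤ NoFF.Basic.V B (sS B (sn B C) k) := V_mono ih
      _ = sS B (sn B C) (k + 1) := rfl

theorem sn_mono {B C C' : Subgroup G} (h : C ≤ C') : sn B C ≤ sn B C' :=
  le_iInf fun k => (sn_le_sS B C k).trans (sS_mono h k)

namespace Fr

variable [Finite G] {T : Subgroup G} {V P : Fin 2 → Subgroup G} {v : Fin 2 → G} (D : Fr T V P v)

include D

/-- `B` normalised by `C_i`, `B ≤ C_j`, `[sn B C_j, V_j] = 1`: then `C_i` normalises `sn B C_j`. -/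
theorem sub' {i j : Fin 2} (hij : i ≠ j) {B : Subgroup G} (hn : CC v i ≤ normalizer (B : Set G))
    (hBC : B ≤ CC v j) (hV : sn B (CC v j) ≤ centralizer (V j : Set G)) :
    CC v i ≤ normalizer (sn B (CC v j) : Set G) ∧ sn B (CC v j) ≤ centralizer (NU V v i : Set G) := by
  have hj := eq_add_one hij
  have hP : P j ≤ normalizer (sn B (CC v j) : Set G) := by
    intro x hx
    have hxC : x ∈ CC v i := D.PC j i hij.symm hx
    have hxB : MulAut.conj x • B = B := conj_eq_of_mem (hn hxC)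
    have hVC' : centralizer (V j : Set G) ≤ MulAut.conj x • CC v j := by
      intro c hc
      rw [mem_conj]
      rw [mem_centralizer_singleton_iff]
      have h1 : x * v j * x⁻¹ ∈ V j := (mem_normalizer_iff.1 (D.PN j j hx) _).1 (D.mem j)
      have h2 : (x * v j * x⁻¹) * c = c * (x * v j * x⁻¹) := mem_centralizer_iff.1 hc _ h1
      calc x⁻¹ * c * x * v j = x⁻¹ * (c * (x * v j * x⁻¹)) * x := by group
        _ = x⁻¹ * ((x * v j * x⁻¹) * c) * x := by rw [h2]
        _ = v j * (x⁻¹ * c * x) := by group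
    have h1 : sn B (CC v j) ≤ MulAut.conj x • sn B (CC v j) := by
      rw [conj_sn, hxB, ← sn_sn hBC]
      exact sn_mono (hV.trans hVC')
    have h2 : sn B (CC v j) = MulAut.conj x • sn B (CC v j) := by
      refine Subgroup.eq_of_le_of_card_ge h1 (le_of_eq ?_)
      exact (Nat.card_congr (Subgroup.equivSMul (MulAut.conj x) (sn B (CC v j))).toEquiv).symm
    exact ChoiceBase.mem_normalizer_iff_cj.2 h2.symm
  have hDn : centralizer (zc T : Set G) ≤ normalizer (sn B (CC v j) : Set G) := by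
    intro d hd
    have h1 : MulAut.conj d • B = B := conj_eq_of_mem (hn (D.cent_zc_le i hd))
    have h2 : MulAut.conj d • CC v j = CC v j := D.conj_CC (D.cent_zc_le j hd)
    have e3 : MulAut.conj d • sn B (CC v j) = sn B (CC v j) := by rw [conj_sn, h1, h2]
    exact ChoiceBase.mem_normalizer_iff_cj.2 e3
  have hC : CC v i ≤ normalizer (sn B (CC v j) : Set G) := (D.gen hij.symm).trans (sup_le hP hDn)
  refine ⟨hC, ?_⟩
  -- `v j` is central in `X`
  have h0 := D.cent_N_of_le (i := i) (X := sn B (CC v j)) (by rw [← hj]; exact sn_le _ _) hC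
  exact h0

/-- **LEMMA SUB** (#20100 (1)): `[sn N_i C_j, V_j] = 1` implies `N_i ≤ Q_j`. -/
theorem sub_le {i j : Fin 2} (hij : i ≠ j) (hV : sn (NU V v i) (CC v j) ≤ centralizer (V j : Set G)) :
    NU V v i ≤ QQ v j := by
  obtain ⟨hn, hc⟩ := D.sub' hij (D.C_le_N_N i) (D.N_le_C i j) hV
  have hX : NU V v i ≤ sn (NU V v i) (CC v j) := le_sn (D.N_le_C i j)
  refine le_o2_of_subnormal (D.N_le_C i j) hX (D.T_isPGroup.to_le (D.N_le_T i)) ?_
  exact hc.trans (centralizer_le_normalizer _)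

/-- **LEMMA SUB** (#20100 (1)): `[N_i, N_j] ≠ 1` implies `[sn N_i C_j, V_j] ≠ 1`. -/
theorem sub {i j : Fin 2} (hij : i ≠ j) (h : ¬ NU V v i ≤ centralizer (NU V v j : Set G)) :
    ¬ sn (NU V v i) (CC v j) ≤ centralizer (V j : Set G) := fun h1 =>
  h ((D.sub_le hij h1).trans (D.Q_le_cent_N j))

/-- LEMMA SUB for the normal closure `M_j = ⟨N_i ^ C_j⟩`: `[M_j, V_j] ≠ 1`. -/
theorem sub_V {i j : Fin 2} (hij : i ≠ j) (h : ¬ NU V v i ≤ centralizer (NU V v j : Set G)) :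
    ¬ NoFF.Basic.V (NU V v i) (CC v j) ≤ centralizer (V j : Set G) := fun h1 =>
  D.sub hij h ((sn_le_sS _ _ 1).trans h1)

/-- the symmetric form of `[N_0, N_1] ≠ 1` -/
theorem not_comm {i j : Fin 2} (hij : i ≠ j) (h : ¬ NU V v 0 ≤ centralizer (NU V v 1 : Set G)) :
    ¬ NU V v i ≤ centralizer (NU V v j : Set G) := by
  intro h2
  apply h
  rcases Fin.exists_fin_two.1 ⟨i, rfl⟩ with hi | hi
  · have hj : j = 1 := by rw [eq_add_one hij, hi]; rfl
    rw [hi, hj] at h2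
    exact h2
  · have hj : j = 0 := by rw [eq_add_one hij, hi]; rfl
    rw [hi, hj] at h2
    exact comm_symm h2

end Fr

end Cfsg.Agent.Omega.TC

end

section


/-!
# THEOREM WD (CARD #18791, item (h); #20661): the dichotomy for exact families, (NO) for elementary abelian groups only

`X` acts faithfully on the elementary abelian 2-group `U`; `pt` the points, `adj` collinearity (lines
`{1, p, q, p q}`), `W p` the subgroup generated by the lines on `p`, `A p ≤ O₂(C_X(p))` an equivariant family of exact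
quadratic elementary abelian groups which centralise `W p` and are generated by atoms.

* `Sit` : the situation;
* `Sit.main` : **some line `{1, p, q, p q}` has `q ∈ [U, A_p]`, or an atom of some `A_p` consists of transvections with
  centre `p`**.

No lattice of non-abelian groups, no D8 trick.
-/

set_option autoImplicit false

namespace Cfsg.Agent.Omega.TC.WD

open Subgroup Cfsg Cfsg.Agent.ZN Cfsg.Agent.ClassTwoFusion.Quad
open Cfsg.Agent.Omega.NOThree.NoOver (card_mul_le)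
open Cfsg.Agent.ZN.ChoiceBase (cj mem_cj cj_mono cj_one cj_cj cj_inv_cj cj_cj_inv cj_le_iff card_cj
  mem_normalizer_iff_cj mem_normalizer_of_cj_le cj_normalizer)
open Cfsg.Agent.MinSimple.VModule (o2_isPGroup o2_le le_o2 le_normalizer_o2)

variable {X : Type*} [Group X] {U : Type*} [Group U] [MulDistribMulAction X U]

/-! ### 2-groups acting on `K / Y` -/

theorem exists_fixed_mod [Finite U] {P : Subgroup X} (hP : IsPGroup 2 P) (two : ∀ m : U, m * m = 1)
    {K Y : Subgroup U} (hX : ∀ g ∈ P, ∀ m ∈ K, g • m ∈ K) (hY : ∀ g ∈ P, ∀ m ∈ Y, g • m ∈ Y)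
    (hne : ∃ m ∈ K, m ∉ Y) : ∃ m ∈ K, m ∉ Y ∧ ∀ g ∈ P, (g • m) * m⁻¹ ∈ Y := by
  classical
  have : Fact (Nat.Prime 2) := ⟨Nat.prime_two⟩
  have hcomm : ∀ a b : U, a * b = b * a := by
    intro a b
    have hi : ∀ u : U, u⁻¹ = u := fun u => (eq_inv_of_mul_eq_one_left (two u)).symm
    have h2 : a * b = (a * b)⁻¹ := eq_inv_of_mul_eq_one_left (two (a * b))
    rw [mul_inv_rev, hi, hi] at h2
    exact h2
  have hnor : (Y.subgroupOf K).Normal := ⟨fun n hn g => by
    rw [mem_subgroupOf] at hn ⊢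
    have : ((g * n * g⁻¹ : K) : U) = n := by
      push_cast
      rw [hcomm (g : U) n, mul_inv_cancel_right]
    rw [this]
    exact hn⟩
  let Q := K ⧸ Y.subgroupOf K
  let f : P → K →* K := fun g =>
    { toFun := fun m => ⟨(g : X) • (m : U), hX g g.2 m m.2⟩
      map_one' := Subtype.ext (smul_one _)
      map_mul' := fun a b => Subtype.ext (smul_mul' _ _ _) }
  let iA : MulAction P Q :=
    { smul := fun g => QuotientGroup.map (Y.subgroupOf K) (Y.subgroupOf K) (f g) (fun m hm => by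
        rw [mem_comap, mem_subgroupOf]
        exact hY g g.2 _ (mem_subgroupOf.mp hm))
      one_smul := fun q => by
        induction q using QuotientGroup.induction_on with
        | H z =>
          change QuotientGroup.mk (f 1 z) = QuotientGroup.mk z
          congr 1
          exact Subtype.ext (one_smul X (z : U))
      mul_smul := fun g g' q => by
        induction q using QuotientGroup.induction_on with
        | H z =>
          change QuotientGroup.mk (f (g * g') z) = QuotientGroup.mk (f g (f g' z))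
          congr 1
          exact Subtype.ext (mul_smul (g : X) (g' : X) (z : U)) }
  have hsm : ∀ (g : P) (z : K), g • (QuotientGroup.mk z : Q) = QuotientGroup.mk (f g z) := fun _ _ => rfl
  have hfix := hP.card_modEq_card_fixedPoints (α := Q)
  obtain ⟨m, hm, hmY⟩ := hne
  have hcard : 2 ∣ Nat.card Q := by
    have h2 : orderOf (QuotientGroup.mk (⟨m, hm⟩ : K) : Q) = 2 := by
      refine orderOf_eq_prime ?_ ?_
      · rw [pow_two, ← QuotientGroup.mk_mul]
        have : (⟨m, hm⟩ : K) * ⟨m, hm⟩ = 1 := Subtype.ext (two m)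
        rw [this]; rfl
      · intro h
        rw [QuotientGroup.eq_one_iff, mem_subgroupOf] at h
        exact hmY h
    rw [← h2]
    exact orderOf_dvd_natCard _
  have h1 : (1 : Q) ∈ MulAction.fixedPoints P Q := by
    intro g
    have : (1 : Q) = QuotientGroup.mk 1 := rfl
    rw [this, hsm, map_one]
  have h2 : 2 ∣ Nat.card (MulAction.fixedPoints P Q) := by
    have := (Nat.modEq_zero_iff_dvd.2 hcard).symm.trans hfix
    exact Nat.modEq_zero_iff_dvd.1 this.symm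
  have : Nontrivial (MulAction.fixedPoints P Q) := by
    rw [← Finite.one_lt_card_iff_nontrivial]
    have h3 : 0 < Nat.card (MulAction.fixedPoints P Q) := by
      have : Nonempty (MulAction.fixedPoints P Q) := ⟨⟨1, h1⟩⟩
      exact Nat.card_pos
    exact lt_of_lt_of_le one_lt_two (Nat.le_of_dvd h3 h2)
  obtain ⟨⟨q, hq⟩, hq1⟩ := exists_ne (⟨1, h1⟩ : MulAction.fixedPoints P Q)
  induction q using QuotientGroup.induction_on with
  | H z =>
    refine ⟨z, z.2, fun hz => hq1 (Subtype.ext ?_), fun g hg => ?_⟩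
    · change (QuotientGroup.mk z : Q) = 1
      rw [QuotientGroup.eq_one_iff, mem_subgroupOf]
      exact hz
    · have h3 := hq ⟨g, hg⟩
      rw [hsm] at h3
      have h4 : (QuotientGroup.mk (f ⟨g, hg⟩ z * z⁻¹) : Q) = 1 := by
        rw [QuotientGroup.mk_mul, h3, ← QuotientGroup.mk_mul, mul_inv_cancel, QuotientGroup.mk_one]
      rw [QuotientGroup.eq_one_iff, mem_subgroupOf] at h4
      exact h4

/-! ### Definitions -/

/-- `[U, B]` -/
def br (B : Subgroup X) : Subgroup U := closure {z | ∃ b ∈ B, ∃ u : U, z = b • u * u⁻¹}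

variable (U) in
/-- `|B| |C_U(B)| = |U|` -/
def Ex (B : Subgroup X) : Prop := Nat.card B * Nat.card (cv U (B : Set X)) = Nat.card U

variable (U) in
/-- minimal exact subgroups -/
structure Atom (B : Subgroup X) : Prop where
  ne : B ≠ ⊥
  ex : Ex U B
  min : ∀ C < B, Ex U C → C = ⊥

theorem mem_br {B : Subgroup X} {b : X} (hb : b ∈ B) (u : U) : b • u * u⁻¹ ∈ br (U := U) B :=
  subset_closure ⟨b, hb, u, rfl⟩

theorem smul_br {B : Subgroup X} (g : X) {z : U} (hz : z ∈ br (U := U) B) : g • z ∈ br (U := U) (cj g B) := by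
  unfold br at hz
  induction hz using closure_induction with
  | mem z hz =>
    obtain ⟨b, hb, u, rfl⟩ := hz
    have h1 : g * b * g⁻¹ ∈ cj g B := by
      rw [mem_cj]
      have : g⁻¹ * (g * b * g⁻¹) * g = b := by group
      rwa [this]
    have h2 := mem_br (U := U) h1 (g • u)
    have h3 : (g * b * g⁻¹) • g • u = g • b • u := by
      rw [← mul_smul, ← mul_smul]
      congr 1
      group
    rw [h3] at h2
    rw [smul_mul', smul_inv']
    exact h2
  | one => rw [smul_one]; exact one_mem _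
  | mul x y _ _ hx hy => rw [smul_mul']; exact mul_mem hx hy
  | inv x _ hx => rw [smul_inv']; exact inv_mem hx

theorem br_le {B : Subgroup X} {Y : Subgroup U} (h : ∀ b ∈ B, ∀ u : U, b • u * u⁻¹ ∈ Y) : br B ≤ Y := by
  unfold br
  rw [closure_le]
  rintro _ ⟨b, hb, u, rfl⟩
  exact h b hb u

/-- the common part of the situation (nothing about fixed points of 2-groups) -/
structure Core (X : Type*) [Group X] {U : Type*} [Group U] [MulDistribMulAction X U] (pt : Set U)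
    (adj : U → U → Prop) (W : U → Subgroup U) (A : U → Subgroup X) : Prop where
  sq : ∀ u : U, u * u = 1
  faith : ∀ g : X, (∀ u : U, g • u = u) → g = 1
  pt_ne : ∀ p ∈ pt, p ≠ 1
  trans : ∀ p ∈ pt, ∀ q ∈ pt, ∃ g : X, g • p = q
  adj_pt : ∀ p q, adj p q → p ∈ pt ∧ q ∈ pt
  adj_symm : ∀ p q, adj p q → adj q p
  adj_smul : ∀ (g : X) (p q : U), adj p q → adj (g • p) (g • q)
  adj_mul : ∀ p q, adj p q → adj p (p * q)
  W_eq : ∀ p ∈ pt, W p = closure ({p} ∪ {q | adj p q})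
  A_smul : ∀ (g : X), ∀ p ∈ pt, A (g • p) = cj g (A p)
  A_le : ∀ p ∈ pt, A p ≤ o2 (MulAction.stabilizer X p)
  A_sq : ∀ p ∈ pt, ∀ a ∈ A p, a * a = 1
  A_ex : ∀ p ∈ pt, Ex U (A p)
  A_quad : ∀ p ∈ pt, ∀ a ∈ A p, ∀ b ∈ A p, ∀ u : U, b • (a • u * u⁻¹) = a • u * u⁻¹
  A_W : ∀ p ∈ pt, ∀ a ∈ A p, ∀ w ∈ W p, a • w = w
  A_ne : ∀ p ∈ pt, A p ≠ ⊥
  atm : ∀ p ∈ pt, ∀ w : U, (∀ B ≤ A p, Atom U B → ∀ b ∈ B, b • w = w) → ∀ a ∈ A p, a • w = w
  no1 : ∀ p ∈ pt, ∀ B ≤ o2 (MulAction.stabilizer X p), (∀ b ∈ B, b * b = 1) →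
    Nat.card B * Nat.card (cv U (B : Set X)) ≤ Nat.card U
  no2 : ∀ p q, adj p q → ∀ B ≤ o2 (MulAction.stabilizer X q), B ≤ MulAction.stabilizer X p →
    (∀ b ∈ B, b * b = 1) → ∀ K ≤ B, (∀ b ∈ B, (∀ w ∈ W p, b • w = w ∨ b • w = w * p) → b ∈ K) →
    ∀ C : Subgroup U, C ≤ W p → (∀ w ∈ C, ∀ b ∈ B, b • w = w) →
    Nat.card B * Nat.card C ≤ Nat.card K * Nat.card (W p)
  conn : ∀ Δ : Set U, Δ ⊆ pt → Δ.Nonempty → (∀ p ∈ Δ, ∀ q, adj p q → q ∈ Δ) → pt ⊆ Δ
  span : closure pt = (⊤ : Subgroup U)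
  pt_nonempty : pt.Nonempty

/-- **The situation.** -/
structure Sit (X : Type*) [Group X] {U : Type*} [Group U] [MulDistribMulAction X U] (pt : Set U)
    (adj : U → U → Prop) (W : U → Subgroup U) (A : U → Subgroup X) : Prop extends Core X pt adj W A where
  Wq : ∀ q ∈ pt, ∀ τ ∈ o2 (MulAction.stabilizer X q), ∀ w ∈ W q, τ • w = w ∨ τ • w = w * q
  mv : ∀ p q, adj p q → ∃ τ ∈ o2 (MulAction.stabilizer X q), τ • p = p * q
  fixS : ∀ p ∈ pt, ∃ S : Subgroup X, IsPGroup 2 S ∧ S ≤ MulAction.stabilizer X p ∧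
    ∀ u : U, (∀ s ∈ S, s • u = u) → u = 1 ∨ u = p
  fixL : ∀ p q, adj p q → ∃ S : Subgroup X, IsPGroup 2 S ∧ S ≤ MulAction.stabilizer X p ∧
    S ≤ MulAction.stabilizer X q ∧ (∀ τ ∈ o2 (MulAction.stabilizer X q), ∀ s ∈ S, τ * s * τ⁻¹ ∈ S) ∧
    ∀ u : U, (∀ s ∈ S, s • u = u) → u = 1 ∨ u = p ∨ u = q ∨ u = p * q

namespace Core

variable {pt : Set U} {adj : U → U → Prop} {W : U → Subgroup U} {A : U → Subgroup X} (h : Core X pt adj W A)
include h

theorem inv_eq (u : U) : u⁻¹ = u := (eq_inv_of_mul_eq_one_left (h.sq u)).symm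

theorem comm (u v : U) : u * v = v * u := by
  have h1 := h.sq (u * v)
  have h2 : u * v = (u * v)⁻¹ := eq_inv_of_mul_eq_one_left h1
  rw [mul_inv_rev, h.inv_eq, h.inv_eq] at h2
  exact h2

theorem pt_smul (g : X) {p : U} (hp : ∃ q, adj p q) : g • p ∈ pt := by
  obtain ⟨q, hq⟩ := hp
  exact (h.adj_pt _ _ (h.adj_smul g p q hq)).1

theorem adj_ne {p q : U} (hpq : adj p q) : p ≠ q := by
  rintro rfl
  have h1 := (h.adj_pt _ _ (h.adj_mul _ _ hpq)).2
  exact h.pt_ne _ h1 (h.sq p)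

theorem mem_W_self {p : U} (hp : p ∈ pt) : p ∈ W p := by
  rw [h.W_eq p hp]
  exact subset_closure (Or.inl rfl)

theorem mem_W {p q : U} (hpq : adj p q) : q ∈ W p := by
  rw [h.W_eq p (h.adj_pt _ _ hpq).1]
  exact subset_closure (Or.inr hpq)

/-- `W` is equivariant -/
theorem smul_W (g : X) {p : U} (hp : p ∈ pt) (hgp : g • p ∈ pt) {w : U} (hw : w ∈ W p) : g • w ∈ W (g • p) := by
  rw [h.W_eq p hp] at hw
  induction hw using closure_induction with
  | mem z hz =>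
    rcases hz with hz | hz
    · rw [Set.mem_singleton_iff] at hz
      rw [hz]
      exact h.mem_W_self hgp
    · exact h.mem_W (h.adj_smul g p z hz)
  | one => rw [smul_one]; exact one_mem _
  | mul x y _ _ hx hy => rw [smul_mul']; exact mul_mem hx hy
  | inv x _ hx => rw [smul_inv']; exact inv_mem hx

theorem smul_W' {g : X} {p : U} (hp : p ∈ pt) (hg : g • p = p) {w : U} (hw : w ∈ W p) : g • w ∈ W p := by
  have h1 := h.smul_W g hp (by rwa [hg]) hw
  rwa [hg] at h1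

/-- stabilisers normalise `A p` -/
theorem conj_A {g : X} {p : U} (hp : p ∈ pt) (hg : g • p = p) {a : X} (ha : a ∈ A p) : g * a * g⁻¹ ∈ A p := by
  have h1 := h.A_smul g p hp
  rw [hg] at h1
  rw [h1, mem_cj]
  have : g⁻¹ * (g * a * g⁻¹) * g = a := by group
  rwa [this]

theorem conj_A' (g : X) {p : U} (hp : p ∈ pt) {a : X} (ha : a ∈ A p) : g * a * g⁻¹ ∈ A (g • p) := by
  rw [h.A_smul g p hp, mem_cj]
  have : g⁻¹ * (g * a * g⁻¹) * g = a := by group
  rwa [this]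

/-- `R(p) = [U, A_p]` is equivariant -/
theorem smul_R (g : X) {p : U} (hp : p ∈ pt) {z : U} (hz : z ∈ br (U := U) (A p)) :
    g • z ∈ br (U := U) (A (g • p)) := by
  rw [h.A_smul g p hp]
  exact smul_br g hz

theorem smul_R' {g : X} {p : U} (hp : p ∈ pt) (hg : g • p = p) {z : U} (hz : z ∈ br (U := U) (A p)) :
    g • z ∈ br (U := U) (A p) := by
  have h1 := h.smul_R g hp hz
  rwa [hg] at h1

theorem A_stab {p : U} (hp : p ∈ pt) {a : X} (ha : a ∈ A p) : a • p = p :=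
  h.A_W p hp a ha p (h.mem_W_self hp)

/-- `A_p` centralises `R(p)` -/
theorem A_R {p : U} (hp : p ∈ pt) {b : X} (hb : b ∈ A p) {z : U} (hz : z ∈ br (U := U) (A p)) : b • z = z := by
  have h1 : br (U := U) (A p) ≤ cv U ({b} : Set X) :=
    br_le fun a ha u => mem_cv_singleton.2 (h.A_quad p hp a ha b hb u)
  exact mem_cv_singleton.1 (h1 hz)

theorem br_ne [Finite U] {p : U} (hp : p ∈ pt) : ∃ z ∈ br (U := U) (A p), z ≠ 1 := by
  obtain ⟨a, ha1⟩ := Subgroup.ne_bot_iff_exists_ne_one.1 (h.A_ne p hp)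
  by_contra hcon
  push Not at hcon
  apply ha1
  apply Subtype.ext
  refine h.faith _ fun u => ?_
  have h1 := hcon _ (mem_br a.2 u)
  rwa [mul_inv_eq_one] at h1

omit h in
/-- counting: `B` acts on `W` with commutators in `{1, p}` -/
theorem pairing [Finite X] [Finite U] (sq : ∀ u : U, u * u = 1) {Y : Subgroup U} {p : U} :
    ∀ (n : ℕ) (B K : Subgroup X), Nat.card B = n → (∀ b ∈ B, b * b = 1) →
      (∀ b ∈ B, ∀ w ∈ Y, b • w = w ∨ b • w = w * p) → (∀ b ∈ B, b • p = p) → K ≤ B →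
      (∀ b ∈ B, b ∈ K ↔ ∀ w ∈ Y, b • w = w) → ∀ C : Subgroup U, (∀ w, w ∈ C ↔ w ∈ Y ∧ ∀ b ∈ B, b • w = w) →
      Nat.card B * Nat.card C ≤ Nat.card K * Nat.card Y := by
  intro n
  induction n using Nat.strong_induction_on with
  | _ n ih =>
    intro B K hn hB hBW hBp hKB hK C hC
    by_cases hall : ∀ b ∈ B, ∀ w ∈ Y, b • w = w
    · have h1 : K = B := le_antisymm hKB fun b hb => (hK b hb).2 (hall b hb)
      have h2 : C ≤ Y := fun w hw => ((hC w).1 hw).1
      rw [h1]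
      exact Nat.mul_le_mul_left _ (card_le_of_le h2)
    push Not at hall
    obtain ⟨b₀, hb₀, w₀, hw₀, hne⟩ := hall
    have hb₀w : b₀ • w₀ = w₀ * p := (hBW b₀ hb₀ w₀ hw₀).resolve_left hne
    let B' : Subgroup X := B ⊓ MulAction.stabilizer X w₀
    have hlt : B' < B := by
      refine lt_of_le_of_ne inf_le_left fun h1 => hne ?_
      rw [← h1] at hb₀
      exact MulAction.mem_stabilizer_iff.1 hb₀.2
    let C' : Subgroup U := Y ⊓ cv U (B' : Set X)
    have hcard : Nat.card B' < n := by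
      rw [← hn]
      exact Set.ncard_lt_ncard (s := (B' : Set X)) (t := (B : Set X)) (SetLike.coe_ssubset_coe.2 hlt) (Set.toFinite _)
    have key := ih (Nat.card B') hcard B' K rfl (fun b hb => hB b hb.1) (fun b hb => hBW b hb.1)
      (fun b hb => hBp b hb.1) (fun b hb => ⟨hKB hb, MulAction.mem_stabilizer_iff.2 ((hK b (hKB hb)).1 hb w₀ hw₀)⟩)
      (fun b hb => hK b hb.1) C' (fun w => Iff.rfl)
    -- `|B| ≤ 2 |B'|`
    have h2 : Nat.card B ≤ 2 * Nat.card B' := by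
      have hx : ∀ b ∈ B, b ∈ B' ∨ b₀ * b ∈ B' := by
        intro b hb
        rcases hBW b hb w₀ hw₀ with h1 | h1
        · exact Or.inl ⟨hb, MulAction.mem_stabilizer_iff.2 h1⟩
        · right
          refine ⟨mul_mem hb₀ hb, MulAction.mem_stabilizer_iff.2 ?_⟩
          rw [mul_smul, h1, smul_mul', hb₀w, hBp b₀ hb₀, mul_assoc, sq, mul_one]
      have h3 : (B : Set X) ⊆ (B' : Set X) ∪ (fun x => b₀⁻¹ * x) '' (B' : Set X) := by
        intro b hb
        rcases hx b hb with h1 | h1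
        · exact Or.inl h1
        · exact Or.inr ⟨_, h1, by simp⟩
      have h4 := Set.ncard_le_ncard h3 (Set.toFinite _)
      have h5 := Set.ncard_union_le (B' : Set X) ((fun x => b₀⁻¹ * x) '' (B' : Set X))
      have h6 : ((fun x => b₀⁻¹ * x) '' (B' : Set X)).ncard ≤ (B' : Set X).ncard := Set.ncard_image_le (Set.toFinite _)
      have h7 : Nat.card B = (B : Set X).ncard := rfl
      have h8 : Nat.card B' = (B' : Set X).ncard := rfl
      omega
    -- `2 |C| ≤ |C'|`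
    have h3 : 2 * Nat.card C ≤ Nat.card C' := by
      have hle : C ≤ C' := fun w hw => ⟨((hC w).1 hw).1, fun b hb => ((hC w).1 hw).2 b hb.1⟩
      have hne' : C ≠ C' := by
        intro h1
        have h4 : w₀ ∈ C' := ⟨hw₀, fun b hb => MulAction.mem_stabilizer_iff.1 hb.2⟩
        rw [← h1] at h4
        exact hne (((hC w₀).1 h4).2 b₀ hb₀)
      have h4 : Nat.card C ∣ Nat.card C' := card_dvd_of_le hle
      obtain ⟨k, hk⟩ := h4
      have h5 : k ≠ 1 := by
        rintro rfl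
        rw [mul_one] at hk
        exact hne' (eq_of_le_of_card_ge hle hk.le)
      have h6 : 0 < Nat.card C' := Nat.card_pos
      have h7 : k ≠ 0 := by
        rintro rfl
        rw [mul_zero] at hk
        omega
      rw [hk, mul_comm]
      exact Nat.mul_le_mul_left _ (by omega)
    calc Nat.card B * Nat.card C ≤ 2 * Nat.card B' * Nat.card C := Nat.mul_le_mul_right _ h2
      _ = Nat.card B' * (2 * Nat.card C) := by ring
      _ ≤ Nat.card B' * Nat.card C' := Nat.mul_le_mul_left _ h3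
      _ ≤ _ := key

omit h in
open scoped Pointwise in
/-- **equality for atoms** -/
theorem atom_eq [Finite X] [Finite U] {B K : Subgroup X} (hB : Atom U B) (hKB : K ≤ B) {Y C : Subgroup U}
    (hK : ∀ b ∈ K, ∀ w ∈ Y, b • w = w) (hne : K ≠ B) (hC : ∀ w, w ∈ C ↔ w ∈ Y ∧ ∀ b ∈ B, b • w = w)
    (hno : Nat.card K * Nat.card (cv U (K : Set X)) ≤ Nat.card U)
    (hle : Nat.card B * Nat.card C ≤ Nat.card K * Nat.card Y) : Y ⊔ cv U (B : Set X) = ⊤ := by
  have hex : Nat.card B * Nat.card (cv U (B : Set X)) = Nat.card U := hB.ex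
  have hYK : Y ≤ cv U (K : Set X) := fun w hw b hb => hK b hb w hw
  have hCe : C = Y ⊓ cv U (B : Set X) := by
    ext w
    rw [hC]
    rfl
  have h1 := card_mul_le Y (cv U (B : Set X)) (cv U (K : Set X)) hYK (cv_anti (SetLike.coe_subset_coe.2 hKB))
  rw [← hCe] at h1
  have hBp : 0 < Nat.card B := Nat.card_pos
  have hCp : 0 < Nat.card C := Nat.card_pos
  have hYp : 0 < Nat.card Y := Nat.card_pos
  have hUp : 0 < Nat.card U := Nat.card_pos
  -- `f(K) = |U|`
  have h2 : Nat.card U ≤ Nat.card K * Nat.card (cv U (K : Set X)) := by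
    have h3 : (Nat.card Y * Nat.card C) * Nat.card U ≤
        (Nat.card Y * Nat.card C) * (Nat.card K * Nat.card (cv U (K : Set X))) := by
      calc (Nat.card Y * Nat.card C) * Nat.card U
          = (Nat.card B * Nat.card C) * (Nat.card Y * Nat.card (cv U (B : Set X))) := by rw [← hex]; ring
        _ ≤ (Nat.card K * Nat.card Y) * (Nat.card C * Nat.card (cv U (K : Set X))) := Nat.mul_le_mul hle h1
        _ = _ := by ring
    exact Nat.le_of_mul_le_mul_left h3 (Nat.mul_pos hYp hCp)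
  have hK1 : K = ⊥ := hB.min K (lt_of_le_of_ne hKB hne) (le_antisymm hno h2)
  rw [hK1, card_bot, one_mul] at hle
  have h3 := Cfsg.Agent.Lib.ProductSet.card_mul_card_inf Y (cv U (B : Set X))
  rw [← hCe] at h3
  have h4 : ((Y : Set U) * (cv U (B : Set X) : Set U)) ⊆ ((Y ⊔ cv U (B : Set X) : Subgroup U) : Set U) := by
    rintro _ ⟨x, hx, y, hy, rfl⟩
    exact mul_mem (mem_sup_left hx) (mem_sup_right hy)
  have h5 : Nat.card ((Y : Set U) * (cv U (B : Set X) : Set U) : Set U) ≤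
      Nat.card (Y ⊔ cv U (B : Set X) : Subgroup U) := Nat.card_mono (Set.toFinite _) h4
  have h6 : Nat.card U ≤ Nat.card (Y ⊔ cv U (B : Set X) : Subgroup U) := by
    have h7 : Nat.card C * Nat.card U ≤ Nat.card C * Nat.card (Y ⊔ cv U (B : Set X) : Subgroup U) := by
      calc Nat.card C * Nat.card U = (Nat.card B * Nat.card C) * Nat.card (cv U (B : Set X)) := by rw [← hex]; ring
        _ ≤ Nat.card Y * Nat.card (cv U (B : Set X)) := Nat.mul_le_mul_right _ hle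
        _ = Nat.card C * Nat.card ((Y : Set U) * (cv U (B : Set X) : Set U) : Set U) := by rw [← h3, mul_comm]
        _ ≤ _ := Nat.mul_le_mul_left _ h5
    exact Nat.le_of_mul_le_mul_left h7 hCp
  exact Subgroup.eq_top_of_card_eq _ (le_antisymm (card_le_card_group _) h6)

/-- consequence: `[U, B] ≤ [Y, B]` for `U = Y C_U(B)` -/
theorem comm_le {B : Subgroup X} {Y : Subgroup U} (htop : Y ⊔ cv U (B : Set X) = ⊤)
    {b : X} (hb : b ∈ B) (u : U) : ∃ y ∈ Y, b • u * u⁻¹ = b • y * y⁻¹ := by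
  have hu : u ∈ Y ⊔ cv U (B : Set X) := by rw [htop]; exact mem_top u
  have hnor : Y.Normal := ⟨fun n hn g => by rw [h.comm g n, mul_inv_cancel_right]; exact hn⟩
  obtain ⟨y, hy, c, hc, rfl⟩ := mem_sup_of_normal_left.1 hu
  refine ⟨y, hy, ?_⟩
  rw [smul_mul', hc b hb, mul_inv_rev, ← mul_assoc, mul_inv_cancel_right]

/-- a 2-group `N ≤ O₂(C_v)` which centralises `W(p)`, `v ∈ W(p)`, is in `O₂(C_p)` -/
theorem le_o2_of [Finite X] {p v : U} (hp : p ∈ pt) (hv : v ∈ W p) {N : Subgroup X}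
    (hN : N ≤ o2 (MulAction.stabilizer X v)) (hNW : ∀ n ∈ N, ∀ w ∈ W p, n • w = w) :
    N ≤ o2 (MulAction.stabilizer X p) := by
  let Cw : Subgroup X :=
    { carrier := {x | ∀ w ∈ W p, x • w = w}
      one_mem' := fun w _ => one_smul X w
      mul_mem' := fun {x y} hx hy w hw => by rw [mul_smul, hy w hw, hx w hw]
      inv_mem' := fun {x} hx w hw => by rw [inv_smul_eq_iff, hx w hw] }
  have h0 : Cw ≤ MulAction.stabilizer X v := fun x hx => MulAction.mem_stabilizer_iff.2 (hx v hv)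
  have h1 : N ≤ o2 (MulAction.stabilizer X v) ⊓ Cw := fun n hn => ⟨hN hn, fun w hw => hNW n hn w hw⟩
  have h3 : o2 (MulAction.stabilizer X v) ⊓ Cw ≤ o2 Cw := by
    refine le_o2 inf_le_right ((o2_isPGroup _).to_le inf_le_left) ?_
    intro x hx
    have h2 := le_normalizer_o2 (MulAction.stabilizer X v) (h0 hx)
    rw [mem_normalizer_iff] at h2 ⊢
    intro y
    rw [mem_inf, mem_inf, ← h2 y]
    refine and_congr_right fun _ => ⟨fun hy => mul_mem (mul_mem hx hy) (inv_mem hx), fun hy => ?_⟩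
    have : y = x⁻¹ * (x * y * x⁻¹) * x := by group
    rw [this]
    exact mul_mem (mul_mem (inv_mem hx) hy) hx
  have h4 : Cw ≤ MulAction.stabilizer X p := fun x hx => MulAction.mem_stabilizer_iff.2 (hx p (h.mem_W_self hp))
  have h5 : MulAction.stabilizer X p ≤ normalizer (Cw : Set X) := by
    intro x hx
    rw [MulAction.mem_stabilizer_iff] at hx
    apply mem_normalizer_of_cj_le
    intro y hy w hw
    rw [mem_cj] at hy
    have hx' : x⁻¹ • p = p := by rw [inv_smul_eq_iff, hx]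
    have h6 := hy (x⁻¹ • w) (h.smul_W' hp hx' hw)
    rw [← mul_smul] at h6
    have h8 : x⁻¹ * y * x * x⁻¹ = x⁻¹ * y := by group
    rw [h8, mul_smul, smul_left_cancel_iff] at h6
    exact h6
  refine h1.trans (h3.trans (le_o2 ((o2_le _).trans h4) (o2_isPGroup _) ?_))
  intro x hx
  rw [mem_normalizer_iff_cj]
  have h6 := h5 hx
  rw [mem_normalizer_iff_cj] at h6
  have h7 : cj x (o2 Cw) ≤ o2 (cj x Cw) := by
    refine le_o2 (cj_mono x (o2_le _)) ((o2_isPGroup _).map _) ?_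
    rw [← cj_normalizer]
    exact cj_mono x (le_normalizer_o2 _)
  rw [h6] at h7
  exact eq_of_le_of_card_ge h7 (card_cj x _).ge

/-! ### `A_p` centralises `W(q)` for collinear `p`, `q` -/

variable (hS : ∀ p ∈ pt, p ∈ br (U := U) (A p))
  (hI : ∀ p q, adj p q → ∀ u ∈ br (U := U) (A p), u ∈ br (U := U) (A q) → u = 1)
  (hJ : ∀ p w w', adj w p → adj w' p → A w = A w' → w = w')
  (hC : ∀ p q, adj p q → ∀ a ∈ A p, ∀ w ∈ W q, a • w = w)
include hI

theorem A_inf {p q : U} (hpq : adj p q) {a : X} (ha : a ∈ A p) (ha' : a ∈ A q) : a = 1 := by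
  refine h.faith a fun u => ?_
  have h1 := hI p q hpq _ (mem_br ha u) (mem_br ha' u)
  rwa [mul_inv_eq_one] at h1

/-- `A_p` centralises `R(q)` -/
theorem A_R' {p q : U} (hpq : adj p q) {a : X} (ha : a ∈ A p) {z : U} (hz : z ∈ br (U := U) (A q)) :
    a • z = z := by
  obtain ⟨hp, hq⟩ := h.adj_pt _ _ hpq
  have haq : a • q = q := h.A_W p hp a ha q (h.mem_W hpq)
  have h1 : a • z * z⁻¹ ∈ br (U := U) (A q) := mul_mem (h.smul_R' hq haq hz) (inv_mem hz)
  have h2 := hI p q hpq _ (mem_br ha z) h1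
  rwa [mul_inv_eq_one] at h2

include hS hC

/-- **(2)** no element of any `A_x` fixes `p` and maps `w` to `w p` (`w` collinear with `p`) -/
theorem two [Finite X] [Finite U] {x p w : U} (hx : x ∈ pt) (hwp : adj w p) {a : X} (ha : a ∈ A x) (hap : a • p = p)
    (haw : a • w = w * p) : False := by
  obtain ⟨hw, hp⟩ := h.adj_pt _ _ hwp
  have hww' : adj w (w * p) := h.adj_mul _ _ hwp
  have hw' : w * p ∈ pt := (h.adj_pt _ _ hww').2
  have hw'p : adj (w * p) p := by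
    have h1 := h.adj_smul a w p hwp
    rwa [haw, hap] at h1
  -- `a r ∈ R(w p)` for `r ∈ R(w)`
  have hR : ∀ r ∈ br (U := U) (A w), a • r ∈ br (U := U) (A (w * p)) := by
    intro r hr
    have h1 := h.smul_R a hw hr
    rwa [haw] at h1
  -- the map `r ↦ [r, a]`
  let φ : br (U := U) (A w) → br (U := U) (A x) := fun r => ⟨a • (r : U) * (r : U)⁻¹, mem_br ha _⟩
  have hφ : Function.Injective φ := by
    intro r s hrs
    have h1 : a • (r : U) * (r : U)⁻¹ = a • (s : U) * (s : U)⁻¹ := congrArg Subtype.val hrs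
    have h2 : a • ((r : U) * (s : U)⁻¹) = (r : U) * (s : U)⁻¹ := by
      rw [smul_mul', smul_inv']
      rw [mul_inv_eq_iff_eq_mul] at h1
      rw [h1, h.comm (a • (s : U) * (s : U)⁻¹) r, mul_assoc, h.comm (a • (s : U)) (s : U)⁻¹, mul_assoc,
        mul_inv_cancel, mul_one]
    have h3 : (r : U) * (s : U)⁻¹ ∈ br (U := U) (A w) := mul_mem r.2 (inv_mem s.2)
    have h4 := hI _ _ hww' _ h3 (by
      have h5 := hR _ h3
      rwa [h2] at h5)
    exact Subtype.ext (mul_inv_eq_one.1 h4)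
  -- equal orders
  obtain ⟨g, hg⟩ := h.trans w hw x hx
  have hcardR : Nat.card (br (U := U) (A x)) = Nat.card (br (U := U) (A w)) := by
    have hA : A x = cj g (A w) := by rw [← hg]; exact h.A_smul g w hw
    rw [hA]
    refine Nat.card_congr ⟨fun z => ⟨g⁻¹ • (z : U), ?_⟩, fun z => ⟨g • (z : U), smul_br g z.2⟩, ?_, ?_⟩
    · have h1 := smul_br g⁻¹ z.2
      rwa [cj_inv_cj] at h1
    · intro z; exact Subtype.ext (smul_inv_smul _ _)
    · intro z; exact Subtype.ext (inv_smul_smul _ _)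
  have hφs : Function.Surjective φ := by
    have : Function.Bijective φ := (Nat.bijective_iff_injective_and_card φ).2 ⟨hφ, hcardR.symm⟩
    exact this.2
  obtain ⟨r, hr⟩ := hφs ⟨x, hS x hx⟩
  have hxr : a • (r : U) * (r : U)⁻¹ = x := congrArg Subtype.val hr
  -- `A_w` fixes `x`
  have hfix : ∀ b ∈ A w, b • x = x := by
    intro b hb
    rw [← hxr, smul_mul', smul_inv', h.A_R' hI hww' hb (hR _ r.2), h.A_R hw hb r.2]
  -- `ψ b = b (b⁻¹)^a`
  have hψm : ∀ b ∈ A w, b * (a * b⁻¹ * a⁻¹) ∈ A x := by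
    intro b hb
    have h1 : b * a * b⁻¹ ∈ A x := h.conj_A hx (hfix b hb) ha
    have h2 : b * (a * b⁻¹ * a⁻¹) = (b * a * b⁻¹) * a⁻¹ := by group
    rw [h2]
    exact mul_mem h1 (inv_mem ha)
  have hcj : ∀ b ∈ A w, a * b * a⁻¹ ∈ A (w * p) := by
    intro b hb
    have h1 := h.conj_A' a hw hb
    rwa [haw] at h1
  let ψ : A w → A x := fun b => ⟨(b : X) * (a * (b : X)⁻¹ * a⁻¹), hψm b b.2⟩
  have hψ : Function.Injective ψ := by
    intro b c hbc
    have h1 : (b : X) * (a * (b : X)⁻¹ * a⁻¹) = (c : X) * (a * (c : X)⁻¹ * a⁻¹) := congrArg Subtype.val hbc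
    have h2 : (c : X)⁻¹ * b = a * ((c : X)⁻¹ * b) * a⁻¹ := by
      have h3 : (c : X)⁻¹ * ((b : X) * (a * (b : X)⁻¹ * a⁻¹)) * (a * b * a⁻¹) = (c : X)⁻¹ * b := by group
      rw [h1] at h3
      exact h3.symm.trans (by group)
    have h4 : (c : X)⁻¹ * b ∈ A w := mul_mem (inv_mem c.2) b.2
    have h5 := h.A_inf hI hww' h4 (by
      rw [h2]
      exact hcj _ h4)
    exact Subtype.ext (inv_mul_eq_one.1 h5).symm
  have hcardA : Nat.card (A w) = Nat.card (A x) := by
    rw [← hg, h.A_smul g w hw, card_cj]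
  have hψs : Function.Surjective ψ := ((Nat.bijective_iff_injective_and_card ψ).2 ⟨hψ, hcardA⟩).2
  obtain ⟨b, hb⟩ := hψs ⟨a, ha⟩
  have hab : (b : X) * (a * (b : X)⁻¹ * a⁻¹) = a := congrArg Subtype.val hb
  have h1 : a • w = w := by
    rw [← hab, mul_smul]
    have hwW : w ∈ W p := h.mem_W (h.adj_symm _ _ hwp)
    rw [hC (w * p) p hw'p _ (hcj _ (inv_mem b.2)) w hwW]
    exact hC w p hwp _ b.2 w hwW
  rw [haw, mul_eq_left] at h1
  exact h.pt_ne p hp h1

include hJ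
omit hS hI in
/-- **(3)** `g ∈ C_p`, `[U, g] ≤ W(p)` implies `[W(p), g] = 1` -/
theorem three [Finite X] [Finite U] {p : U} (hp : p ∈ pt) {g : X} (hgp : g • p = p)
    (hgW : ∀ u : U, g • u * u⁻¹ ∈ W p) {w : U} (hw : w ∈ W p) : g • w = w := by
  have key : ∀ w, adj p w → g • w = w := by
    intro w hpw
    have hwp := h.adj_symm _ _ hpw
    obtain ⟨hww, -⟩ := h.adj_pt _ _ hwp
    have hgw : adj (g • w) p := by
      have h1 := h.adj_smul g w p hwp
      rwa [hgp] at h1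
    have hgww := (h.adj_pt _ _ hgw).1
    let c : Subgroup U := cv U (A w : Set X)
    have hWc : W p ≤ c := fun v hv a ha => hC w p hwp a ha v hv
    have hgc : ∀ v, g • v ∈ c ↔ v ∈ c := by
      intro v
      have h1 : g • v = (g • v * v⁻¹) * v := by rw [inv_mul_cancel_right]
      rw [h1]
      exact mul_mem_cancel_left (hWc (hgW v))
    have hgc' : ∀ v ∈ c, g⁻¹ • v ∈ c := by
      intro v hv
      rw [← hgc, smul_inv_smul]
      exact hv
    -- the group `Hom(U/c, c)`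
    let H : Subgroup X :=
      { carrier := {x | (∀ v ∈ c, x • v = v) ∧ ∀ u : U, x • u * u⁻¹ ∈ c}
        one_mem' := ⟨fun v _ => one_smul X v, fun u => by rw [one_smul, mul_inv_cancel]; exact one_mem _⟩
        mul_mem' := fun {x y} hx hy => ⟨fun v hv => by rw [mul_smul, hy.1 v hv, hx.1 v hv], fun u => by
          have h1 : (x * y) • u * u⁻¹ = (x • (y • u) * (y • u)⁻¹) * (y • u * u⁻¹) := by
            rw [mul_smul, mul_assoc, inv_mul_cancel_left]
          rw [h1]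
          exact mul_mem (hx.2 _) (hy.2 u)⟩
        inv_mem' := fun {x} hx => ⟨fun v hv => by rw [inv_smul_eq_iff, hx.1 v hv], fun u => by
          have h1 := hx.2 (x⁻¹ • u)
          rw [smul_inv_smul] at h1
          have h2 : x⁻¹ • u * u⁻¹ = (u * (x⁻¹ • u)⁻¹)⁻¹ := by rw [mul_inv_rev, inv_inv]
          rw [h2]
          exact inv_mem h1⟩ }
    have hHsq : ∀ x ∈ H, x * x = 1 := by
      intro x hx
      refine h.faith _ fun u => ?_
      have h1 : x • u = (x • u * u⁻¹) * u := by rw [inv_mul_cancel_right]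
      rw [mul_smul, h1, smul_mul', hx.1 _ (hx.2 u)]
      nth_rewrite 2 [h1]
      rw [← mul_assoc, h.sq, one_mul]
    have hA1 : A w ≤ H := by
      intro a ha
      exact ⟨fun v hv => hv a ha, fun u b hb => h.A_quad w hww a ha b hb u⟩
    have hA2 : cj g (A w) ≤ H := by
      intro x hx
      rw [mem_cj] at hx
      obtain ⟨h1, h2⟩ := hA1 hx
      have h3 : ∀ v : U, x • v = g • ((g⁻¹ * x * g) • (g⁻¹ • v)) := by
        intro v
        rw [smul_smul, smul_smul]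
        congr 1
        group
      refine ⟨fun v hv => ?_, fun u => ?_⟩
      · rw [h3, h1 _ (hgc' v hv), smul_inv_smul]
      · have h4 : x • u * u⁻¹ = g • ((g⁻¹ * x * g) • (g⁻¹ • u) * (g⁻¹ • u)⁻¹) := by
          rw [smul_mul', ← h3, smul_inv', smul_inv_smul]
        rw [h4, hgc]
        exact h2 _
    let E : Subgroup X := A w ⊔ cj g (A w)
    have hEH : E ≤ H := sup_le hA1 hA2
    have hEQ : E ≤ o2 (MulAction.stabilizer X p) := by
      have hq : ∀ v, adj v p → A v ≤ o2 (MulAction.stabilizer X p) := by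
        intro v hvp
        exact h.le_o2_of hp (h.mem_W (h.adj_symm _ _ hvp)) (h.A_le v (h.adj_pt _ _ hvp).1) fun a ha w hw => hC v p hvp a ha w hw
      refine sup_le (hq w hwp) ?_
      rw [← h.A_smul g w hww]
      exact hq _ hgw
    have hcvE : c ≤ cv U (E : Set X) := fun v hv x hx => (hEH hx).1 v hv
    have h1 := h.no1 p hp E hEQ (fun x hx => hHsq x (hEH hx))
    have h2 : Nat.card (A w) * Nat.card c = Nat.card U := h.A_ex w hww
    have h3 : Nat.card E ≤ Nat.card (A w) := by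
      have h4 : Nat.card E * Nat.card c ≤ Nat.card (A w) * Nat.card c := by
        rw [h2]
        exact (Nat.mul_le_mul_left _ (card_le_of_le hcvE)).trans h1
      exact Nat.le_of_mul_le_mul_right h4 Nat.card_pos
    have h4 : A w = E := eq_of_le_of_card_ge le_sup_left h3
    have h5 : cj g (A w) ≤ A w := by
      rw [h4]
      exact le_sup_right.trans_eq' (by rw [← h4])
    have h6 : A (g • w) = A w := by
      rw [h.A_smul g w hww]
      exact eq_of_le_of_card_ge h5 (card_cj g _).ge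
    exact hJ p _ _ hgw hwp h6
  rw [h.W_eq p hp] at hw
  induction hw using closure_induction with
  | mem z hz =>
    rcases hz with hz | hz
    · rw [Set.mem_singleton_iff] at hz
      rw [hz]
      exact hgp
    · exact key z hz
  | one => exact smul_one g
  | mul x y _ _ hx hy => rw [smul_mul', hx, hy]
  | inv x _ hx => rw [smul_inv', hx]

/-! ### (4) the induction on the distance -/

/-- **(4)** `A_x ≤ O₂(C_q)` fixes `p`, collinear with `q`: then `A_x` centralises `W(p)` -/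
theorem four [Finite X] [Finite U] {x p q : U} (hx : x ∈ pt) (hpq : adj p q)
    (hAq : A x ≤ o2 (MulAction.stabilizer X q)) (hAp : ∀ a ∈ A x, a • p = p) :
    ∀ a ∈ A x, ∀ w ∈ W p, a • w = w := by
  obtain ⟨hp, hq⟩ := h.adj_pt _ _ hpq
  intro a ha w hw
  refine h.atm x hx w ?_ a ha
  intro B hBA hB
  by_contra hcon
  push Not at hcon
  obtain ⟨b₀, hb₀, hne⟩ := hcon
  let K : Subgroup X :=
    { carrier := {b | b ∈ B ∧ ∀ w ∈ W p, b • w = w}
      one_mem' := ⟨one_mem _, fun w _ => one_smul X w⟩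
      mul_mem' := fun {a b} ha hb => ⟨mul_mem ha.1 hb.1, fun w hw => by rw [mul_smul, hb.2 w hw, ha.2 w hw]⟩
      inv_mem' := fun {a} ha => ⟨inv_mem ha.1, fun w hw => by rw [inv_smul_eq_iff, ha.2 w hw]⟩ }
  have hKB : K ≤ B := fun b hb => hb.1
  let C : Subgroup U := W p ⊓ cv U (B : Set X)
  have hBsq : ∀ b ∈ B, b * b = 1 := fun b hb => h.A_sq x hx b (hBA hb)
  have hle : Nat.card B * Nat.card C ≤ Nat.card K * Nat.card (W p) := by
    refine h.no2 p q hpq B (hBA.trans hAq) (fun b hb => MulAction.mem_stabilizer_iff.2 (hAp b (hBA hb))) hBsq K hKB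
      ?_ C inf_le_left fun w hw b hb => hw.2 b hb
    intro b hb hbw
    refine ⟨hb, ?_⟩
    have key : ∀ v, adj p v → b • v = v := by
      intro v hv
      rcases hbw v (h.mem_W hv) with h1 | h1
      · exact h1
      · exact (h.two hS hI hC hx (h.adj_symm _ _ hv) (hBA hb) (hAp b (hBA hb)) h1).elim
    intro v hv
    rw [h.W_eq p hp] at hv
    induction hv using closure_induction with
    | mem z hz =>
      rcases hz with hz | hz
      · rw [Set.mem_singleton_iff] at hz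
        rw [hz]
        exact hAp b (hBA hb)
      · exact key z hz
    | one => exact smul_one b
    | mul x y _ _ hx hy => rw [smul_mul', hx, hy]
    | inv x _ hx => rw [smul_inv', hx]
  have htop := atom_eq (U := U) hB hKB (Y := W p) (C := C) (fun b hb => hb.2) (by
      intro h1
      rw [← h1] at hb₀
      exact hne (hb₀.2 w hw)) (fun w => Iff.rfl)
    (h.no1 x hx K ((hKB.trans hBA).trans (h.A_le x hx)) fun b hb => hBsq b (hKB hb)) hle
  refine hne (h.three hJ hC hp (hAp b₀ (hBA hb₀)) (fun u => ?_) hw)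
  obtain ⟨y, hy, he⟩ := h.comm_le htop hb₀ u
  rw [he]
  exact mul_mem (h.smul_W' hp (hAp b₀ (hBA hb₀)) hy) (inv_mem hy)

theorem false_of [Finite X] [Finite U] : False := by
  obtain ⟨x, hx⟩ := h.pt_nonempty
  let Δ : Set U := {u | u ∈ pt ∧ A x ≤ o2 (MulAction.stabilizer X u) ∧ ∀ a ∈ A x, ∀ w ∈ W u, a • w = w}
  have h1 : pt ⊆ Δ := by
    refine h.conn Δ (fun u hu => hu.1) ⟨x, hx, h.A_le x hx, h.A_W x hx⟩ ?_
    rintro v ⟨hv, hv1, hv2⟩ u hvu
    obtain ⟨-, hu⟩ := h.adj_pt _ _ hvu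
    have huv := h.adj_symm _ _ hvu
    have h2 : ∀ a ∈ A x, a • u = u := fun a ha => hv2 a ha u (h.mem_W hvu)
    have h3 := h.four hS hI hJ hC hx huv hv1 h2
    exact ⟨hu, h.le_o2_of hu (h.mem_W huv) hv1 h3, h3⟩
  refine h.A_ne x hx ((Subgroup.eq_bot_iff_forall _).2 fun a ha => h.faith a fun u => ?_)
  have h2 : closure pt ≤ cv U ({a} : Set X) := by
    rw [closure_le]
    intro p hp
    exact mem_cv_singleton.2 ((h1 hp).2.2 a ha p (h.mem_W_self hp))
  rw [h.span] at h2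
  exact mem_cv_singleton.1 (h2 (mem_top u))

end Core

namespace Sit

variable {pt : Set U} {adj : U → U → Prop} {W : U → Subgroup U} {A : U → Subgroup X} (h : Sit X pt adj W A)
include h

/-- `p ∈ R(p)` -/
theorem self_mem_R [Finite U] {p : U} (hp : p ∈ pt) : p ∈ br (U := U) (A p) := by
  obtain ⟨S, hS2, hSp, hfix⟩ := h.fixS p hp
  obtain ⟨z, hz, hz1⟩ := h.br_ne hp
  obtain ⟨m, hm, hm1, hmf⟩ := exists_fixed_mod hS2 h.sq (K := br (U := U) (A p)) (Y := ⊥)
    (fun g hg m hm => h.smul_R' hp (MulAction.mem_stabilizer_iff.1 (hSp hg)) hm)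
    (fun g _ m hm => by rw [mem_bot] at hm ⊢; rw [hm, smul_one])
    ⟨z, hz, fun h1 => hz1 (mem_bot.1 h1)⟩
  rcases hfix m (fun s hs => by
    have := hmf s hs
    rwa [mem_bot, mul_inv_eq_one] at this) with h1 | h1
  · exact absurd (mem_bot.2 h1) hm1
  · rw [h1] at hm
    exact hm

/-- **the waist lemma** (W) -/
theorem waist [Finite U] {p q : U} (hpq : adj p q) {b : Subgroup U} (hb : b ≤ W q)
    (hinv : ∀ g : X, g • p = p → g • q = q → ∀ u ∈ b, g • u ∈ b) (hq : q ∉ b) (hpq' : p * q ∉ b) :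
    ∀ u ∈ b, u = 1 ∨ u = p := by
  intro u₀ hu₀
  by_contra hcon
  push Not at hcon
  obtain ⟨S, hS2, hSp, hSq, hnorm, hfix⟩ := h.fixL p q hpq
  obtain ⟨hpp, hqp⟩ := h.adj_pt _ _ hpq
  have hSpp : ∀ s ∈ S, s • p = p := fun s hs => MulAction.mem_stabilizer_iff.1 (hSp hs)
  have hSqq : ∀ s ∈ S, s • q = q := fun s hs => MulAction.mem_stabilizer_iff.1 (hSq hs)
  -- `p ∈ b`
  have hpb : p ∈ b := by
    obtain ⟨m, hm, hm1, hmf⟩ := exists_fixed_mod hS2 h.sq (K := b) (Y := ⊥)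
      (fun g hg m hm => hinv g (hSpp g hg) (hSqq g hg) m hm)
      (fun g _ m hm => by rw [mem_bot] at hm ⊢; rw [hm, smul_one])
      ⟨u₀, hu₀, fun h1 => hcon.1 (mem_bot.1 h1)⟩
    rcases hfix m (fun s hs => by
      have := hmf s hs
      rwa [mem_bot, mul_inv_eq_one] at this) with h1 | h1 | h1 | h1
    · exact absurd (mem_bot.2 h1) hm1
    · rwa [← h1]
    · exact absurd (h1 ▸ hm) hq
    · exact absurd (h1 ▸ hm) hpq'
  -- a vector fixed modulo `p`
  have hzp : ∀ z : U, z ∈ zpowers p ↔ z = 1 ∨ z = p := by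
    intro z
    constructor
    · rw [mem_zpowers_iff]
      rintro ⟨k, rfl⟩
      have h2 : p ^ (2 : ℤ) = 1 := by
        have := h.sq p
        rwa [← pow_two, ← zpow_natCast] at this
      rcases Int.even_or_odd' k with ⟨m, hm | hm⟩
      · left; rw [hm, zpow_mul, h2, one_zpow]
      · right; rw [hm, zpow_add, zpow_mul, h2, one_zpow, one_mul, zpow_one]
    · rintro (rfl | rfl)
      · exact one_mem _
      · exact mem_zpowers _
  obtain ⟨u, hu, hu1, huf⟩ := exists_fixed_mod hS2 h.sq (K := b) (Y := zpowers p)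
    (fun g hg m hm => hinv g (hSpp g hg) (hSqq g hg) m hm)
    (fun g hg m hm => by
      rw [hzp] at hm ⊢
      rcases hm with rfl | rfl
      · left; rw [smul_one]
      · right; exact hSpp g hg)
    ⟨u₀, hu₀, fun h1 => by
      rcases (hzp _).1 h1 with h1 | h1
      · exact hcon.1 h1
      · exact hcon.2 h1⟩
  have hu2 : ∀ s ∈ S, s • u = u ∨ s • u = u * p := by
    intro s hs
    rcases (hzp _).1 (huf s hs) with h1 | h1
    · left; rwa [mul_inv_eq_one] at h1
    · right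
      rw [mul_inv_eq_iff_eq_mul] at h1
      rw [h1, h.comm]
  have hnf : ¬ ∀ s ∈ S, s • u = u := by
    intro hall
    rcases hfix u hall with h1 | h1 | h1 | h1
    · exact hu1 ((hzp _).2 (Or.inl h1))
    · exact hu1 ((hzp _).2 (Or.inr h1))
    · exact hq (h1 ▸ hu)
    · exact hpq' (h1 ▸ hu)
  push Not at hnf
  obtain ⟨s, hs, hsu⟩ := hnf
  have hsu' : s • u = u * p := (hu2 s hs).resolve_left hsu
  obtain ⟨τ, hτ, hτp⟩ := h.mv p q hpq
  have hτq : τ • q = q := MulAction.mem_stabilizer_iff.1 (o2_le _ hτ)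
  have hs' := hnorm τ hτ s hs
  have hτu := h.Wq q hqp τ hτ u (hb hu)
  -- `τ s τ⁻¹` on `τ u`
  have e1 : (τ * s * τ⁻¹) • (τ • u) = τ • u * (p * q) := by
    rw [← mul_smul]
    have : τ * s * τ⁻¹ * τ = τ * s := by group
    rw [this, mul_smul, hsu', smul_mul', hτp]
  -- but `τ u ∈ {u, u q}` and `τ s τ⁻¹ ∈ S`
  have e2 : (τ * s * τ⁻¹) • (τ • u) = τ • u ∨ (τ * s * τ⁻¹) • (τ • u) = τ • u * p := by
    rcases hτu with h1 | h1
    · rw [h1]; exact hu2 _ hs'
    · rw [h1, smul_mul', hSqq _ hs']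
      rcases hu2 _ hs' with h2 | h2
      · left; rw [h2]
      · right
        rw [h2, mul_assoc, mul_assoc, h.comm p q]
  rw [e1] at e2
  rcases e2 with h1 | h1
  · rw [mul_eq_left] at h1
    have h2 : p = q := by
      rw [← h.inv_eq q]
      exact eq_inv_of_mul_eq_one_left h1
    exact h.adj_ne hpq h2
  · rw [mul_right_inj, mul_eq_left] at h1
    exact h.pt_ne q hqp h1

/-! ### (J) -/

variable (hV : ∀ p q, adj p q → q ∉ br (U := U) (A p))
include hV

theorem mul_notMem [Finite U] {p q : U} (hpq : adj p q) : p * q ∉ br (U := U) (A p) := by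
  intro h1
  have h2 := h.self_mem_R (h.adj_pt _ _ hpq).1
  exact hV p q hpq ((mul_mem_cancel_left h2).1 h1)

/-- **(J)** `R(p) ∩ W(q) = ⟨p⟩` -/
theorem J [Finite U] {p q : U} (hpq : adj p q) {u : U} (hu : u ∈ br (U := U) (A p)) (hw : u ∈ W q) :
    u = 1 ∨ u = p := by
  obtain ⟨hp, hq⟩ := h.adj_pt _ _ hpq
  refine h.waist hpq (b := br (U := U) (A p) ⊓ W q) inf_le_right ?_ ?_ ?_ u ⟨hu, hw⟩
  · rintro g hg1 hg2 v ⟨hv1, hv2⟩
    exact ⟨h.smul_R' hp hg1 hv1, h.smul_W' hq hg2 hv2⟩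
  · exact fun h1 => hV p q hpq h1.1
  · exact fun h1 => h.mul_notMem hV hpq h1.1

/-- (I) `[W(q), A_p] ≤ ⟨p⟩` -/
theorem I [Finite U] {p q : U} (hpq : adj p q) {a : X} (ha : a ∈ A p) {w : U} (hw : w ∈ W q) :
    a • w = w ∨ a • w = w * p := by
  obtain ⟨hp, hq⟩ := h.adj_pt _ _ hpq
  have haq : a • q = q := h.A_W p hp a ha q (h.mem_W hpq)
  have h1 : a • w * w⁻¹ ∈ W q := mul_mem (h.smul_W' hq haq hw) (inv_mem hw)
  rcases h.J hV hpq (mem_br ha w) h1 with h2 | h2
  · left; rwa [mul_inv_eq_one] at h2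
  · right
    rw [mul_inv_eq_iff_eq_mul] at h2
    rw [h2, h.comm]

/-- (1) `R(p) ∩ R(q) = 1` -/
theorem R_inf [Finite U] {p q : U} (hpq : adj p q) {u : U} (hu : u ∈ br (U := U) (A p))
    (hu' : u ∈ br (U := U) (A q)) : u = 1 := by
  by_contra hu1
  obtain ⟨hp, hq⟩ := h.adj_pt _ _ hpq
  obtain ⟨S, hS2, hSp, hSq, -, hfix⟩ := h.fixL p q hpq
  obtain ⟨m, ⟨hm, hm'⟩, hm1, hmf⟩ := exists_fixed_mod hS2 h.sq (K := br (U := U) (A p) ⊓ br (U := U) (A q)) (Y := ⊥)
    (fun g hg m hm => ⟨h.smul_R' hp (MulAction.mem_stabilizer_iff.1 (hSp hg)) hm.1,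
      h.smul_R' hq (MulAction.mem_stabilizer_iff.1 (hSq hg)) hm.2⟩)
    (fun g _ m hm => by rw [mem_bot] at hm ⊢; rw [hm, smul_one])
    ⟨u, ⟨hu, hu'⟩, fun h1 => hu1 (mem_bot.1 h1)⟩
  rcases hfix m (fun s hs => by
    have := hmf s hs
    rwa [mem_bot, mul_inv_eq_one] at this) with h1 | h1 | h1 | h1
  · exact absurd (mem_bot.2 h1) hm1
  · exact hV q p (h.adj_symm _ _ hpq) (h1 ▸ hm')
  · exact hV p q hpq (h1 ▸ hm)
  · exact h.mul_notMem hV hpq (h1 ▸ hm)

/-- **(E1)** an atom moving `W(q)` consists of transvections -/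
theorem E1 [Finite X] [Finite U] {p q : U} (hpq : adj p q) {B : Subgroup X} (hB : Atom U B) (hBA : B ≤ A p)
    (hmv : ∃ b ∈ B, ∃ w ∈ W q, b • w ≠ w) : ∀ b ∈ B, ∀ u : U, b • u = u ∨ b • u = u * p := by
  obtain ⟨hp, hq⟩ := h.adj_pt _ _ hpq
  let K : Subgroup X :=
    { carrier := {b | b ∈ B ∧ ∀ w ∈ W q, b • w = w}
      one_mem' := ⟨one_mem _, fun w _ => one_smul X w⟩
      mul_mem' := fun {a b} ha hb => ⟨mul_mem ha.1 hb.1, fun w hw => by rw [mul_smul, hb.2 w hw, ha.2 w hw]⟩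
      inv_mem' := fun {a} ha => ⟨inv_mem ha.1, fun w hw => by rw [inv_smul_eq_iff, ha.2 w hw]⟩ }
  have hKB : K ≤ B := fun b hb => hb.1
  let C : Subgroup U := W q ⊓ cv U (B : Set X)
  have hBsq : ∀ b ∈ B, b * b = 1 := fun b hb => h.A_sq p hp b (hBA hb)
  have hle : Nat.card B * Nat.card C ≤ Nat.card K * Nat.card (W q) :=
    Core.pairing h.sq _ B K rfl hBsq (fun b hb w hw => h.I hV hpq (hBA hb) hw) (fun b hb => h.A_stab hp (hBA hb)) hKB
      (fun b hb => ⟨fun h1 => h1.2, fun h1 => ⟨hb, h1⟩⟩) C (fun w => Iff.rfl)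
  have htop := Core.atom_eq (U := U) hB hKB (Y := W q) (C := C) (fun b hb => hb.2) (by
      intro h1
      obtain ⟨b, hb, w, hw, hne⟩ := hmv
      rw [← h1] at hb
      exact hne (hb.2 w hw)) (fun w => Iff.rfl)
    (h.no1 p hp K ((hKB.trans hBA).trans (h.A_le p hp)) fun b hb => hBsq b (hKB hb)) hle
  intro b hb u
  obtain ⟨y, hy, he⟩ := h.comm_le htop hb u
  rcases h.I hV hpq (hBA hb) hy with h1 | h1
  · left
    rw [h1, mul_inv_cancel, mul_inv_eq_one] at he
    exact he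
  · right
    rw [h1, h.comm y p, mul_inv_cancel_right, mul_inv_eq_iff_eq_mul] at he
    rw [he, h.comm]

omit hV in
/-- **THEOREM WD** (families generated by atoms) -/
theorem main [Finite X] [Finite U] : (∃ p q, adj p q ∧ q ∈ br (U := U) (A p)) ∨
    ∃ p ∈ pt, ∃ B ≤ A p, Atom U B ∧ ∀ b ∈ B, ∀ u : U, b • u = u ∨ b • u = u * p := by
  by_contra hcon
  push Not at hcon
  obtain ⟨h1, h2⟩ := hcon
  have hV : ∀ p q, adj p q → q ∉ br (U := U) (A p) := h1
  refine h.toCore.false_of (fun p hp => h.self_mem_R hp) (fun p q hpq u hu hu' => h.R_inf hV hpq hu hu') ?_ ?_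
  · intro p w w' hw hw' he
    have hp := (h.adj_pt _ _ hw).2
    have h3 := h.self_mem_R (h.adj_pt _ _ hw').1
    rw [← he] at h3
    rcases h.J hV hw h3 (h.mem_W (h.adj_symm _ _ hw')) with h4 | h4
    · exact absurd h4 (h.pt_ne _ (h.adj_pt _ _ hw').1)
    · exact h4.symm
  intro p q hpq a ha w hw
  obtain ⟨hp, hq⟩ := h.adj_pt _ _ hpq
  refine h.atm p hp w ?_ a ha
  intro B hBA hB
  by_contra hcon
  push Not at hcon
  obtain ⟨b, hb, hne⟩ := hcon
  obtain ⟨b', hb', u, hu1, hu2⟩ := h2 p hp B hBA hB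
  rcases h.E1 hV hpq hB hBA ⟨b, hb, w, hw, hne⟩ b' hb' u with h3 | h3
  · exact hu1 h3
  · exact hu2 h3

end Sit

end Cfsg.Agent.Omega.TC.WD

end
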