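import Cfsg.Agent.Mrg.Omega.Half.Basic
import Cfsg.Agent.Mrg.Omega.NO3S.Basic
import Cfsg.Agent.Mrg.Omega.VP

section


/-!
# NO-3S, sums of natural `SL₂(2)`-modules: the points of a block (project OMEGA, helper790 #14826 (1))

`M : NatK F S P V ⊥ k` with `|F| = 2`, `B` a block of `S` (`Half.NatA.Blk`), `V_B = fac M B`, `T = So M B = N_S(V_B)`.

* `pt M B` : the vector with all coordinates `(1, 0)` in `B` and `0` outside; `z = pt M univ`, `v_B = pt M B`;
* `conj_pt`, `fix` : `S` permutes them as it permutes the blocks; `T` centralises `v_B`;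
* `fix_cases` : `C_V(T) = ⟨v_B, v_B'⟩`; `fix_fac` : `C_{V_B}(T) = ⟨v_B⟩`;
* `mem_zc_iff` : `Ω₁Z(S) = ⟨z⟩`;
* `mem_zc_So_iff` : `Ω₁Z(T) = ⟨v_B, v_B'⟩ = Y`; `card_zc_So` : `|Y| = 4`.
-/

set_option autoImplicit false
set_option linter.unusedSectionVars false

namespace Cfsg.Agent.Omega.OM.KTwo

open Subgroup Cfsg Cfsg.Agent.ZN Cfsg.Agent.Omega.FFThm Cfsg.Agent.Omega.MinPar
open Cfsg.Agent.Omega.Half Cfsg.Agent.Omega.Half.NatA
open Cfsg.Agent.Omega.NatPair (ap ap_one ext2 ap_zero' ap_one')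
open Cfsg.Agent.Lib.SL2Mat (up up_00 up_01)
open Cfsg.Agent.MinSimple.VModule (mem_zc zc_le normalizer_le_normalizer_zc)

universe u

/-! ### The field with two elements -/

section field

variable {F : Type} [Field F]

theorem elt_cases (hq : Nat.card F = 2) (a : F) : a = 0 ∨ a = 1 := by
  obtain ⟨b, -, hb⟩ := (Nat.card_eq_two_iff' (0 : F)).1 hq
  by_cases h : a = 0
  · exact Or.inl h
  · right
    rw [hb a h, hb 1 one_ne_zero]

theorem vec_cases (hq : Nat.card F = 2) {x : Fin 2 → F} (h : x 1 = 0) : x = 0 ∨ x = ![1, 0] := by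
  rcases elt_cases hq (x 0) with h0 | h0
  · left
    exact ext2 h0 h
  · right
    exact ext2 h0 h

theorem e11_ne : (![1, 0] : Fin 2 → F) ≠ 0 := fun h => one_ne_zero (congrFun h 0)

end field

variable {G : Type u} [Group G] {F : Type} [Field F] {T H V : Subgroup G} {k : ℕ}

section pt

variable (M : NatK F T H V ⊥ k)

open Classical in
/-- the vector with all coordinates `(1, 0)` in `B` and `0` outside -/
noncomputable def pt (B : Set (Fin k)) : G := (M.surj fun i => if i ∈ B then ![1, 0] else 0).choose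

theorem pt_V (B : Set (Fin k)) : pt M B ∈ V := by
  classical
  exact (M.surj fun i => if i ∈ B then ![1, 0] else 0).choose_spec.1

theorem e_pt_mem {B : Set (Fin k)} {i : Fin k} (hi : i ∈ B) : M.e (pt M B) i = ![1, 0] := by
  classical
  have h := (M.surj fun i => if i ∈ B then ![1, 0] else 0).choose_spec.2
  exact (congrFun h i).trans (if_pos hi)

theorem e_pt_not {B : Set (Fin k)} {i : Fin k} (hi : i ∉ B) : M.e (pt M B) i = 0 := by
  classical
  have h := (M.surj fun i => if i ∈ B then ![1, 0] else 0).choose_spec.2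
  exact (congrFun h i).trans (if_neg hi)

theorem pt_mem (B : Set (Fin k)) : pt M B ∈ fac M B := ⟨pt_V M B, fun _ hi => e_pt_not M hi⟩

theorem e_pt_one (B : Set (Fin k)) (i : Fin k) : M.e (pt M B) i 1 = 0 := by
  by_cases hi : i ∈ B
  · rw [e_pt_mem M hi]; rfl
  · rw [e_pt_not M hi]; rfl

theorem pt_ne {B : Set (Fin k)} (hB : B.Nonempty) : pt M B ≠ 1 := by
  intro h
  obtain ⟨i, hi⟩ := hB
  have h1 := e_pt_mem M hi
  rw [h, e_one] at h1
  exact e11_ne h1.symm

theorem e_pt_ne_iff {B : Set (Fin k)} {i : Fin k} : M.e (pt M B) i = 0 ↔ i ∉ B := by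
  constructor
  · intro h hi
    rw [e_pt_mem M hi] at h
    exact e11_ne h
  · exact e_pt_not M

theorem pt_mul (B : Set (Fin k)) : pt M B * pt M Bᶜ = pt M Set.univ := by
  apply inj M (mul_mem (pt_V M B) (pt_V M _)) (pt_V M _)
  rw [M.mul _ (pt_V M B) _ (pt_V M _)]
  funext i
  rw [Pi.add_apply, e_pt_mem M (Set.mem_univ i)]
  by_cases hi : i ∈ B
  · rw [e_pt_mem M hi, e_pt_not M fun h : i ∈ Bᶜ => h hi, add_zero]
  · rw [e_pt_not M hi, e_pt_mem M hi, zero_add]

theorem pt_ne_of_ne {B C : Set (Fin k)} (h : B ≠ C) : pt M B ≠ pt M C := by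
  intro h1
  apply h
  ext i
  have h2 := e_pt_ne_iff M (B := B) (i := i)
  rw [h1, e_pt_ne_iff] at h2
  exact (not_iff_not.1 h2).symm

end pt

section fix

variable {M : NatK F T H V ⊥ k} {B : Set (Fin k)} (hq : Nat.card F = 2) (hA : Amb T H V)

include hA

theorem sq_one {x : G} (hx : x ∈ V) : x * x = 1 := by
  have := hA.sq x hx
  rwa [pow_two] at this

include hq

/-- `T` permutes the vectors `pt M B`. -/
theorem conj_pt {t : G} (ht : t ∈ T) {σ : Equiv.Perm (Fin k)} (hσ : Mv M t σ) (B : Set (Fin k)) :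
    t * pt M B * t⁻¹ = pt M (σ '' B) := by
  apply inj M (hA.conj_mem (hA.TH ht) (pt_V M B)) (pt_V M _)
  funext j
  obtain ⟨ρ, hρ⟩ := M.line t ht
  have h1 : M.e (t * pt M B * t⁻¹) j 1 = 0 := by
    have h2 := (hρ _ (pt_V M B) (ρ.symm j)).2 (e_pt_one M B _)
    rwa [ρ.apply_symm_apply] at h2
  have h2 : M.e (t * pt M B * t⁻¹) j = 0 ↔ j ∉ σ '' B := by
    have h3 := hσ _ (pt_V M B) (σ.symm j)
    rw [σ.apply_symm_apply, e_pt_ne_iff] at h3
    rw [h3, Equiv.image_eq_preimage_symm]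
    rfl
  by_cases hj : j ∈ σ '' B
  · rw [e_pt_mem M hj]
    exact (vec_cases hq h1).resolve_left fun h => (h2.1 h) hj
  · rw [e_pt_not M hj]
    exact h2.2 hj

theorem fix_univ {t : G} (ht : t ∈ T) : t * pt M Set.univ * t⁻¹ = pt M Set.univ := by
  obtain ⟨σ, hσ⟩ := M.perm t (hA.TH ht)
  rw [conj_pt hq hA ht hσ, Set.image_univ, σ.surjective.range_eq]

/-- `T = N_S(V_B)` centralises `v_B`. -/
theorem fix (hB : Blk M B) {t : G} (ht : t ∈ So M B) : t * pt M B * t⁻¹ = pt M B := by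
  obtain ⟨σ, hσ⟩ := M.perm t (hA.TH ht.1)
  rw [conj_pt hq hA ht.1 hσ, (mem_So hA hB ht.1 hσ).1 ht]

omit hq in
/-- the upper unitriangular elements are in `So` -/
theorem exists_unip : ∃ t ∈ T, (Mv M t 1) ∧ ∀ v ∈ V, ∀ i, M.e (t * v * t⁻¹) i = ap (up 1) (M.e v i) := by
  obtain ⟨t, ht, h1, -⟩ := M.unip fun _ => 1
  refine ⟨t, ht, fun v hv i => ?_, h1⟩
  rw [Equiv.Perm.one_apply, h1 v hv i]
  constructor
  · intro h2
    have h3 : ap (up (1 : F))⁻¹ (ap (up 1) (M.e v i)) = M.e v i := Cfsg.Agent.Omega.NatPair.ap_inv_ap _ _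
    rw [h2, ap_zero] at h3
    exact h3.symm
  · intro h2
    rw [h2, ap_zero]

omit hq in
theorem line_of_fix (hB : Blk M B) {v : G} (hv : v ∈ V) (hfix : ∀ t ∈ So M B, t * v * t⁻¹ = v) (i : Fin k) :
    M.e v i 1 = 0 := by
  obtain ⟨t, ht, h1, h2⟩ := exists_unip (M := M) hA
  have h3 : t ∈ So M B := by
    rw [mem_So hA hB ht h1]
    simp
  have h4 := h2 v hv i
  rw [hfix t h3] at h4
  have h5 := congrFun h4 0
  rw [ap_zero', up_00, up_01, one_mul, one_mul] at h5
  exact left_eq_add.1 h5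

omit hq in
theorem zero_iff (hB : Blk M B) {v : G} (hv : v ∈ V) (hfix : ∀ t ∈ So M B, t * v * t⁻¹ = v) {i j : Fin k}
    (hi : i ∈ B) (hj : j ∈ B) : M.e v i = 0 ↔ M.e v j = 0 := by
  obtain ⟨t, ht, σ, hσ, h1⟩ := exists_move hA hB hi hj
  have h2 := hσ v hv i
  rw [hfix t ht, h1] at h2
  exact h2.symm

/-- `C_V(T) = ⟨v_B, v_B'⟩`. -/
theorem fix_cases (hB : Blk M B) {v : G} (hv : v ∈ V) (hfix : ∀ t ∈ So M B, t * v * t⁻¹ = v) :
    v = 1 ∨ v = pt M B ∨ v = pt M Bᶜ ∨ v = pt M Set.univ := by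
  have hl := line_of_fix hA hB hv hfix
  have hfix' : ∀ t ∈ So M Bᶜ, t * v * t⁻¹ = v := by
    rw [So_compl hA hB]
    exact hfix
  obtain ⟨i, hi⟩ := hB.ne
  obtain ⟨j, hj⟩ := hB.ne'
  have key : ∀ x, M.e v x = 0 ∨ M.e v x = ![1, 0] := fun x => vec_cases hq (hl x)
  have hbi : ∀ x ∈ B, M.e v x = M.e v i := by
    intro x hx
    have h1 := zero_iff hA hB hv hfix hx hi
    rcases key x with h2 | h2 <;> rcases key i with h3 | h3
    · rw [h2, h3]
    · rw [h1.1 h2] at h3
      exact absurd h3.symm e11_ne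
    · rw [h1.2 h3] at h2
      exact absurd h2.symm e11_ne
    · rw [h2, h3]
  have hbj : ∀ x ∉ B, M.e v x = M.e v j := by
    intro x hx
    have h1 := zero_iff hA hB.compl hv hfix' (i := x) (j := j) hx hj
    rcases key x with h2 | h2 <;> rcases key j with h3 | h3
    · rw [h2, h3]
    · rw [h1.1 h2] at h3
      exact absurd h3.symm e11_ne
    · rw [h1.2 h3] at h2
      exact absurd h2.symm e11_ne
    · rw [h2, h3]
  have eqv : ∀ C : Set (Fin k), (∀ x, M.e v x = M.e (pt M C) x) → v = pt M C :=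
    fun C h => inj M hv (pt_V M C) (funext h)
  rcases key i with h2 | h2 <;> rcases key j with h3 | h3
  · left
    apply eq_one M hv
    funext x
    by_cases hx : x ∈ B
    · rw [hbi x hx, h2]; rfl
    · rw [hbj x hx, h3]; rfl
  · right; right; left
    refine eqv _ fun x => ?_
    by_cases hx : x ∈ B
    · rw [hbi x hx, h2, e_pt_not M fun h : x ∈ Bᶜ => h hx]
    · rw [hbj x hx, h3, e_pt_mem M hx]
  · right; left
    refine eqv _ fun x => ?_
    by_cases hx : x ∈ B
    · rw [hbi x hx, h2, e_pt_mem M hx]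
    · rw [hbj x hx, h3, e_pt_not M hx]
  · right; right; right
    refine eqv _ fun x => ?_
    rw [e_pt_mem M (Set.mem_univ x)]
    by_cases hx : x ∈ B
    · rw [hbi x hx, h2]
    · rw [hbj x hx, h3]

omit hq hA in
theorem compl_ne (hB : Blk M B) : B ≠ Bᶜ := by
  obtain ⟨i, hi⟩ := hB.ne
  intro h
  have h1 : i ∈ Bᶜ := h ▸ hi
  exact h1 hi

omit hq hA in
theorem ne_univ (hB : Blk M B) : B ≠ Set.univ := by
  obtain ⟨i, hi⟩ := hB.ne'
  intro h
  exact hi (h ▸ Set.mem_univ i)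

/-- `C_{V_B}(T) = ⟨v_B⟩`. -/
theorem fix_fac (hB : Blk M B) {v : G} (hv : v ∈ fac M B) (hfix : ∀ t ∈ So M B, t * v * t⁻¹ = v) :
    v = 1 ∨ v = pt M B := by
  obtain ⟨j, hj⟩ := hB.ne'
  have h0 := hv.2 j hj
  rcases fix_cases hq hA hB hv.1 hfix with h | h | h | h
  · exact Or.inl h
  · exact Or.inr h
  · rw [h, e_pt_mem M hj] at h0
    exact absurd h0 e11_ne
  · rw [h, e_pt_mem M (Set.mem_univ j)] at h0
    exact absurd h0 e11_ne

/-- `Ω₁Z(S) = ⟨z⟩`. -/
theorem mem_zc_iff (hB : Blk M B) {x : G} : x ∈ zc T ↔ x = 1 ∨ x = pt M Set.univ := by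
  constructor
  · intro hx
    have hV := hA.zc hx
    have hc : ∀ t ∈ T, t * x * t⁻¹ = x := fun t ht => by
      rw [(mem_zc.1 hx).2.1 t ht]
      group
    rcases fix_cases hq hA hB hV (fun t ht => hc t ht.1) with h | h | h | h
    · exact Or.inl h
    · exfalso
      obtain ⟨s, hs, hns⟩ := exists_swap hA hB
      obtain ⟨σ, hσ⟩ := exists_mv (M := M) hA hs
      have h1 := hB.blk s hs σ hσ
      have h2 : σ '' B = Bᶜ := h1.resolve_left fun h3 => hns ((mem_So hA hB hs hσ).2 h3)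
      have h3 := conj_pt hq hA hs hσ B
      rw [← h, hc s hs, h, h2] at h3
      exact pt_ne_of_ne M (compl_ne hB) h3
    · exfalso
      obtain ⟨s, hs, hns⟩ := exists_swap hA hB.compl
      obtain ⟨σ, hσ⟩ := exists_mv (M := M) hA hs
      have h1 := hB.compl.blk s hs σ hσ
      have h2 : σ '' Bᶜ = Bᶜᶜ := h1.resolve_left fun h3 => hns ((mem_So hA hB.compl hs hσ).2 h3)
      have h3 := conj_pt hq hA hs hσ Bᶜ
      rw [← h, hc s hs, h, h2] at h3
      exact pt_ne_of_ne M (compl_ne hB.compl) h3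
    · exact Or.inr h
  · rintro (rfl | rfl)
    · exact one_mem _
    · refine mem_zc.2 ⟨hA.VT (pt_V M _), fun t ht => ?_, hA.sq _ (pt_V M _)⟩
      have h1 := fix_univ (M := M) hq hA ht
      calc t * pt M Set.univ = t * pt M Set.univ * t⁻¹ * t := by group
        _ = pt M Set.univ * t := by rw [h1]

end fix

/-! ### `Ω₁Z(T)`, `T = N_S(V_B)` -/

section zcSo

variable {M : NatK F T H V ⊥ k} {B : Set (Fin k)} (hq : Nat.card F = 2) (hA : Amb T H V) (hB : Blk M B)

include hA hB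

theorem So_mul {a b : G} (ha : a ∈ T) (hb : b ∈ T) (ha' : a ∉ So M B) (hb' : b ∉ So M B) : a * b ∈ So M B := by
  obtain ⟨σ, hσ⟩ := exists_mv (M := M) hA ha
  obtain ⟨ρ, hρ⟩ := exists_mv (M := M) hA hb
  have h1 : Mv M (a * b) (σ * ρ) := by
    intro v hv i
    have e1 : a * b * v * (a * b)⁻¹ = a * (b * v * b⁻¹) * a⁻¹ := by group
    rw [e1, Equiv.Perm.mul_apply, hσ _ (hA.conj_mem (hA.TH hb) hv), hρ v hv]
  rw [mem_So hA hB ha hσ] at ha'
  rw [mem_So hA hB hb hρ] at hb'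
  rw [mem_So hA hB (mul_mem ha hb) h1]
  have h2 := (hB.blk a ha σ hσ).resolve_left ha'
  have h3 := (hB.blk b hb ρ hρ).resolve_left hb'
  rw [Equiv.Perm.coe_mul, Set.image_comp, h3, image_compl, h2, compl_compl]

theorem le_normalizer_So : T ≤ normalizer (So M B : Set G) := by
  have key : ∀ s ∈ T, ∀ t ∈ So M B, s * t * s⁻¹ ∈ So M B := by
    intro s hs t ht
    by_cases hsS : s ∈ So M B
    · exact mul_mem (mul_mem hsS ht) (inv_mem hsS)
    · by_contra h1
      have h2 := So_mul hA hB (mul_mem (mul_mem hs ht.1) (inv_mem hs)) hs h1 hsS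
      have h3 : s * t * s⁻¹ * s = s * t := by group
      rw [h3] at h2
      exact hsS ((Subgroup.mul_mem_cancel_right _ ht).1 h2)
  intro s hs
  rw [mem_normalizer_iff]
  intro t
  refine ⟨key s hs t, fun h => ?_⟩
  have := key s⁻¹ (inv_mem hs) _ h
  simpa [mul_assoc] using this

theorem V_le_So : V ≤ So M B := by
  refine le_inf hA.VT fun v hv => ?_
  rw [mem_normalizer_iff]
  intro x
  constructor
  · intro hx
    have : v * x * v⁻¹ = x := by rw [hA.comm v hv x hx.1]; group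
    rwa [this]
  · intro hx
    have h1 := hA.comm v hv _ hx.1
    have h2 : x = v * x * v⁻¹ := by
      have h3 : v * (v * x * v⁻¹) = v * x := by rw [h1]; group
      exact (mul_left_cancel h3).symm
    rwa [h2]

include hq

/-- an element of `S` outside `T` exchanges `v_B` and `v_B'` -/
theorem conj_swap {s : G} (hs : s ∈ T) (hns : s ∉ So M B) : s * pt M B * s⁻¹ = pt M Bᶜ := by
  obtain ⟨σ, hσ⟩ := exists_mv (M := M) hA hs
  have h1 := hB.blk s hs σ hσ
  have h2 : σ '' B = Bᶜ := h1.resolve_left fun h3 => hns ((mem_So hA hB hs hσ).2 h3)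
  rw [conj_pt hq hA hs hσ, h2]

theorem conj_swap' {s : G} (hs : s ∈ T) (hns : s ∉ So M B) : s * pt M Bᶜ * s⁻¹ = pt M B := by
  have hns' : s ∉ So M Bᶜ := by rwa [So_compl hA hB]
  rw [conj_swap hq hA hB.compl hs hns', compl_compl]

theorem pt_mem_zc_So : pt M B ∈ zc (So M B) := by
  refine mem_zc.2 ⟨V_le_So hA hB (pt_V M B), fun t ht => ?_, hA.sq _ (pt_V M _)⟩
  have h1 := fix hq hA hB ht
  calc t * pt M B = t * pt M B * t⁻¹ * t := by group
    _ = pt M B * t := by rw [h1]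

theorem pt_compl_mem_zc_So : pt M Bᶜ ∈ zc (So M B) := by
  have h := pt_mem_zc_So hq hA hB.compl
  rwa [So_compl hA hB] at h

theorem fixT {s x : G} (hs : s ∈ T) (hns : s ∉ So M B) (hx : x ∈ zc (So M B)) (h1 : s * x * s⁻¹ = x) :
    x ∈ zc T := by
  refine mem_zc.2 ⟨(mem_zc.1 hx).1.1, fun t ht => ?_, (mem_zc.1 hx).2.2⟩
  by_cases htS : t ∈ So M B
  · exact (mem_zc.1 hx).2.1 t htS
  · have h2 : t * s ∈ So M B := So_mul hA hB ht hs htS hns
    have h3 := (mem_zc.1 hx).2.1 _ h2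
    have h4 : s * x = x * s := by
      calc s * x = s * x * s⁻¹ * s := by group
        _ = x * s := by rw [h1]
    have h5 : t * x * s = x * t * s := by
      rw [mul_assoc t x s, ← h4, ← mul_assoc, h3, mul_assoc]
    exact mul_right_cancel h5

/-- **`Ω₁Z(T) = ⟨v_B, v_B'⟩`.** -/
theorem mem_zc_So_iff {x : G} : x ∈ zc (So M B) ↔ x = 1 ∨ x = pt M B ∨ x = pt M Bᶜ ∨ x = pt M Set.univ := by
  constructor
  · intro hx
    obtain ⟨s, hs, hns⟩ := exists_swap hA hB
    have hss : s * s ∈ So M B := So_mul hA hB hs hs hns hns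
    have hsx : s * x * s⁻¹ ∈ zc (So M B) :=
      (mem_normalizer_iff.1 (normalizer_le_normalizer_zc _ (le_normalizer_So hA hB hs)) x).1 hx
    have hcomm : x * (s * x * s⁻¹) = (s * x * s⁻¹) * x := (mem_zc.1 hsx).2.1 _ (mem_zc.1 hx).1
    have hxx : ∀ y ∈ zc (So M B), y * y = 1 := fun y hy => by
      have := (mem_zc.1 hy).2.2
      rwa [pow_two] at this
    have hyT : x * (s * x * s⁻¹) ∈ zc T := by
      refine fixT hq hA hB hs hns (mul_mem hx hsx) ?_
      have h1 : s * s * x = x * (s * s) := (mem_zc.1 hx).2.1 _ hss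
      calc s * (x * (s * x * s⁻¹)) * s⁻¹ = (s * x * s⁻¹) * (s * s * x * (s * s)⁻¹) := by group
        _ = (s * x * s⁻¹) * x := by rw [h1]; group
        _ = x * (s * x * s⁻¹) := hcomm.symm
    rcases (mem_zc_iff hq hA hB).1 hyT with h1 | h1
    · have h2 : s * x * s⁻¹ = x := by
        have h3 : x * (s * x * s⁻¹) = x * x := by rw [h1, hxx x hx]
        exact mul_left_cancel h3
      rcases (mem_zc_iff hq hA hB).1 (fixT hq hA hB hs hns hx h2) with h4 | h4
      · exact Or.inl h4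
      · exact Or.inr (Or.inr (Or.inr h4))
    · have hb := pt_mem_zc_So hq hA hB
      have hx' : x * pt M B ∈ zc (So M B) := mul_mem hx hb
      have h2 : s * (x * pt M B) * s⁻¹ = x * pt M B := by
        have e1 : s * (x * pt M B) * s⁻¹ = (s * x * s⁻¹) * (s * pt M B * s⁻¹) := by group
        have e2 : s * x * s⁻¹ = x * pt M Set.univ := by
          rw [← h1, ← mul_assoc, hxx x hx, one_mul]
        rw [e1, e2, conj_swap hq hA hB hs hns, ← pt_mul M B, ← mul_assoc, mul_assoc _ (pt M Bᶜ) (pt M Bᶜ),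
          sq_one hA (pt_V M _), mul_one]
      rcases (mem_zc_iff hq hA hB).1 (fixT hq hA hB hs hns hx' h2) with h4 | h4
      · right; left
        calc x = x * (pt M B * pt M B) := by rw [sq_one hA (pt_V M _), mul_one]
          _ = x * pt M B * pt M B := by group
          _ = pt M B := by rw [h4, one_mul]
      · right; right; left
        calc x = x * (pt M B * pt M B) := by rw [sq_one hA (pt_V M _), mul_one]
          _ = x * pt M B * pt M B := by group
          _ = pt M B * pt M Bᶜ * pt M B := by rw [h4, pt_mul]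
          _ = pt M B * (pt M Bᶜ * pt M B) := by group
          _ = pt M B * (pt M B * pt M Bᶜ) := by rw [hA.comm _ (pt_V M Bᶜ) _ (pt_V M B)]
          _ = pt M Bᶜ := by rw [← mul_assoc, sq_one hA (pt_V M _), one_mul]
  · rintro (rfl | rfl | rfl | rfl)
    · exact one_mem _
    · exact pt_mem_zc_So hq hA hB
    · exact pt_compl_mem_zc_So hq hA hB
    · rw [← pt_mul M B]
      exact mul_mem (pt_mem_zc_So hq hA hB) (pt_compl_mem_zc_So hq hA hB)

theorem card_zc_So : Nat.card (zc (So M B)) = 4 := by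
  have h1 : ((zc (So M B) : Subgroup G) : Set G) = {1, pt M B, pt M Bᶜ, pt M Set.univ} := by
    ext x
    rw [SetLike.mem_coe, mem_zc_So_iff hq hA hB]
    simp
  have h2 : Nat.card (zc (So M B)) = ((zc (So M B) : Subgroup G) : Set G).ncard := rfl
  have n1 : pt M B ≠ 1 := pt_ne M hB.ne
  have n2 : pt M Bᶜ ≠ 1 := pt_ne M hB.ne'
  have n3 : pt M Set.univ ≠ 1 := pt_ne M (hB.ne.mono (Set.subset_univ _))
  have n4 : pt M B ≠ pt M Bᶜ := pt_ne_of_ne M (compl_ne hB)
  have n5 : pt M B ≠ pt M Set.univ := pt_ne_of_ne M (ne_univ hB)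
  have n6 : pt M Bᶜ ≠ pt M Set.univ := pt_ne_of_ne M (ne_univ hB.compl)
  rw [h2, h1, Set.ncard_insert_of_notMem, Set.ncard_insert_of_notMem, Set.ncard_pair n6]
  · simp [n4, n5]
  · simp [n1.symm, n2.symm, n3.symm]

end zcSo

end Cfsg.Agent.Omega.OM.KTwo

end

section


/-!
# NO-3S, sums of natural `SL₂(2)`-modules: `T` is a Sylow subgroup of `C_G(v_B)` (helper790 #14826 (1))

`h : Hyp S P`, `M : NatK F S P V_P ⊥ k`, `|F| = 2`, `B` a block of `S`, `T = So M B = N_S(V_B)`, `v_B = pt M B`,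
`z = pt M univ`, `Ω₁Z(S) = ⟨z⟩`, `Y = Ω₁Z(T) = ⟨v_B, v_B'⟩`.

* `gen_fac` : `P = ⟨S, C_P(V_B), C_P(V_B')⟩`;
* `nonLoc_of_par` : `P' ∈ P*(S)`, `P' ≤ N_G(T)` implies `|V_P'| = 4` and `⟨P', C_G(z)⟩` nonlocal;
* `syl_centralizer`, `syl_normalizer` : if no `P' ∈ P*(S)` with `|V_P'| = 4` and `⟨P', C_G(z)⟩` nonlocal exists, then
  `T` is a Sylow 2-subgroup of `C_G(v_B)` and of `N_G(V_B)`.
-/

set_option autoImplicit false
set_option linter.unusedSectionVars false

namespace Cfsg.Agent.Omega.OM.KTwo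

open Subgroup Cfsg Cfsg.Agent.ZN Cfsg.Agent.Omega.FFThm Cfsg.Agent.Omega.MinPar
open Cfsg.Agent.Omega.Half Cfsg.Agent.Omega.Half.NatA
open Cfsg.Agent.Omega.NatPair (ap ap_one)
open Cfsg.Agent.Omega.NO3S Cfsg.Agent.Omega.FrameNOFF
open Cfsg.Agent.ZN.ChoiceSit (Syl)
open Cfsg.Agent.MinSimple.VModule (mem_zc zc_le normalizer_le_normalizer_zc zc_le_zl le_normalizer_zl zl_le)

universe u

variable {G : Type u} [Group G] {F : Type} [Field F] {k : ℕ}

section gen

variable {T H V : Subgroup G} {M : NatK F T H V ⊥ k} {B : Set (Fin k)} (hA : Amb T H V)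

include hA

theorem mem_centralizer_of_e {x y : G} (hx : x ∈ H) (hy : y ∈ H)
    (hxy : ∀ v ∈ V, M.e (x * v * x⁻¹) = M.e (y * v * y⁻¹)) : x⁻¹ * y ∈ centralizer (V : Set G) := by
  rw [mem_centralizer_iff]
  intro v hv
  have h1 : x * v * x⁻¹ = y * v * y⁻¹ := inj M (hA.conj_mem hx hv) (hA.conj_mem hy hv) (hxy v hv)
  calc v * (x⁻¹ * y) = x⁻¹ * (x * v * x⁻¹) * y := by group
    _ = x⁻¹ * (y * v * y⁻¹) * y := by rw [h1]
    _ = x⁻¹ * y * v := by group

theorem mem_centralizer_fac {x : G} (hx : x ∈ H) {C : Set (Fin k)}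
    (hxC : ∀ v ∈ V, ∀ i ∉ C, M.e v i = 0 → M.e (x * v * x⁻¹) i = 0)
    (hxC' : ∀ v ∈ V, ∀ i ∈ C, M.e (x * v * x⁻¹) i = M.e v i) : x ∈ centralizer (fac M C : Set G) := by
  rw [mem_centralizer_iff]
  intro v hv
  have hv' : v ∈ fac M C := hv
  have h1 : x * v * x⁻¹ = v := by
    apply inj M (hA.conj_mem hx hv'.1) hv'.1
    funext i
    by_cases hi : i ∈ C
    · exact hxC' v hv'.1 i hi
    · rw [hv'.2 i hi]
      exact hxC v hv'.1 i hi (hv'.2 i hi)
  calc v * x = x * v * x⁻¹ * x := by rw [h1]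
    _ = x * v := by group

/-- `P = ⟨S, C_P(V_B), C_P(V_B')⟩`. -/
theorem gen_fac {K : Subgroup G} (hS : T ≤ K) (h1 : H ⊓ centralizer (fac M B : Set G) ≤ K)
    (h2 : H ⊓ centralizer (fac M Bᶜ : Set G) ≤ K) : H ≤ K := by
  classical
  refine M.gen K hS fun x hx A hxA => ?_
  obtain ⟨g, hg, hgA, -⟩ := M.lift fun i => if i ∈ B then 1 else A i
  obtain ⟨g', hg', hgA', -⟩ := M.lift fun i => if i ∈ B then A i else 1
  replace hgA : ∀ v ∈ V, ∀ i, M.e (g * v * g⁻¹) i = ap (if i ∈ B then 1 else A i) (M.e v i) := hgA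
  replace hgA' : ∀ v ∈ V, ∀ i, M.e (g' * v * g'⁻¹) i = ap (if i ∈ B then A i else 1) (M.e v i) := hgA'
  have hgc : g ∈ centralizer (fac M B : Set G) := by
    refine mem_centralizer_fac hA hg (fun v hv i hi h0 => ?_) fun v hv i hi => ?_
    · rw [hgA v hv i, h0, ap_zero]
    · rw [hgA v hv i, if_pos hi, ap_one]
  have hgc' : g' ∈ centralizer (fac M Bᶜ : Set G) := by
    refine mem_centralizer_fac hA hg' (fun v hv i hi h0 => ?_) fun v hv i hi => ?_
    · rw [hgA' v hv i, h0, ap_zero]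
    · rw [hgA' v hv i, if_neg (show i ∉ B from hi), ap_one]
  have hc : (g' * g)⁻¹ * x ∈ centralizer (V : Set G) := by
    refine mem_centralizer_of_e hA (M := M) (mul_mem hg' hg) hx fun v hv => ?_
    have e1 : g' * g * v * (g' * g)⁻¹ = g' * (g * v * g⁻¹) * g'⁻¹ := by group
    funext i
    rw [e1, hgA' _ (hA.conj_mem hg hv) i, hgA v hv i, hxA.1 v hv i]
    by_cases hi : i ∈ B
    · rw [if_pos hi, if_pos hi, ap_one]
    · rw [if_neg hi, if_neg hi, ap_one]
  have e2 : x = g' * g * ((g' * g)⁻¹ * x) := by group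
  rw [e2]
  exact mul_mem (mul_mem (h2 ⟨hg', hgc'⟩) (h1 ⟨hg, hgc⟩))
    (h1 ⟨H.mul_mem (H.inv_mem (H.mul_mem hg' hg)) hx, centralizer_le (fac_le M B) hc⟩)

end gen

section frame

variable [Finite G] {S : Sylow 2 G} {P : Subgroup G} (h : Hyp S P) (hq : Nat.card F = 2)
  {M : NatK F (S : Subgroup G) P (zl (S : Subgroup G) P) ⊥ k} {B : Set (Fin k)} (hB : Blk M B)

theorem amb (h : Hyp S P) : Amb (S : Subgroup G) P (zl (S : Subgroup G) P) :=
  amb_of_loc h.ctx.char2 S h.star.isLoc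

include h hq hB

theorem z_mem : pt M Set.univ ∈ zc (S : Subgroup G) := (mem_zc_iff hq (amb h) hB).2 (Or.inr rfl)

theorem z_ne : pt M Set.univ ≠ 1 := pt_ne M (hB.ne.mono (Set.subset_univ _))

theorem mem_CZ_iff {g : G} : g ∈ CZ (S : Subgroup G) ↔ g * pt M Set.univ * g⁻¹ = pt M Set.univ := by
  constructor
  · intro hg
    have h1 := mem_centralizer_iff.1 hg _ (z_mem h hq hB)
    rw [← h1]
    group
  · intro hg
    rw [mem_centralizer_iff]
    intro x hx
    rcases (mem_zc_iff hq (amb h) hB).1 hx with rfl | rfl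
    · rw [one_mul, mul_one]
    · calc pt M Set.univ * g = g * pt M Set.univ * g⁻¹ * g := by rw [hg]
        _ = g * pt M Set.univ := by group

theorem CZ_eq : CZ (S : Subgroup G) = centralizer ({pt M Set.univ} : Set G) := by
  ext g
  rw [mem_CZ_iff h hq hB, mem_centralizer_singleton_iff]
  exact mul_inv_eq_iff_eq_mul

theorem normalizer_zc_le : normalizer (zc (S : Subgroup G) : Set G) ≤ CZ (S : Subgroup G) := by
  intro g hg
  rw [mem_CZ_iff h hq hB]
  have h1 := (mem_normalizer_iff.1 hg _).1 (z_mem h hq hB)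
  rcases (mem_zc_iff hq (amb h) hB).1 h1 with h2 | h2
  · exact absurd (conj_eq_one_iff.1 h2) (z_ne h hq hB)
  · exact h2

theorem card_zc : Nat.card (zc (S : Subgroup G)) = 2 := by
  have h1 : ((zc (S : Subgroup G) : Subgroup G) : Set G) = {1, pt M Set.univ} := by
    ext x
    rw [SetLike.mem_coe, mem_zc_iff hq (amb h) hB]
    simp
  have h2 : Nat.card (zc (S : Subgroup G)) = ((zc (S : Subgroup G) : Subgroup G) : Set G).ncard := rfl
  rw [h2, h1, Set.ncard_pair (z_ne h hq hB).symm]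

/-- If a 2-group `R > T` centralises `v_B`, then `N_G(T)` moves `z`. -/
theorem exists_move_z {R : Subgroup G} (hR : IsPGroup 2 R) (hTR : So M B ≤ R) (hne : R ≠ So M B)
    (hRc : ∀ r ∈ R, r * pt M B * r⁻¹ = pt M B) :
    R ≤ normalizer (So M B : Set G) ∧
      ∃ n ∈ normalizer (So M B : Set G), n * pt M Set.univ * n⁻¹ ≠ pt M Set.univ := by
  have hA := amb h
  -- orders
  have hcard := card_So hA hB
  have hrel : Nat.card (So M B) * (So M B).relIndex R = Nat.card R := Half.card_mul_relIndex hTR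
  have hle : Nat.card R ≤ Nat.card (S : Subgroup G) := card_le_sylow S hR
  have hne1 : (So M B).relIndex R ≠ 1 := fun h1 => hne (le_antisymm (relIndex_eq_one.1 h1) hTR)
  have hne0 : (So M B).relIndex R ≠ 0 := fun h1 => by
    rw [h1, mul_zero] at hrel
    exact Nat.card_pos.ne hrel
  have hT0 : 0 < Nat.card (So M B) := Nat.card_pos
  have hrel2 : (So M B).relIndex R = 2 := by
    have h1 : (So M B).relIndex R ≤ 2 := by
      by_contra h2
      push Not at h2
      have h3 : Nat.card (So M B) * 2 < Nat.card (So M B) * (So M B).relIndex R :=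
        Nat.mul_lt_mul_of_pos_left h2 hT0
      omega
    omega
  have hRS : Nat.card R = Nat.card (S : Subgroup G) := by
    rw [← hrel, hrel2, hcard, mul_comm]
  have hRn : R ≤ normalizer (So M B : Set G) := by
    have h1 : ((So M B).subgroupOf R).Normal := normal_of_index_eq_two hrel2
    exact (normal_subgroupOf_iff_le_normalizer hTR).1 h1
  refine ⟨hRn, ?_⟩
  -- `Ω₁Z(R)` has order 2
  have hzR : Nat.card (zc R) = 2 := by
    rw [card_zc_of_card_eq S hR hRS, card_zc h hq hB]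
  have hbR : pt M B ∈ zc R := by
    refine mem_zc.2 ⟨hTR (V_le_So hA hB (pt_V M B)), fun r hr => ?_, hA.sq _ (pt_V M B)⟩
    calc r * pt M B = r * pt M B * r⁻¹ * r := by group
      _ = pt M B * r := by rw [hRc r hr]
  obtain ⟨r, hr, hrc⟩ : ∃ r ∈ R, r * pt M Bᶜ * r⁻¹ ≠ pt M Bᶜ := by
    by_contra hcon
    push Not at hcon
    have hcR : pt M Bᶜ ∈ zc R := by
      refine mem_zc.2 ⟨hTR (V_le_So hA hB (pt_V M _)), fun r hr => ?_, hA.sq _ (pt_V M _)⟩
      calc r * pt M Bᶜ = r * pt M Bᶜ * r⁻¹ * r := by group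
        _ = pt M Bᶜ * r := by rw [hcon r hr]
    obtain ⟨y, -, hy⟩ := (Nat.card_eq_two_iff' (1 : zc R)).1 hzR
    have h1 := hy ⟨_, hbR⟩ fun h2 => pt_ne M hB.ne (congrArg Subtype.val h2)
    have h2 := hy ⟨_, hcR⟩ fun h2 => pt_ne M hB.ne' (congrArg Subtype.val h2)
    exact pt_ne_of_ne M (compl_ne hB) (congrArg Subtype.val (h1.trans h2.symm))
  have h1 : r * pt M Bᶜ * r⁻¹ ∈ zc (So M B) :=
    (mem_normalizer_iff.1 (normalizer_le_normalizer_zc _ (hRn hr)) _).1 (pt_compl_mem_zc_So hq hA hB)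
  refine ⟨r⁻¹, inv_mem (hRn hr), ?_⟩
  rcases (mem_zc_So_iff hq hA hB).1 h1 with h2 | h2 | h2 | h2
  · exact absurd (conj_eq_one_iff.1 h2) (pt_ne M hB.ne')
  · exfalso
    apply pt_ne_of_ne M (compl_ne hB)
    have h3 : r * pt M Bᶜ * r⁻¹ = r * pt M B * r⁻¹ := by rw [h2, hRc r hr]
    exact (mul_left_cancel (mul_right_cancel h3)).symm
  · exact absurd h2 hrc
  · rw [← h2]
    intro h3
    apply pt_ne_of_ne M (ne_univ hB.compl)
    rw [← h2, ← h3]
    group

/-- If `N_G(T)` moves `z` then it contains a member of `P*(S)`. -/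
theorem exists_par {n : G} (hn : n ∈ normalizer (So M B : Set G)) (hnz : n * pt M Set.univ * n⁻¹ ≠ pt M Set.univ) :
    ∃ P' : Subgroup G, IsParS (S : Subgroup G) P' ∧ P' ≤ normalizer (So M B : Set G) := by
  have hA := amb h
  have hT2 : IsPGroup 2 (So M B) := S.isPGroup'.to_le inf_le_left
  have hT1 : So M B ≠ ⊥ := fun h1 => pt_ne M hB.ne (by
    have := V_le_So hA hB (pt_V M B)
    rwa [h1, mem_bot] at this)
  have hL := isLoc_normalizer S hT2 hT1 (le_normalizer_So hA hB)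
  obtain ⟨P', h1, h2, h3⟩ := hL.exists_not_le (M := CZ (S : Subgroup G)) S
    (inf_le_right.trans ((normalizer_le_normalizer_zc _).trans (normalizer_zc_le h hq hB)))
    fun h1 => hnz ((mem_CZ_iff h hq hB).1 (h1 hn))
  exact ⟨P', ⟨h1, fun h4 => h3 (h4.trans (normalizer_zc_le h hq hB))⟩, h2⟩

/-- For `P' ∈ P*(S)`, `P' ≤ N_G(T)`: all points of `Y` are conjugate to `z` in `P'`. -/
theorem exists_conj_z {P' : Subgroup G} (hP' : IsParS (S : Subgroup G) P')
    (hn : P' ≤ normalizer (So M B : Set G)) :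
    (∃ p ∈ P', p * pt M Set.univ * p⁻¹ = pt M B) ∧ ∃ p ∈ P', p * pt M Set.univ * p⁻¹ = pt M Bᶜ := by
  have hA := amb h
  obtain ⟨s, hs, hns⟩ := exists_swap hA hB
  have hsP : s ∈ P' := hP'.isLoc.le hs
  obtain ⟨p, hp, hpz⟩ : ∃ p ∈ P', p * pt M Set.univ * p⁻¹ ≠ pt M Set.univ := by
    by_contra hcon
    push Not at hcon
    refine hP'.not_zc fun p hp => ?_
    exact centralizer_le_normalizer _ ((mem_CZ_iff h hq hB).2 (hcon p hp))
  have h1 : p * pt M Set.univ * p⁻¹ ∈ zc (So M B) :=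
    (mem_normalizer_iff.1 (normalizer_le_normalizer_zc _ (hn hp)) _).1
      ((mem_zc_So_iff hq hA hB).2 (Or.inr (Or.inr (Or.inr rfl))))
  rcases (mem_zc_So_iff hq hA hB).1 h1 with h2 | h2 | h2 | h2
  · exact absurd (conj_eq_one_iff.1 h2) (z_ne h hq hB)
  · refine ⟨⟨p, hp, h2⟩, s * p, mul_mem hsP hp, ?_⟩
    calc s * p * pt M Set.univ * (s * p)⁻¹ = s * (p * pt M Set.univ * p⁻¹) * s⁻¹ := by group
      _ = pt M Bᶜ := by rw [h2, conj_swap hq hA hB hs hns]
  · refine ⟨⟨s * p, mul_mem hsP hp, ?_⟩, p, hp, h2⟩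
    calc s * p * pt M Set.univ * (s * p)⁻¹ = s * (p * pt M Set.univ * p⁻¹) * s⁻¹ := by group
      _ = pt M B := by rw [h2, conj_swap' hq hA hB hs hns]
  · exact absurd h2 hpz

theorem zl_eq {P' : Subgroup G} (hP' : IsParS (S : Subgroup G) P') (hn : P' ≤ normalizer (So M B : Set G)) :
    zl (S : Subgroup G) P' = zc (So M B) := by
  have hA := amb h
  obtain ⟨⟨p, hp, h1⟩, p', hp', h2⟩ := exists_conj_z h hq hB hP' hn
  have hz := z_mem h hq hB
  have hzl : pt M Set.univ ∈ zl (S : Subgroup G) P' := zc_le_zl _ _ hz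
  have hconj : ∀ p ∈ P', p * pt M Set.univ * p⁻¹ ∈ zl (S : Subgroup G) P' := fun p hp =>
    (mem_normalizer_iff.1 (le_normalizer_zl _ _ hp) _).1 hzl
  apply le_antisymm
  · refine zl_le ?_ (hn.trans (normalizer_le_normalizer_zc _))
    intro x hx
    rw [mem_zc_So_iff hq hA hB]
    rcases (mem_zc_iff hq hA hB).1 hx with h3 | h3
    · exact Or.inl h3
    · exact Or.inr (Or.inr (Or.inr h3))
  · intro x hx
    rcases (mem_zc_So_iff hq hA hB).1 hx with rfl | rfl | rfl | rfl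
    · exact one_mem _
    · rw [← h1]; exact hconj p hp
    · rw [← h2]; exact hconj p' hp'
    · exact hzl

/-- `P' ∈ P*(S)`, `P' ≤ N_G(T)`: `|V_P'| = 4` and `⟨P', C_G(z)⟩` is nonlocal. -/
theorem nonLoc_of_par {P' : Subgroup G} (hP' : IsParS (S : Subgroup G) P')
    (hn : P' ≤ normalizer (So M B : Set G)) :
    Nat.card (zl (S : Subgroup G) P') = 4 ∧ NonLoc P' (CZ (S : Subgroup G)) := by
  have hA := amb h
  refine ⟨by rw [zl_eq h hq hB hP' hn, card_zc_So hq hA hB], fun U hU h1 h2 => ?_⟩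
  obtain ⟨⟨p, hp, h3⟩, p', hp', h4⟩ := exists_conj_z h hq hB hP' hn
  -- centralisers of conjugates of `z`
  have key : ∀ p ∈ P', ∀ v, p * pt M Set.univ * p⁻¹ = v → centralizer ({v} : Set G) ≤ normalizer (U : Set G) := by
    intro p hp v hv x hx
    rw [mem_centralizer_singleton_iff] at hx
    have h5 : p⁻¹ * x * p ∈ CZ (S : Subgroup G) := by
      rw [mem_CZ_iff h hq hB]
      have h6 : x * v * x⁻¹ = v := by rw [hx]; group
      calc p⁻¹ * x * p * pt M Set.univ * (p⁻¹ * x * p)⁻¹ = p⁻¹ * (x * (p * pt M Set.univ * p⁻¹) * x⁻¹) * p := by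
            group
        _ = p⁻¹ * (p * pt M Set.univ * p⁻¹) * p := by rw [hv, h6]
        _ = pt M Set.univ := by group
    have h6 := mul_mem (mul_mem (h1 hp) (h2 h5)) (inv_mem (h1 hp))
    have e : p * (p⁻¹ * x * p) * p⁻¹ = x := by group
    rwa [e] at h6
  refine h.nonLoc U hU (gen_fac hA (M := M) (B := B) (hP'.isLoc.le.trans h1) ?_ ?_) h2
  · refine le_trans ?_ (key p hp _ h3)
    refine inf_le_right.trans (centralizer_le ?_)
    exact Set.singleton_subset_iff.2 (pt_mem M B)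
  · refine le_trans ?_ (key p' hp' _ h4)
    refine inf_le_right.trans (centralizer_le ?_)
    exact Set.singleton_subset_iff.2 (pt_mem M Bᶜ)

/-- **(1)** `T` is a Sylow 2-subgroup of `C_G(v_B)`. -/
theorem syl_centralizer (hno : ∀ P' : Subgroup G, IsParS (S : Subgroup G) P' → NonLoc P' (CZ (S : Subgroup G)) →
      Nat.card (zl (S : Subgroup G) P') ≠ 4) :
    Syl (So M B) (centralizer ({pt M B} : Set G)) := by
  have hA := amb h
  refine ⟨fun t ht => ?_, S.isPGroup'.to_le inf_le_left, fun R hR hR2 hTR => ?_⟩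
  · rw [mem_centralizer_singleton_iff]
    have h1 := fix hq hA hB ht
    calc t * pt M B = t * pt M B * t⁻¹ * t := by group
      _ = pt M B * t := by rw [h1]
  · by_contra hne
    obtain ⟨-, n, hn, hnz⟩ := exists_move_z h hq hB hR2 hTR hne fun r hr => by
      have h1 := mem_centralizer_singleton_iff.1 (hR hr)
      rw [h1]
      group
    obtain ⟨P', hP', hP'n⟩ := exists_par h hq hB hn hnz
    obtain ⟨h1, h2⟩ := nonLoc_of_par h hq hB hP' hP'n
    exact hno P' hP' h2 h1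

/-- **(1)** `T` is a Sylow 2-subgroup of `N_G(V_B)`. -/
theorem syl_normalizer (hno : ∀ P' : Subgroup G, IsParS (S : Subgroup G) P' → NonLoc P' (CZ (S : Subgroup G)) →
      Nat.card (zl (S : Subgroup G) P') ≠ 4) :
    Syl (So M B) (normalizer (fac M B : Set G)) := by
  have hA := amb h
  have hS := syl_centralizer h hq hB hno
  refine ⟨inf_le_right, S.isPGroup'.to_le inf_le_left, fun R hR hR2 hTR => ?_⟩
  by_contra hne
  -- a subgroup `R₁` of `R` with `|R₁ : T| = 2`... `N_R(T) > T`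
  have hlt : So M B < R := lt_of_le_of_ne hTR (Ne.symm hne)
  obtain ⟨r, hr, hrT, hrn⟩ : ∃ r ∈ R, r ∉ So M B ∧ r ∈ normalizer (So M B : Set G) := by
    have : Fact (Nat.Prime 2) := ⟨Nat.prime_two⟩
    have hnil : Group.IsNilpotent R := hR2.isNilpotent
    have h1 : (So M B).subgroupOf R < ⊤ := by
      rw [lt_top_iff_ne_top, Ne, subgroupOf_eq_top]
      exact fun h2 => hlt.not_ge h2
    have h2 := Group.normalizerCondition_of_isNilpotent _ h1
    obtain ⟨r, hr1, hr2⟩ := SetLike.exists_of_lt h2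
    refine ⟨r, r.2, fun h3 => hr2 (mem_subgroupOf.2 h3), ?_⟩
    rw [mem_normalizer_iff] at hr1 ⊢
    intro x
    constructor
    · intro hx
      have := (hr1 ⟨x, hTR hx⟩).1 (mem_subgroupOf.2 hx)
      exact mem_subgroupOf.1 this
    · intro hx
      have hxR : x ∈ R := by
        have h4 := mul_mem (mul_mem (inv_mem r.2) (hTR hx)) r.2
        have e : (r : G)⁻¹ * ((r : G) * x * (r : G)⁻¹) * r = x := by group
        rwa [e] at h4
      exact mem_subgroupOf.1 ((hr1 ⟨x, hxR⟩).2 (mem_subgroupOf.2 hx))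
  -- `r` centralises `v_B`
  have hrc : r * pt M B * r⁻¹ = pt M B := by
    have h1 : r * pt M B * r⁻¹ ∈ fac M B := (mem_normalizer_iff.1 (hR hr) _).1 (pt_mem M B)
    rcases fix_fac hq hA hB h1 (fun t ht => by
      have h2 : r⁻¹ * t * r ∈ So M B := by
        have := (mem_normalizer_iff.1 (inv_mem hrn) t).1 ht
        rwa [inv_inv] at this
      have h3 := fix hq hA hB h2
      calc t * (r * pt M B * r⁻¹) * t⁻¹ = r * ((r⁻¹ * t * r) * pt M B * (r⁻¹ * t * r)⁻¹) * r⁻¹ := by group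
        _ = r * pt M B * r⁻¹ := by rw [h3]) with h2 | h2
    · exact absurd (conj_eq_one_iff.1 h2) (pt_ne M hB.ne)
    · exact h2
  -- `⟨T, r⟩` contradicts `syl_centralizer`
  have hsup : So M B ⊔ zpowers r ≤ centralizer ({pt M B} : Set G) := by
    refine sup_le hS.1 ((zpowers_le).2 ?_)
    rw [mem_centralizer_singleton_iff]
    calc r * pt M B = r * pt M B * r⁻¹ * r := by group
      _ = pt M B * r := by rw [hrc]
  have hsupR : So M B ⊔ zpowers r ≤ R := sup_le hTR ((zpowers_le).2 hr)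
  have h1 := hS.2.2 _ hsup (hR2.to_le hsupR) le_sup_left
  apply hrT
  rw [← h1]
  exact le_sup_right (a := So M B) (mem_zpowers r)

end frame

end Cfsg.Agent.Omega.OM.KTwo

end

section


/-!
# NO-3S, `V_P` the sum of two natural `SL₂(2)`-modules: the situation (helper790 #14826)

`Sit S P T U v` : `V_P = U 0 × U 1` (four-groups), `T = N_S(U i)`, `v i ∈ U i` centralised by `T`,
`Ω₁Z(T) = ⟨v 0, v 1⟩`, `Ω₁Z(S) = ⟨v 0 v 1⟩`; `T` is a Sylow 2-subgroup of `C_G(v i)` and `N_G(U i)` ((1));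
`U j ≤ Z(O₂(C_G(v i)))` for `i ≠ j` (HALF LEMMA, (2)).

* `exists_sit` : `Hyp S P`, `NatK` with `k = 2`, `|F| = 2` and no `P' ∈ P*(S)` with `|V_P'| = 4`, `⟨P', C_G(z)⟩` nonlocal
  give `Sit`.
-/

set_option autoImplicit false
set_option linter.unusedSectionVars false

namespace Cfsg.Agent.Omega.OM.KTwo

open Subgroup Cfsg Cfsg.Agent.ZN Cfsg.Agent.Omega.FFThm Cfsg.Agent.Omega.MinPar
open Cfsg.Agent.Omega.Half Cfsg.Agent.Omega.Half.NatA
open Cfsg.Agent.Omega.NatPair (ap ap_one exists_ap)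
open Cfsg.Agent.Omega.NO3S Cfsg.Agent.Omega.FrameNOFF
open Cfsg.Agent.ZN.ChoiceSit (Syl)
open Cfsg.Agent.MinSimple.VModule (mem_zc zc_le normalizer_le_normalizer_zc zc_le_zl le_normalizer_zl zl_le)
open scoped Pointwise

universe u

variable {G : Type u} [Group G]

/-- **The situation of NO-3S, `k = 2`, `q = 2`.** -/
structure Sit [Finite G] (S : Sylow 2 G) (P T : Subgroup G) (U : Fin 2 → Subgroup G) (v : Fin 2 → G) : Prop where
  hyp : Hyp S P
  T_eq : ∀ i, T = (S : Subgroup G) ⊓ normalizer (U i : Set G)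
  card_T : Nat.card (S : Subgroup G) = 2 * Nat.card T
  le : ∀ i, U i ≤ zl (S : Subgroup G) P
  four : ∀ i, Nat.card (U i) = 4
  inf : ∀ i j, i ≠ j → U i ⊓ U j = ⊥
  sup : ∀ i j, i ≠ j → zl (S : Subgroup G) P ≤ U i ⊔ U j
  mem : ∀ i, v i ∈ U i
  ne : ∀ i, v i ≠ 1
  cen : ∀ i, ∀ t ∈ T, t * v i * t⁻¹ = v i
  zT : ∀ x, x ∈ zc T ↔ x = 1 ∨ x = v 0 ∨ x = v 1 ∨ x = v 0 * v 1
  zS : ∀ x, x ∈ zc (S : Subgroup G) ↔ x = 1 ∨ x = v 0 * v 1
  /-- `S` exchanges `U 0` and `U 1` -/
  swap : ∃ s ∈ (S : Subgroup G), s * s ∈ T ∧ ∀ i j, i ≠ j → MulAut.conj s • U i = U j ∧ s * v i * s⁻¹ = v j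
  perm : ∀ p ∈ P, ∃ σ : Equiv.Perm (Fin 2), ∀ i, MulAut.conj p • U i = U (σ i)
  /-- `C_P(U j)` is transitive on the involutions of `U i` -/
  tr : ∀ i j, i ≠ j → ∀ x ∈ U i, x ≠ 1 → ∃ l ∈ P, l ∈ centralizer (U j : Set G) ∧ MulAut.conj l • U i = U i ∧
    l * v i * l⁻¹ = x
  gen : ∀ K : Subgroup G, (S : Subgroup G) ≤ K → (∀ i, P ⊓ centralizer (U i : Set G) ≤ K) → P ≤ K
  syl : ∀ i, Syl T (centralizer ({v i} : Set G))
  sylN : ∀ i, Syl T (normalizer (U i : Set G))
  half : ∀ i j, i ≠ j → U j ≤ o2 (centralizer ({v i} : Set G)) ∧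
    o2 (centralizer ({v i} : Set G)) ≤ centralizer (U j : Set G)

section two

variable {F : Type} [Field F] {T H V : Subgroup G} (M : NatK F T H V ⊥ 2)

theorem compl_two {i j : Fin 2} (hij : i ≠ j) : ({i} : Set (Fin 2))ᶜ = {j} := by
  ext x
  simp only [Set.mem_compl_iff, Set.mem_singleton_iff]
  revert i j x
  decide

theorem card_fac (hq : Nat.card F = 2) (i : Fin 2) : Nat.card (fac M {i}) = 4 := by
  have hF : Finite F := Nat.finite_of_card_ne_zero (by rw [hq]; norm_num)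
  have h1 : Nat.card (Fin 2 → F) = Nat.card (fac M {i}) := by
    refine (Nat.card_congr (Equiv.ofBijective (fun v : fac M {i} => M.e (v : G) i) ⟨?_, ?_⟩)).symm
    · intro v w hvw
      apply Subtype.ext
      apply inj M v.2.1 w.2.1
      funext x
      by_cases hx : x = i
      · rw [hx]; exact hvw
      · rw [v.2.2 x hx, w.2.2 x hx]
    · intro x
      obtain ⟨v, hv, hx⟩ := exists_fac M {i} fun _ => x
      exact ⟨⟨v, hv⟩, hx i rfl⟩
  rw [← h1]
  simp [Nat.card_fun, hq]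

theorem le_fac_sup {i j : Fin 2} (hij : i ≠ j) : V ≤ fac M {i} ⊔ fac M {j} := by
  intro v hv
  obtain ⟨w, hw, hwi⟩ := exists_fac M {i} (M.e v)
  have h1 : w⁻¹ * v ∈ fac M {j} := by
    refine ⟨mul_mem (inv_mem hw.1) hv, fun x hx => ?_⟩
    have hxi : x = i := by
      have : x ∈ ({j} : Set (Fin 2))ᶜ := hx
      rwa [compl_two hij.symm] at this
    rw [M.mul _ (inv_mem hw.1) v hv, e_inv M hw.1, Pi.add_apply, Pi.neg_apply, hxi, hwi i rfl, neg_add_cancel]
  have e : v = w * (w⁻¹ * v) := by group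
  rw [e]
  exact mul_mem (mem_sup_left hw) (mem_sup_right h1)

end two

section exists_sit

variable [Finite G] {S : Sylow 2 G} {P : Subgroup G} {F : Type} [Field F]

theorem smul_fac {T H V : Subgroup G} {k : ℕ} {M : NatK F T H V ⊥ k} (hA : Amb T H V) {g : G} (hg : g ∈ H)
    {σ : Equiv.Perm (Fin k)} (hσ : Mv M g σ) (B : Set (Fin k)) :
    MulAut.conj g • fac M B = fac M (σ '' B) := by
  apply le_antisymm
  · intro x hx
    rw [NoFF.Basic.mem_conj] at hx
    have h1 := hσ.conj M hA hg hx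
    have e : g * (g⁻¹ * x * g) * g⁻¹ = x := by group
    rwa [e] at h1
  · intro x hx
    rw [NoFF.Basic.mem_conj]
    have h1 := (hσ.inv M hA hg).conj M hA (inv_mem hg) hx
    have h2 : σ.symm '' (σ '' B) = B := by
      rw [← Set.image_comp]
      simp
    rw [h2, inv_inv] at h1
    exact h1

/-- **(1), (2)**: the situation. -/
theorem exists_sit (h : Hyp S P) (hq : Nat.card F = 2)
    (M : NatK F (S : Subgroup G) P (zl (S : Subgroup G) P) ⊥ 2)
    (hno : ∀ P' : Subgroup G, IsParS (S : Subgroup G) P' → NonLoc P' (CZ (S : Subgroup G)) →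
      Nat.card (zl (S : Subgroup G) P') ≠ 4) :
    Sit S P (So M {0}) (fun i => fac M {i}) (fun i => pt M {i}) := by
  have hA := amb h
  have hB : ∀ i : Fin 2, Blk M {i} := blk_two M
  have hT : ∀ i : Fin 2, So M {0} = So M {i} := by
    intro i
    by_cases hi : i = 0
    · rw [hi]
    · rw [← compl_two (i := i) (j := 0) hi, So_compl hA (hB i)]
  have huniv : pt M {(0 : Fin 2)} * pt M {(1 : Fin 2)} = pt M Set.univ := by
    rw [← compl_two (i := 0) (j := 1) (by decide), pt_mul]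
  constructor
  · exact h
  · exact fun i => hT i
  · exact card_So hA (hB 0)
  · exact fun i => fac_le M _
  · exact fun i => card_fac M hq i
  · intro i j hij
    rw [eq_bot_iff]
    rintro x ⟨h1, h2⟩
    rw [mem_bot]
    refine fac_inf_compl M (B := {i}) h1 ?_
    rw [compl_two hij]
    exact h2
  · exact fun i j hij => le_fac_sup M hij
  · exact fun i => pt_mem M _
  · exact fun i => pt_ne M ⟨i, rfl⟩
  · intro i t ht
    exact fix hq hA (hB i) (hT i ▸ ht)
  · intro x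
    rw [mem_zc_So_iff hq hA (hB 0), compl_two (i := 0) (j := 1) (by decide), huniv]
  · intro x
    rw [mem_zc_iff hq hA (hB 0), huniv]
  · obtain ⟨s, hs, hns⟩ := exists_swap hA (hB 0)
    refine ⟨s, hs, So_mul hA (hB 0) hs hs hns hns, fun i j hij => ?_⟩
    have hnsi : s ∉ So M {i} := by rwa [← hT i]
    obtain ⟨σ, hσ⟩ := exists_mv (M := M) hA hs
    have h1 := (hB i).blk s hs σ hσ
    have h2 : σ '' {i} = {j} := by
      rw [← compl_two hij]
      exact h1.resolve_left fun h3 => hnsi ((mem_So hA (hB i) hs hσ).2 h3)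
    refine ⟨?_, ?_⟩
    · rw [smul_fac hA (hA.TH hs) hσ, h2]
    · rw [conj_pt hq hA hs hσ, h2]
  · intro p hp
    obtain ⟨σ, hσ⟩ := M.perm p hp
    refine ⟨σ, fun i => ?_⟩
    rw [smul_fac hA hp hσ, Set.image_singleton]
  · intro i j hij x hx hx1
    have hxi : M.e x i ≠ 0 := by
      intro h0
      apply hx1
      apply eq_one M hx.1
      funext y
      by_cases hy : y = i
      · rw [hy, h0]; rfl
      · exact hx.2 y hy
    have hvi : M.e (pt M {i}) i ≠ 0 := by
      rw [e_pt_mem M (B := {i}) (i := i) rfl]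
      exact e11_ne
    obtain ⟨A, hAx⟩ := exists_ap hvi hxi
    obtain ⟨l, hl, hlA, -⟩ := M.lift (Function.update 1 i A)
    have h1 : ∀ v ∈ zl (S : Subgroup G) P, M.e (l * v * l⁻¹) i = ap A (M.e v i) := fun v hv => by
      rw [hlA v hv i, Function.update_self]
    have h2 : ∀ v ∈ zl (S : Subgroup G) P, ∀ y, y ≠ i → M.e (l * v * l⁻¹) y = M.e v y := fun v hv y hy => by
      rw [hlA v hv y, Function.update_of_ne hy, Pi.one_apply, ap_one]
    have hmv : Mv M l 1 := by
      intro v hv y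
      rw [Equiv.Perm.one_apply]
      by_cases hy : y = i
      · rw [hy, h1 v hv]
        constructor
        · intro h3
          have h4 : ap A⁻¹ (ap A (M.e v i)) = M.e v i := Cfsg.Agent.Omega.NatPair.ap_inv_ap _ _
          rw [h3, ap_zero] at h4
          exact h4.symm
        · intro h3
          rw [h3, ap_zero]
      · rw [h2 v hv y hy]
    refine ⟨l, hl, ?_, ?_, ?_⟩
    · refine mem_centralizer_fac hA hl (fun v hv y hy h0 => ?_) fun v hv y hy => ?_
      · have hyi : y = i := by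
          have : y ∈ ({j} : Set (Fin 2))ᶜ := hy
          rwa [compl_two hij.symm] at this
        rw [hyi] at h0 ⊢
        rw [h1 v hv, h0, ap_zero]
      · exact h2 v hv y fun h3 => hij (h3.symm.trans hy)
    · rw [smul_fac hA hl hmv]
      simp
    · apply inj M (hA.conj_mem hl (pt_V M _)) hx.1
      funext y
      by_cases hy : y = i
      · rw [hy, h1 _ (pt_V M _), hAx]
      · rw [h2 _ (pt_V M _) y hy, hx.2 y hy]
        exact e_pt_not M (B := {i}) hy
  · intro K hS hK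
    refine gen_fac hA (M := M) (B := {0}) hS (hK 0) ?_
    rw [compl_two (i := 0) (j := 1) (by decide)]
    exact hK 1
  · intro i
    rw [hT i]
    exact syl_centralizer h hq (hB i) hno
  · intro i
    rw [hT i]
    exact syl_normalizer h hq (hB i) hno
  · intro i j hij
    exact app_two h.ctx.char2 S M hA hij (pt_mem M _) (pt_ne M ⟨i, rfl⟩)

end exists_sit

end Cfsg.Agent.Omega.OM.KTwo

end

section


/-!
# NO-3S, `k = 2`, `q = 2`: (2), (3) of helper790 #14826

`D : Sit S P T U v`, `C i = C_G(v i)`, `Q i = O₂(C i)`.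

* `le_o2_of_commutator` : a subgroup of `C` acting trivially on `O₂(C) / Z₀` and on `Z₀` lies in `O₂(C)`;
* `Sit.U_le_Q` : `U i ≤ Q i`;
* `Sit.lift` : two conjugates of the `U i` which normalise each other commute;
* `W D i = ⟨U i ^ C i⟩ ≤ Q i`, `N D i = ⟨U j ^ C i⟩ ≤ Z(Q i)`; `Sit.WN_comm`, `Sit.WN_sq` : `W i N i` is elementary
  abelian.
-/

set_option autoImplicit false
set_option linter.unusedSectionVars false

namespace Cfsg.Agent.Omega.OM.KTwo

open Subgroup Cfsg Cfsg.Agent.ZN Cfsg.Agent.Omega.MinPar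
open Cfsg.Agent.Omega.NO3S Cfsg.Agent.Omega.FrameNOFF
open Cfsg.Agent.Omega.NoFF.Basic (conj_conj mem_conj conj_le_iff conj_le_centralizer comm_symm comm_mono)
open Cfsg.Agent.Omega.NOThreeL.Pair (conj_eq_of_mem conj_le_normalizer)
open Cfsg.Agent.ZN.ChoiceSit (Syl exists_syl syl_conj o2_le_syl)
open Cfsg.Agent.MinSimple.VModule (mem_zc zc_le normalizer_le_normalizer_zc zc_le_zl le_normalizer_zl zl_le
  le_normalizer_o2 le_o2 o2_le o2_isPGroup)
open scoped Pointwise

universe u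

variable {G : Type u} [Group G]

/-! ### Stability -/

/-- `A ≤ C` acts trivially on `O₂(C) / Z₀`, `Z₀` central in `C` of exponent 2, `C_C(O₂(C)) ≤ O₂(C)`: `A ≤ O₂(C)`. -/
theorem le_o2_of_commutator {C A Z₀ : Subgroup G} (hC : C ⊓ centralizer (o2 C : Set G) ≤ o2 C)
    (hZc : ∀ c ∈ C, ∀ z ∈ Z₀, c * z = z * c) (hsq : ∀ z ∈ Z₀, z * z = 1)
    (hAC : A ≤ C) (hA : ∀ a ∈ A, ∀ q ∈ o2 C, a * q * a⁻¹ * q⁻¹ ∈ Z₀) : A ≤ o2 C := by
  have hq : ∀ c ∈ C, ∀ q ∈ o2 C, c * q * c⁻¹ ∈ o2 C := fun c hc q hq =>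
    (mem_normalizer_iff.1 (le_normalizer_o2 C hc) q).1 hq
  have hqi : ∀ c ∈ C, ∀ q ∈ o2 C, c⁻¹ * q * c ∈ o2 C := fun c hc q hq' => by
    have := hq c⁻¹ (inv_mem hc) q hq'
    rwa [inv_inv] at this
  let K : Subgroup G :=
    { carrier := {x | x ∈ C ∧ ∀ q ∈ o2 C, x * q * x⁻¹ * q⁻¹ ∈ Z₀}
      one_mem' := ⟨one_mem C, fun q _ => by simp⟩
      mul_mem' := by
        rintro x y ⟨hx, h1⟩ ⟨hy, h2⟩
        refine ⟨mul_mem hx hy, fun q hq' => ?_⟩
        have h3 := h2 q hq'
        have h4 := h1 q hq'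
        have h5 := hZc x hx _ h3
        have e : x * y * q * (x * y)⁻¹ * q⁻¹ = x * (y * q * y⁻¹ * q⁻¹) * (q * x⁻¹ * q⁻¹) := by group
        rw [e, h5]
        have e2 : y * q * y⁻¹ * q⁻¹ * x * (q * x⁻¹ * q⁻¹) = y * q * y⁻¹ * q⁻¹ * (x * q * x⁻¹ * q⁻¹) := by group
        rw [e2]
        exact mul_mem h3 h4
      inv_mem' := by
        rintro x ⟨hx, h1⟩
        refine ⟨inv_mem hx, fun q hq' => ?_⟩
        have h2 := h1 _ (hqi x hx q hq')
        have e : x⁻¹ * q * x⁻¹⁻¹ * q⁻¹ = (x * (x⁻¹ * q * x) * x⁻¹ * (x⁻¹ * q * x)⁻¹)⁻¹ := by group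
        rw [e]
        exact inv_mem h2 }
  have hKC : K ≤ C := fun x hx => hx.1
  have hAK : A ≤ K := fun a ha => ⟨hAC ha, hA a ha⟩
  have key : ∀ c ∈ C, ∀ x ∈ K, c * x * c⁻¹ ∈ K := by
    intro c hc x hx
    refine ⟨mul_mem (mul_mem hc hx.1) (inv_mem hc), fun q hq' => ?_⟩
    have h1 := hx.2 _ (hqi c hc q hq')
    have h2 := hZc c hc _ h1
    have e : c * x * c⁻¹ * q * (c * x * c⁻¹)⁻¹ * q⁻¹ =
        c * (x * (c⁻¹ * q * c) * x⁻¹ * (c⁻¹ * q * c)⁻¹) * c⁻¹ := by group
    rw [e, h2, mul_inv_cancel_right]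
    exact h1
  have hn : C ≤ normalizer (K : Set G) := by
    intro c hc
    rw [mem_normalizer_iff]
    intro x
    refine ⟨key c hc x, fun hx => ?_⟩
    have := key c⁻¹ (inv_mem hc) _ hx
    simpa [mul_assoc] using this
  have hK2 : IsPGroup 2 K := by
    rintro ⟨x, hx⟩
    have h1 : x * x ∈ o2 C := by
      apply hC
      refine ⟨mul_mem hx.1 hx.1, mem_centralizer_iff.2 fun q hq' => ?_⟩
      have h2 := hx.2 q hq'
      have h3 := hZc x hx.1 _ h2
      have h4 := hsq _ h2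
      -- `x q x⁻¹ = c q`
      have h5 : x * q = (x * q * x⁻¹ * q⁻¹) * q * x := by group
      generalize x * q * x⁻¹ * q⁻¹ = c at h3 h4 h5
      symm
      calc x * x * q = x * (x * q) := by group
        _ = x * (c * q * x) := by rw [h5]
        _ = (x * c) * q * x := by group
        _ = c * (x * q) * x := by rw [h3]; group
        _ = c * (c * q * x) * x := by rw [h5]
        _ = (c * c) * q * (x * x) := by group
        _ = q * (x * x) := by rw [h4, one_mul]
    obtain ⟨n, hn⟩ := o2_isPGroup C ⟨_, h1⟩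
    refine ⟨n + 1, Subtype.ext ?_⟩
    have h2 := congrArg Subtype.val hn
    simp only [SubgroupClass.coe_pow, OneMemClass.coe_one] at h2 ⊢
    rw [pow_succ', pow_mul, pow_two]
    exact h2
  exact hAK.trans (le_o2 hKC hK2 hn)

namespace Sit

variable [Finite G] {S : Sylow 2 G} {P T : Subgroup G} {U : Fin 2 → Subgroup G} {v : Fin 2 → G}
  (D : Sit S P T U v)

theorem exists_ne (i : Fin 2) : ∃ j, i ≠ j := ⟨1 - i, by revert i; decide⟩

include D

/-! ### Easy facts -/

theorem comm {a b : G} (ha : a ∈ zl (S : Subgroup G) P) (hb : b ∈ zl (S : Subgroup G) P) : a * b = b * a :=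
  (amb D.hyp).comm a ha b hb

theorem sq {a : G} (ha : a ∈ zl (S : Subgroup G) P) : a * a = 1 := by
  have := (amb D.hyp).sq a ha
  rwa [pow_two] at this

theorem T_le : T ≤ (S : Subgroup G) := by
  rw [D.T_eq 0]
  exact inf_le_left

theorem T_isPGroup : IsPGroup 2 T := S.isPGroup'.to_le D.T_le

theorem T_le_N (i : Fin 2) : T ≤ normalizer (U i : Set G) := by
  rw [D.T_eq i]
  exact inf_le_right

theorem S_le_P : (S : Subgroup G) ≤ P := D.hyp.star.isLoc.le

theorem V_le_T : zl (S : Subgroup G) P ≤ T := by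
  rw [D.T_eq 0]
  refine le_inf D.hyp.V_le_S fun x hx => ?_
  rw [mem_normalizer_iff]
  intro y
  constructor
  · intro hy
    have : x * y * x⁻¹ = y := by rw [D.comm hx (D.le 0 hy)]; group
    rwa [this]
  · intro hy
    have h1 := D.comm hx (D.le 0 hy)
    have h2 : y = x * y * x⁻¹ := by
      have h3 : x * (x * y * x⁻¹) = x * y := by rw [h1]; group
      exact (mul_left_cancel h3).symm
    rwa [h2]

theorem U_le_T (i : Fin 2) : U i ≤ T := (D.le i).trans D.V_le_T

theorem T_le_C (i : Fin 2) : T ≤ centralizer ({v i} : Set G) := (D.syl i).1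

theorem v_sq (i : Fin 2) : v i * v i = 1 := D.sq (D.le i (D.mem i))

theorem v_sq' (i : Fin 2) : v i ^ 2 = 1 := by rw [pow_two]; exact D.v_sq i

theorem char2 (i : Fin 2) : centralizer ({v i} : Set G) ⊓
    centralizer (o2 (centralizer ({v i} : Set G)) : Set G) ≤ o2 (centralizer ({v i} : Set G)) :=
  MinSimple.Basic.char2_centralizer D.hyp.ctx.char2 (D.v_sq' i) (D.ne i)

theorem v_mem_Q (i : Fin 2) : v i ∈ o2 (centralizer ({v i} : Set G)) := by
  apply D.char2 i
  refine ⟨mem_centralizer_singleton_iff.2 rfl, mem_centralizer_iff.2 fun q hq => ?_⟩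
  exact mem_centralizer_singleton_iff.1 (o2_le _ hq)

theorem Q_le_T (i : Fin 2) : o2 (centralizer ({v i} : Set G)) ≤ T := o2_le_syl (D.syl i)

/-- `U i ≤ X` as soon as a subgroup `X ≤ U i` contains `v i` and another involution. -/
theorem le_or {i : Fin 2} {X : Subgroup G} (hv : v i ∈ X) :
    U i ≤ X ∨ ∀ x ∈ U i ⊓ X, x = 1 ∨ x = v i := by
  by_cases hc : ∀ x ∈ U i ⊓ X, x = 1 ∨ x = v i
  · exact Or.inr hc
  left
  push Not at hc
  obtain ⟨x, ⟨hxU, hxX⟩, hx1, hxv⟩ := hc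
  intro y hy
  by_cases hy1 : y = 1
  · rw [hy1]; exact one_mem X
  rcases NO3S.eq_of_card_four (D.four i) (fun a ha => (amb D.hyp).sq a (D.le i ha)) (D.mem i) (D.ne i) hxU hx1
    (Ne.symm hxv) hy hy1 with h | h | h
  · rw [h]; exact hv
  · rw [h]; exact hxX
  · rw [h]; exact mul_mem hv hxX

/-! ### (2) -/

/-- **(2)** `U i ≤ O₂(C_G(v i))`. -/
theorem U_le_Q (i : Fin 2) : U i ≤ o2 (centralizer ({v i} : Set G)) := by
  rcases D.le_or (D.v_mem_Q i) with h | h
  · exact h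
  have hUC : U i ≤ centralizer ({v i} : Set G) := (D.U_le_T i).trans (D.T_le_C i)
  refine le_o2_of_commutator (Z₀ := zpowers (v i)) (D.char2 i) ?_ ?_ hUC ?_
  · intro c hc z hz
    obtain ⟨n, rfl⟩ := mem_zpowers_iff.1 hz
    have h1 : Commute c (v i) := mem_centralizer_singleton_iff.1 hc
    exact (h1.zpow_right n).eq
  · intro z hz
    obtain ⟨n, rfl⟩ := mem_zpowers_iff.1 hz
    rw [← zpow_add, ← two_mul, zpow_mul]
    have : v i ^ (2 : ℤ) = 1 := by
      have := D.v_sq' i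
      exact_mod_cast this
    rw [this, one_zpow]
  · intro a ha q hq
    have h1 : a * q * a⁻¹ ∈ o2 (centralizer ({v i} : Set G)) :=
      (mem_normalizer_iff.1 (le_normalizer_o2 _ (hUC ha)) q).1 hq
    have h2 : q * a⁻¹ * q⁻¹ ∈ U i :=
      (mem_normalizer_iff.1 (D.T_le_N i (D.Q_le_T i hq)) _).1 (inv_mem ha)
    have h3 : a * q * a⁻¹ * q⁻¹ ∈ U i ⊓ o2 (centralizer ({v i} : Set G)) := by
      refine ⟨?_, (o2 (centralizer ({v i} : Set G))).mul_mem h1 (inv_mem hq)⟩
      have e : a * q * a⁻¹ * q⁻¹ = a * (q * a⁻¹ * q⁻¹) := by group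
      rw [e]
      exact mul_mem ha h2
    rcases h _ h3 with h4 | h4
    · rw [h4]; exact one_mem _
    · rw [h4]; exact mem_zpowers _

theorem V_le_Q (i : Fin 2) : zl (S : Subgroup G) P ≤ o2 (centralizer ({v i} : Set G)) := by
  obtain ⟨j, hij⟩ := exists_ne i
  exact (D.sup i j hij).trans (sup_le (D.U_le_Q i) (D.half i j hij).1)

/-! ### (3) -/

/-- a 2-subgroup of `N_{C i}(U i)` is in a conjugate of `T` under this group -/
theorem exists_le_conj_T (i : Fin 2) {E : Subgroup G} (hE : IsPGroup 2 E)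
    (h1 : E ≤ centralizer ({v i} : Set G)) (h2 : E ≤ normalizer (U i : Set G)) :
    ∃ a ∈ centralizer ({v i} : Set G), a ∈ normalizer (U i : Set G) ∧ E ≤ MulAut.conj a • T := by
  have hS : Syl T (centralizer ({v i} : Set G) ⊓ normalizer (U i : Set G)) :=
    ⟨le_inf (D.T_le_C i) (D.T_le_N i), D.T_isPGroup, fun R hR hR2 hTR => (D.syl i).2.2 R (hR.trans inf_le_left)
      hR2 hTR⟩
  obtain ⟨R, hR, hER⟩ := exists_syl hE (le_inf h1 h2)
  obtain ⟨a, ha, haR⟩ := syl_conj hS hR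
  refine ⟨a, ha.1, ha.2, ?_⟩
  have : MulAut.conj a • T = R := haR
  rw [this]
  exact hER

theorem conj_Q {i : Fin 2} {c : G} (hc : c ∈ centralizer ({v i} : Set G)) :
    MulAut.conj c • o2 (centralizer ({v i} : Set G)) = o2 (centralizer ({v i} : Set G)) :=
  conj_eq_of_mem (le_normalizer_o2 _ hc)

theorem conj_C {i : Fin 2} {c : G} (hc : c ∈ centralizer ({v i} : Set G)) :
    MulAut.conj c • centralizer ({v i} : Set G) = centralizer ({v i} : Set G) :=
  NoFF.Basic.conj_self hc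

theorem Q_le_conj_T {i : Fin 2} {c : G} (hc : c ∈ centralizer ({v i} : Set G)) :
    o2 (centralizer ({v i} : Set G)) ≤ MulAut.conj c • T := by
  rw [← D.conj_Q hc]
  exact conj_le_iff.2 (D.Q_le_T i)

omit D in
theorem conj_isPGroup {g : G} {A : Subgroup G} (h : IsPGroup 2 A) : IsPGroup 2 (MulAut.conj g • A : Subgroup G) :=
  ChoiceBase.isPGroup_cj g h

theorem T_le_P : T ≤ P := D.T_le.trans D.S_le_P

theorem U_isPGroup (i : Fin 2) : IsPGroup 2 (U i) := D.T_isPGroup.to_le (D.U_le_T i)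

/-- (3), the case of a common point -/
theorem lift_point (i : Fin 2) {h : G} (hh : h ∈ centralizer ({v i} : Set G))
    (h1 : U i ≤ normalizer ((MulAut.conj h • U i : Subgroup G) : Set G))
    (h2 : MulAut.conj h • U i ≤ normalizer (U i : Set G)) :
    U i ≤ centralizer ((MulAut.conj h • U i : Subgroup G) : Set G) := by
  obtain ⟨j, hij⟩ := exists_ne i
  have hUC : U i ≤ centralizer ({v i} : Set G) := (D.U_le_T i).trans (D.T_le_C i)
  obtain ⟨a, ha, haN, haT⟩ := D.exists_le_conj_T i (E := MulAut.conj h • U i) (conj_isPGroup (D.U_isPGroup i))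
    (by
      have := conj_le_iff (g := h).2 hUC
      rwa [D.conj_C hh] at this) h2
  have hh' : h⁻¹ ∈ centralizer ({v i} : Set G) := inv_mem hh
  obtain ⟨b, hb, hbN, hbT⟩ := D.exists_le_conj_T i (E := MulAut.conj h⁻¹ • U i) (conj_isPGroup (D.U_isPGroup i))
    (by
      have := conj_le_iff (g := h⁻¹).2 hUC
      rwa [D.conj_C hh'] at this) (by
      have := conj_le_normalizer (g := h⁻¹) h1
      rwa [conj_conj, inv_mul_cancel, map_one, one_smul] at this)
  have hbT' : U i ≤ MulAut.conj (h * b) • T := by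
    have := conj_le_iff (g := h).2 hbT
    rwa [conj_conj, mul_inv_cancel, map_one, one_smul, conj_conj] at this
  have hhb : h * b ∈ centralizer ({v i} : Set G) := mul_mem hh hb
  have haU : MulAut.conj a • U i = U i := conj_eq_of_mem haN
  have hhbU : MulAut.conj (h * b) • U i = MulAut.conj h • U i := by
    rw [← conj_conj, conj_eq_of_mem hbN]
  have hUj : ∀ c ∈ centralizer ({v i} : Set G), MulAut.conj c • U j ≤ o2 (centralizer ({v i} : Set G)) := by
    intro c hc
    rw [← D.conj_Q hc]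
    exact conj_le_iff.2 (D.half i j hij).1
  have hTP : ∀ c : G, MulAut.conj c • T ≤ MulAut.conj c • P := fun c => conj_le_iff.2 D.T_le_P
  -- the lines `V^a`, `V^(hb)` normalise each other
  have hVa : MulAut.conj a • zl (S : Subgroup G) P ≤ MulAut.conj (h * b) • P := by
    refine le_trans ?_ (hTP _)
    refine (conj_le_iff.2 (D.sup i j hij)).trans ?_
    rw [Subgroup.smul_sup]
    refine sup_le ?_ ((hUj a ha).trans (D.Q_le_conj_T hhb))
    rw [haU]
    exact hbT'
  have hVb : MulAut.conj (h * b) • zl (S : Subgroup G) P ≤ MulAut.conj a • P := by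
    refine le_trans ?_ (hTP _)
    refine (conj_le_iff.2 (D.sup i j hij)).trans ?_
    rw [Subgroup.smul_sup]
    refine sup_le ?_ ((hUj _ hhb).trans (D.Q_le_conj_T ha))
    rw [hhbU]
    exact haT
  have hfin := D.hyp.geo.toSys.noff' (Set.mem_singleton P) (Set.mem_singleton P) hVa hVb
  have hfin' := comm_mono hfin (conj_le_iff (g := a).2 (D.le i)) (conj_le_iff (g := h * b).2 (D.le i))
  rwa [haU, hhbU] at hfin'

/-- (3) for conjugates of the same `U i` -/
theorem lift_same (i : Fin 2) (g : G)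
    (h1 : U i ≤ normalizer ((MulAut.conj g • U i : Subgroup G) : Set G))
    (h2 : MulAut.conj g • U i ≤ normalizer (U i : Set G)) :
    U i ≤ centralizer ((MulAut.conj g • U i : Subgroup G) : Set G) := by
  obtain ⟨j, hij⟩ := exists_ne i
  by_contra hcon
  obtain ⟨a, ha, b, hb, hab⟩ : ∃ a ∈ U i, ∃ b ∈ MulAut.conj g • U i, b * a ≠ a * b := by
    by_contra h
    push Not at h
    exact hcon fun a ha => mem_centralizer_iff.2 fun b hb => h a ha b hb
  set c := a * b * a⁻¹ * b⁻¹ with hc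
  have hc1 : c ≠ 1 := by
    intro h
    apply hab
    rw [hc, mul_inv_eq_one] at h
    rw [← mul_inv_eq_iff_eq_mul.1 h]
  have hcU : c ∈ U i := by
    have e : c = a * (b * a⁻¹ * b⁻¹) := by rw [hc]; group
    rw [e]
    exact mul_mem ha ((mem_normalizer_iff.1 (h2 hb) _).1 (inv_mem ha))
  have hcU' : c ∈ MulAut.conj g • U i :=
    mul_mem ((mem_normalizer_iff.1 (h1 ha) _).1 hb) (inv_mem hb)
  obtain ⟨l, -, -, hlU, hlc⟩ := D.tr i j hij c hcU hc1
  have hcg : g⁻¹ * c * g ∈ U i := mem_conj.1 hcU'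
  obtain ⟨l', -, -, hlU', hlc'⟩ := D.tr i j hij _ hcg (by
    intro h
    apply hc1
    have h3 := congrArg (fun t => g * t * g⁻¹) h
    simpa [mul_assoc] using h3)
  have hh : l⁻¹ * g * l' ∈ centralizer ({v i} : Set G) := by
    rw [mem_centralizer_singleton_iff]
    have h3 : l' * v i = g⁻¹ * c * g * l' := by rw [← hlc']; group
    have h4 : c = l * v i * l⁻¹ := hlc.symm
    calc l⁻¹ * g * l' * v i = l⁻¹ * g * (l' * v i) := by group
      _ = l⁻¹ * c * g * l' := by rw [h3]; group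
      _ = v i * (l⁻¹ * g * l') := by rw [h4]; group
  have e1 : MulAut.conj l • (MulAut.conj (l⁻¹ * g * l') • U i) = MulAut.conj g • U i := by
    rw [conj_conj]
    have e2 : l * (l⁻¹ * g * l') = g * l' := by group
    rw [e2, ← conj_conj, hlU']
  apply hcon
  have hmain := D.lift_point i hh ?_ ?_
  · have h3 := conj_le_centralizer (g := l) hmain
    rwa [e1, hlU] at h3
  · rw [← conj_le_iff (g := l), hlU]
    refine h1.trans ?_
    rw [← e1, NoFF.Main.normalizer_conj]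
  · rw [← conj_le_iff (g := l), e1]
    refine h2.trans ?_
    rw [← NoFF.Main.normalizer_conj, hlU]

/-- **(3) LIFT**: two conjugates of `U 0`, `U 1` which normalise each other commute. -/
theorem lift (i j : Fin 2) (g g' : G)
    (h1 : MulAut.conj g • U i ≤ normalizer ((MulAut.conj g' • U j : Subgroup G) : Set G))
    (h2 : MulAut.conj g' • U j ≤ normalizer ((MulAut.conj g • U i : Subgroup G) : Set G)) :
    MulAut.conj g • U i ≤ centralizer ((MulAut.conj g' • U j : Subgroup G) : Set G) := by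
  -- `U j` is a conjugate of `U i`
  obtain ⟨s, hs⟩ : ∃ s : G, MulAut.conj s • U i = U j := by
    by_cases hij : i = j
    · exact ⟨1, by rw [map_one, one_smul, hij]⟩
    · obtain ⟨s, -, -, h⟩ := D.swap
      exact ⟨s, (h i j hij).1⟩
  have hx : MulAut.conj g • (MulAut.conj (g⁻¹ * g' * s) • U i) = MulAut.conj g' • U j := by
    rw [conj_conj]
    have e2 : g * (g⁻¹ * g' * s) = g' * s := by group
    rw [e2, ← conj_conj, hs]
  have hmain := D.lift_same i (g⁻¹ * g' * s) ?_ ?_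
  · have h3 := conj_le_centralizer (g := g) hmain
    rwa [hx] at h3
  · rw [← conj_le_iff (g := g)]
    refine h1.trans ?_
    rw [← hx, NoFF.Main.normalizer_conj]
  · rw [← conj_le_iff (g := g), hx]
    refine h2.trans ?_
    rw [NoFF.Main.normalizer_conj]

end Sit

end Cfsg.Agent.Omega.OM.KTwo

end
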